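import Mathlib

/-!
# Counting lemmas for the exclusion of `(q, k) = (5, -3)`
-/

set_option autoImplicit false

namespace Cfsg.Agent.Classification.InvCentU.FiveLib

theorem card_dvd_of_free {A X : Type*} [Group A] [Finite A] [Finite X] [MulAction A X]
    (h : ∀ a : A, ∀ x : X, a • x = x → a = 1) : Nat.card A ∣ Nat.card X := by
  classical
  rw [Nat.card_congr (MulAction.selfEquivSigmaOrbitsQuotientStabilizer A X)]
  have := Fintype.ofFinite (Quotient (MulAction.orbitRel A X))
  rw [Nat.card_sigma]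
  refine Finset.dvd_sum fun w _ => ?_
  have h1 : MulAction.stabilizer A (w.out : X) = ⊥ := by
    rw [eq_bot_iff]
    intro a ha
    exact h a _ (MulAction.mem_stabilizer_iff.1 ha)
  rw [h1, ← Subgroup.index, Subgroup.index_bot]

/-- `|K : C_K(t)| ≡ 1 mod |A|` for a group `K` of odd order normalized by the group `A`
containing `t` in its centre such that `t` is a power of every nontrivial element of `A`. -/
theorem index_mod {G : Type*} [Group G] [Finite G] (K A : Subgroup G) {t : G} (ht : t * t = 1)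
    (hK : Odd (Nat.card K)) (hAK : ∀ a ∈ A, ∀ x ∈ K, a * x * a⁻¹ ∈ K) (htA : t ∈ A)
    (hAt : ∀ a ∈ A, a * t = t * a) (hA : ∀ a ∈ A, a ≠ 1 → t ∈ Subgroup.zpowers a) :
    ∃ m : ℕ, Nat.card K = (m * Nat.card A + 1) *
      Nat.card (K ⊓ Subgroup.centralizer ({t} : Set G) : Subgroup G) := by
  classical
  let _ : MulAction K G := MulAction.compHom G (MulAut.conj.comp K.subtype)
  have hsm : ∀ (k : K) (x : G), k • x = (k : G) * x * (k : G)⁻¹ := fun k x => rfl
  have hmem : ∀ x : G, x ∈ MulAction.orbit K t ↔ ∃ k ∈ K, k * t * k⁻¹ = x := by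
    intro x
    constructor
    · rintro ⟨k, rfl⟩
      exact ⟨k, k.2, rfl⟩
    · rintro ⟨k, hk, rfl⟩
      exact ⟨⟨k, hk⟩, rfl⟩
  have h1 : Nat.card (MulAction.orbit K t) * Nat.card (MulAction.stabilizer K t) = Nat.card K := by
    have := Fintype.ofFinite K
    have := Fintype.ofFinite (MulAction.orbit K t)
    have := Fintype.ofFinite (MulAction.stabilizer K t)
    have h2 := MulAction.card_orbit_mul_card_stabilizer_eq_card_group K t
    simpa only [Nat.card_eq_fintype_card] using h2
  have h2 : Nat.card (MulAction.stabilizer K t) =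
      Nat.card (K ⊓ Subgroup.centralizer ({t} : Set G) : Subgroup G) := by
    refine Nat.card_congr
      { toFun := fun k => ⟨k.1, k.1.2, ?_⟩
        invFun := fun k => ⟨⟨k.1, k.2.1⟩, ?_⟩
        left_inv := fun k => rfl
        right_inv := fun k => rfl }
    · have h3 : (k.1 : G) * t * (k.1 : G)⁻¹ = t := MulAction.mem_stabilizer_iff.1 k.2
      exact Subgroup.mem_centralizer_singleton_iff.2 (mul_inv_eq_iff_eq_mul.1 h3)
    · rw [MulAction.mem_stabilizer_iff]
      have h3 := Subgroup.mem_centralizer_singleton_iff.1 k.2.2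
      exact mul_inv_eq_iff_eq_mul.2 h3
  -- the action of `A` on the other elements of the orbit
  let X : Type _ := {x : G // x ∈ MulAction.orbit K t ∧ x ≠ t}
  have hact : ∀ a ∈ A, ∀ x : G, x ∈ MulAction.orbit K t ∧ x ≠ t →
      a * x * a⁻¹ ∈ MulAction.orbit K t ∧ a * x * a⁻¹ ≠ t := by
    rintro a ha x ⟨hx, hxt⟩
    obtain ⟨k, hk, rfl⟩ := (hmem _).1 hx
    refine ⟨(hmem _).2 ⟨a * k * a⁻¹, hAK a ha k hk, ?_⟩, ?_⟩
    · have h4 : a⁻¹ * t * a = t := by rw [mul_assoc, ← hAt a ha]; group
      calc a * k * a⁻¹ * t * (a * k * a⁻¹)⁻¹ = a * k * (a⁻¹ * t * a) * k⁻¹ * a⁻¹ := by group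
        _ = a * (k * t * k⁻¹) * a⁻¹ := by rw [h4]; group
    · intro h4
      apply hxt
      calc k * t * k⁻¹ = a⁻¹ * (a * (k * t * k⁻¹) * a⁻¹) * a := by group
        _ = a⁻¹ * t * a := by rw [h4]
        _ = t := by rw [mul_assoc, ← hAt a ha]; group
  let _ : MulAction A X :=
    { smul := fun a x => ⟨(a : G) * x.1 * (a : G)⁻¹, hact a a.2 x.1 x.2⟩
      one_smul := fun x => Subtype.ext (by change (1 : G) * x.1 * (1 : G)⁻¹ = x.1; simp)
      mul_smul := fun a b x => Subtype.ext (by
        change ((a : G) * b) * x.1 * ((a : G) * b)⁻¹ = a * (b * x.1 * (b : G)⁻¹) * (a : G)⁻¹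
        group) }
  have hfree : ∀ a : A, ∀ x : X, a • x = x → a = 1 := by
    intro a x hax
    by_contra ha1
    have h4 : (a : G) * x.1 * (a : G)⁻¹ = x.1 := congrArg Subtype.val hax
    have h5 : Commute (a : G) x.1 := mul_inv_eq_iff_eq_mul.1 h4
    obtain ⟨n, hn⟩ := Subgroup.mem_zpowers_iff.1 (hA a a.2 (fun h6 => ha1 (Subtype.ext h6)))
    have h6 : Commute t x.1 := by
      have h6' := h5.zpow_left n
      rwa [hn] at h6'
    -- `t x ∈ K` and `(t x)² = 1`
    obtain ⟨k, hk, hkx⟩ := (hmem _).1 x.2.1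
    have h7 : t * x.1 ∈ K := by
      rw [← hkx]
      have h8 : t * (k * t * k⁻¹) = (t * k * t⁻¹) * (t * t) * k⁻¹ := by group
      rw [h8, ht, mul_one]
      exact mul_mem (hAK t htA k hk) (inv_mem hk)
    have h8 : (t * x.1) ^ 2 = 1 := by
      rw [h6.mul_pow, pow_two, ht, one_mul, ← hkx, pow_two]
      calc k * t * k⁻¹ * (k * t * k⁻¹) = k * (t * t) * k⁻¹ := by group
        _ = 1 := by rw [ht]; group
    have h9 : t * x.1 = 1 := by
      have h10 : orderOf (t * x.1) ∣ 2 := orderOf_dvd_of_pow_eq_one h8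
      have h11 : orderOf (t * x.1) ∣ Nat.card K := by
        have := orderOf_dvd_natCard (⟨t * x.1, h7⟩ : K)
        rwa [Subgroup.orderOf_mk] at this
      have h12 : Nat.Coprime 2 (Nat.card K) := (Nat.coprime_two_left).mpr hK
      exact orderOf_eq_one_iff.1 (Nat.eq_one_of_dvd_coprimes h12 h10 h11)
    apply x.2.2
    calc x.1 = t⁻¹ * (t * x.1) := by group
      _ = t := by rw [h9, mul_one]; exact inv_eq_of_mul_eq_one_left ht
  obtain ⟨m, hm⟩ := card_dvd_of_free hfree
  have h3 : Nat.card (MulAction.orbit K t) = Nat.card X + 1 := by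
    have htm : t ∈ MulAction.orbit K t := MulAction.mem_orbit_self t
    have h4 : Nat.card (MulAction.orbit K t) = Nat.card (Option X) := by
      refine Nat.card_congr
        { toFun := fun w => if hw : (w : G) = t then none else some ⟨w, w.2, hw⟩
          invFun := fun o => o.elim ⟨t, htm⟩ (fun w => ⟨w.1, w.2.1⟩)
          left_inv := ?_
          right_inv := ?_ }
      · intro w
        by_cases hw : (w : G) = t
        · simp only [dif_pos hw, Option.elim]
          exact Subtype.ext hw.symm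
        · simp only [dif_neg hw, Option.elim]
      · intro o
        cases o with
        | none => simp
        | some w => simp [w.2.2]
    rw [h4, Finite.card_option]
  refine ⟨m, ?_⟩
  rw [← h1, h2, h3, hm, mul_comm m]

/-- Sylow counting inside a subgroup `D`. -/
theorem sylow_index {G : Type*} [Group G] [Finite G] {p : ℕ} [hp : Fact p.Prime] {P D : Subgroup G}
    (hPD : P ≤ D) (hP : IsPGroup p P) (hc : ¬ p ∣ Nat.card D / Nat.card P) :
    ∃ m : ℕ, m % p = 1 ∧
      Nat.card D = m * Nat.card (Subgroup.normalizer (P : Set G) ⊓ D : Subgroup G) := by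
  have hP' : IsPGroup p (P.subgroupOf D) := hP.comap_of_injective _ (Subgroup.subtype_injective _)
  have hcard : Nat.card (P.subgroupOf D) = Nat.card P :=
    Nat.card_congr (Subgroup.subgroupOfEquivOfLe hPD).toEquiv
  have hind : ¬ p ∣ (P.subgroupOf D).index := by
    have h1 : (P.subgroupOf D).index = Nat.card D / Nat.card P := by
      rw [← (P.subgroupOf D).card_mul_index, hcard]
      exact (Nat.mul_div_cancel_left _ Nat.card_pos).symm
    rwa [h1]
  let S : Sylow p D := hP'.toSylow hind
  have h1 := card_sylow_modEq_one p D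
  rw [S.card_eq_index_normalizer] at h1
  have h2 : Subgroup.normalizer (S : Set D) =
      (Subgroup.normalizer (P : Set G)).subgroupOf D := (Subgroup.subgroupOf_normalizer_eq hPD).symm
  rw [h2] at h1
  refine ⟨((Subgroup.normalizer (P : Set G)).subgroupOf D).index, ?_, ?_⟩
  · have h3 : 1 % p = 1 := Nat.mod_eq_of_lt hp.out.one_lt
    rw [← h3]; exact h1
  · rw [← ((Subgroup.normalizer (P : Set G)).subgroupOf D).index_mul_card]
    congr 1
    have h3 := Subgroup.card_map_of_injective (K := (Subgroup.normalizer (P : Set G)).subgroupOf D)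
      D.subtype_injective
    rw [← h3, Subgroup.subgroupOf_map_subtype]

/-- `|N| |K ∩ B| = |K| |B|` for `N = K B`, `K` normal in `N`. -/
theorem card_prod {G : Type*} [Group G] [Finite G] {N K B : Subgroup G} (hKN : K ≤ N) (hBN : B ≤ N)
    (hK : ∀ g ∈ N, ∀ x ∈ K, g * x * g⁻¹ ∈ K) (h : ∀ g ∈ N, ∃ k ∈ K, ∃ b ∈ B, g = k * b) :
    Nat.card N * Nat.card (K ⊓ B : Subgroup G) = Nat.card K * Nat.card B := by
  have hn : (K.subgroupOf N).Normal := ⟨fun x hx g => hK g g.2 x hx⟩
  have h1 : (B.subgroupOf N) ⊔ (K.subgroupOf N) = ⊤ := by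
    rw [eq_top_iff]
    intro g _
    obtain ⟨k, hk, b, hb, he⟩ := h g g.2
    have h2 : g = ⟨k, hKN hk⟩ * ⟨b, hBN hb⟩ := Subtype.ext he
    rw [h2]
    exact mul_mem (Subgroup.mem_sup_right (Subgroup.mem_subgroupOf.2 hk))
      (Subgroup.mem_sup_left (Subgroup.mem_subgroupOf.2 hb))
  have h2 := Subgroup.relIndex_sup_right (B.subgroupOf N) (K.subgroupOf N)
  rw [h1, Subgroup.relIndex_top_right] at h2
  rw [Subgroup.relIndex_subgroupOf hBN] at h2
  have h3 := (K.subgroupOf N).card_mul_index
  rw [h2, Nat.card_congr (Subgroup.subgroupOfEquivOfLe hKN).toEquiv] at h3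
  have h4 := Subgroup.relIndex_mul_relIndex ⊥ (K ⊓ B) B bot_le inf_le_right
  rw [Subgroup.relIndex_bot_left, Subgroup.relIndex_bot_left, Subgroup.inf_relIndex_right] at h4
  rw [← h3, ← h4]
  ring

/-- The action on a subgroup of order `17`. -/
theorem card_centralizer_inf {G : Type*} [Group G] [Finite G] {H L A : Subgroup G}
    (hH : Nat.card H = 17) (hL : L ≤ Subgroup.normalizer (H : Set G)) (hA : A ≤ L)
    (hA8 : Nat.card A = 8) (hinj : ∀ a ∈ A, a ∈ Subgroup.centralizer (H : Set G) → a = 1)
    (h16 : ¬ 16 ∣ Nat.card L) :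
    Nat.card L = 8 * Nat.card (L ⊓ Subgroup.centralizer (H : Set G) : Subgroup G) := by
  let f : L →* MulAut H := H.normalizerMonoidHom.comp (Subgroup.inclusion hL)
  have hker : Nat.card f.ker = Nat.card (L ⊓ Subgroup.centralizer (H : Set G) : Subgroup G) := by
    have h1 : f.ker = (Subgroup.centralizer (H : Set G)).subgroupOf L := by
      ext x
      have h2 : x ∈ f.ker ↔ Subgroup.inclusion hL x ∈ H.normalizerMonoidHom.ker := Iff.rfl
      rw [h2, Subgroup.normalizerMonoidHom_ker, Subgroup.mem_subgroupOf, Subgroup.mem_subgroupOf]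
      exact Iff.rfl
    rw [h1]
    have h3 := Subgroup.card_map_of_injective (K := (Subgroup.centralizer (H : Set G)).subgroupOf L)
      L.subtype_injective
    rw [← h3, Subgroup.subgroupOf_map_subtype, inf_comm]
  have hcyc : IsCyclic H := isCyclic_of_prime_card (p := 17) (hp := ⟨by norm_num⟩) hH
  have haut : Nat.card (MulAut H) = 16 := by
    rw [IsCyclic.card_mulAut, hH]
    rfl
  have h1 : Nat.card L = Nat.card f.range * Nat.card f.ker := by
    rw [← Subgroup.index_ker, mul_comm, Subgroup.card_mul_index]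
  have h2 : Nat.card f.range ∣ 16 := by
    rw [← haut]; exact Subgroup.card_subgroup_dvd_card _
  have h3 : 8 ∣ Nat.card f.range := by
    rw [← hA8]
    let g : A →* f.range := f.rangeRestrict.comp (Subgroup.inclusion hA)
    have hg : Function.Injective g := by
      rw [injective_iff_map_eq_one]
      intro a ha
      apply Subtype.ext
      apply hinj a a.2
      have h4 : f (Subgroup.inclusion hA a) = 1 := congrArg Subtype.val ha
      have h5 : Subgroup.inclusion hL (Subgroup.inclusion hA a) ∈ H.normalizerMonoidHom.ker := h4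
      rw [Subgroup.normalizerMonoidHom_ker, Subgroup.mem_subgroupOf] at h5
      exact h5
    exact Subgroup.card_dvd_of_injective g hg
  have h4 : Nat.card f.range ≠ 16 := by
    intro h5
    apply h16
    rw [h1, h5]
    exact dvd_mul_right _ _
  have h5 : Nat.card f.range = 8 := by
    obtain ⟨m, hm⟩ := h3
    have h6 : Nat.card f.range ≤ 16 := Nat.le_of_dvd (by norm_num) h2
    have h7 : 0 < Nat.card f.range := Nat.card_pos
    omega
  rw [h1, h5, hker]

end Cfsg.Agent.Classification.InvCentU.FiveLib
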