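import Mathlib
import Cfsg.Agent.Classification.InvCent.Defs

/-!
# S0485, the quasi-dihedral unitary case (`q ≡ 1 mod 4`): common set-up of the exclusion of `k ≠ 1`

See bb block P08, row 2793 (helper15) for the proof.

`UHyp t p a q Z T T' U s s' u`: `G` is a finite group with one class of involutions and
`C = centralizer {t}` has the structure `InvCent.CHyp` with `ε = -1`; `q = p ^ a ≡ 1 mod 4` and
the cyclic torus `T'` (order `|Z| (q - 1)`) normalizes the root group `U`.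
-/

set_option autoImplicit false

namespace Cfsg.Agent.Classification.InvCentU.Defs

open Cfsg.Agent.Classification

/-- `t` as an element of its centralizer. -/
def tt {G : Type*} [Group G] (t : G) : Subgroup.centralizer ({t} : Set G) :=
  ⟨t, Subgroup.mem_centralizer_singleton_iff.mpr rfl⟩

/-- The set-up. -/
structure UHyp {G : Type*} [Group G] (t : G) (p a q : ℕ)
    (Z T T' U : Subgroup (Subgroup.centralizer ({t} : Set G)))
    (s s' u : Subgroup.centralizer ({t} : Set G)) : Prop where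
  prime : p.Prime
  a_pos : 1 ≤ a
  q_eq : q = p ^ a
  q_mod : q % 4 = 1
  chyp : InvCent.CHyp (tt t) q (-1) Z T T' U s s' u
  norm_U : ∀ τ ∈ T', ∀ x ∈ U, τ * x * τ⁻¹ ∈ U
  /-- one class of involutions -/
  conj : ∀ x y : G, orderOf x = 2 → orderOf y = 2 → IsConj x y
  /-- an element of `G` swapping `t` and `u` (it normalizes `T = C_G(⟨t, u⟩)`) -/
  swap : ∃ w : G, w * t * w⁻¹ = u ∧ w * (u : G) * w⁻¹ = t

/-- A subgroup of the centralizer as a subgroup of `G`. -/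
abbrev up {G : Type*} [Group G] {t : G} (H : Subgroup (Subgroup.centralizer ({t} : Set G))) :
    Subgroup G := H.map (Subgroup.subtype _)

/-!
## The pieces (signatures)

(L1) `Local1.lean`:
```
theorem Local1.not_dvd [Finite G] (h : UHyp t p a q Z T T' U s s' u) {y : G} (hy : y ∈ up T')
    {r : ℕ} (hr : r.Prime) (hr2 : r ≠ 2) (hrq : r ∣ q - 1) (hyr : orderOf y = r) :
    ¬ p ∣ Nat.card (Subgroup.centralizer ({y} : Set G))
```
(L2) `Local2.lean`:
```
theorem Local2.exists_core [Finite G] (h : UHyp t p a q Z T T' U s s' u) :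
    ∃ K : Subgroup G, Odd (Nat.card K) ∧ up U ≤ K ∧ K ≤ Subgroup.centralizer (up U : Set G) ∧
      (∀ x ∈ K, x * t = t * x → ∃ z ∈ up Z, Odd (orderOf z) ∧ ∃ v ∈ up U, x = z * v) ∧
      (∀ z ∈ up Z, Odd (orderOf z) → z ∈ K) ∧
      (∀ g ∈ Subgroup.normalizer (up U : Set G), ∀ x ∈ K, g * x * g⁻¹ ∈ K) ∧
      (∀ g ∈ Subgroup.centralizer (up U : Set G), g ∈ K ∨ g * t ∈ K) ∧
      (∀ g ∈ Subgroup.normalizer (up U : Set G), ∃ k ∈ K, ∃ τ ∈ up T', g = k * τ)
theorem Local2.dichotomy [Finite G] (h : UHyp t p a q Z T T' U s s' u) :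
    ¬ p ∣ (Subgroup.centralizer ({t} : Set G)).index ∨
      p ^ (a + 1) ∣ (Subgroup.centralizer ({t} : Set G)).index
```
(N) `NumB.lean`:
```
theorem NumB.of_dichotomy {p a : ℕ} {q k : ℤ} (hp : p.Prime) (ha : 1 ≤ a) (hq : q = (p : ℤ) ^ a)
    (hq4 : q % 4 = 1) (hk : Odd k) (h1 : k ∣ q * (q ^ 2 - 1)) (h2 : q - 1 + k ∣ q * (q - 1) ^ 2)
    (hn : 0 < (q ^ 2 - 1 + k) * (q ^ 2 - q + k))
    (h : ¬ (p : ℤ) ∣ (q ^ 2 - 1 + k) * (q ^ 2 - q + k) ∨
      (p : ℤ) ^ (a + 1) ∣ (q ^ 2 - 1 + k) * (q ^ 2 - q + k)) : k = 1 ∨ ¬ (p : ℤ) ∣ k * (k - 1)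
theorem NumB.of_tests (same data) (hpk : ¬ (p : ℤ) ∣ k * (k - 1))
    (hA : 0 < q - 1 + k → 2 * (q - 1 + k) ≤ q - 1) (hB : k < 0 → -2 * k ≤ q + 1) :
    q = 5 ∧ k = -3
```
(F) `Five.lean`:
```
theorem Five.false [Finite G] [IsSimpleGroup G] (h : UHyp t 5 1 5 Z T T' U s s' u)
    (hn : (Subgroup.centralizer ({t} : Set G)).index = 357) : False
```
-/

end Cfsg.Agent.Classification.InvCentU.Defs
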