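import Mathlib
import Cfsg.Agent.Classification.InvCentU.Defs
import Cfsg.Agent.Classification.InvCent.CTorus
import Cfsg.Agent.Lib.KleinOrder
import Cfsg.Agent.Lib.PGroupCoprimeAction

/-!
# S0485, quasi-dihedral unitary case: step (L1)

`C_G(y)` is a `p'`-group for `y ∈ T'` of odd prime order dividing `q - 1`.
-/

set_option autoImplicit false

namespace Cfsg.Agent.Classification.InvCentU.Local1

open Cfsg.Agent.Classification Cfsg.Agent.Classification.InvCent
open Cfsg.Agent.Classification.InvCentU.Defs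

section CLevel

variable {C : Type*} [Group C] {t : C} {q : ℕ} {Z T T' U : Subgroup C} {s s' u : C}

theorem T'_coprime (h : CHyp t q (-1) Z T T' U s s' u) : (Nat.card T').Coprime q := by
  have h1 : (Nat.card T' : ℤ) = Nat.card Z * (q - 1) := by rw [h.card_T']; ring
  obtain ⟨z₀, -, hz⟩ := h.card_Z
  have h2 : (Nat.card Z).Coprime q := coprime_of_sub (δ := -1) (Or.inr rfl) hz
  have h3 : (q - 1).Coprime q := by
    have h4 := h.one_lt_q
    have h5 : (q - 1).Coprime (q - 1 + 1) := by simp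
    rwa [Nat.sub_add_cancel h4.le] at h5
  have h4 : Nat.card T' = Nat.card Z * (q - 1) := by
    have := h.one_lt_q
    zify [this.le]
    exact h1
  rw [h4]
  exact Nat.Coprime.mul_left h2 h3

/-- `T' ∩ U = 1`. -/
theorem eq_one_of_T'_U (h : CHyp t q (-1) Z T T' U s s' u) {x : C} (hx : x ∈ T') (hxU : x ∈ U) :
    x = 1 := by
  have h1 : orderOf x ∣ Nat.card T' := by
    have := orderOf_dvd_natCard (⟨x, hx⟩ : T')
    rwa [Subgroup.orderOf_mk] at this
  have h2 : orderOf x ∣ q := orderOf_dvd_of_pow_eq_one (h.base.pow_card_U hxU)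
  exact orderOf_eq_one_iff.1 (Nat.eq_one_of_dvd_coprimes (T'_coprime h) h1 h2)

theorem t_sq (h : CHyp t q (-1) Z T T' U s s' u) : t * t = 1 := by
  rw [← pow_two, ← h.orderOf_t, pow_orderOf_eq_one]

theorem t_ne_one (h : CHyp t q (-1) Z T T' U s s' u) : t ≠ 1 := by
  intro h1
  have h2 := h.orderOf_t
  rw [h1, orderOf_one] at h2
  omega

/-- `t` is the only involution of `T'`. -/
theorem invol_T' [Finite C] (h : CHyp t q (-1) Z T T' U s s' u) {x : C} (hx : x ∈ T')
    (h2 : x * x = 1) : x = 1 ∨ x = t := by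
  classical
  by_contra hcon
  push Not at hcon
  have hcyc := h.T'_cyclic
  have := Fintype.ofFinite T'
  have h3 := IsCyclic.card_pow_eq_one_le (α := T') (n := 2) (by norm_num)
  have hne1 : (1 : T') ≠ ⟨x, hx⟩ := fun h4 => hcon.1 (congrArg Subtype.val h4).symm
  have hne2 : (1 : T') ≠ ⟨t, h.Z_le_T' h.t_mem⟩ := fun h4 => t_ne_one h (congrArg Subtype.val h4).symm
  have hne3 : (⟨x, hx⟩ : T') ≠ ⟨t, h.Z_le_T' h.t_mem⟩ := fun h4 => hcon.2 (congrArg Subtype.val h4)
  have h4 : ({1, ⟨x, hx⟩, ⟨t, h.Z_le_T' h.t_mem⟩} : Finset T') ⊆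
      Finset.univ.filter (fun w => w ^ 2 = 1) := by
    intro w hw
    simp only [Finset.mem_insert, Finset.mem_singleton] at hw
    simp only [Finset.mem_filter, Finset.mem_univ, true_and]
    rcases hw with rfl | rfl | rfl
    · exact one_pow 2
    · exact Subtype.ext (by rw [Subgroup.coe_pow, pow_two]; exact h2)
    · exact Subtype.ext (by rw [Subgroup.coe_pow, pow_two]; exact t_sq h)
  have h5 := Finset.card_le_card h4
  have h6 : ({1, ⟨x, hx⟩, ⟨t, h.Z_le_T' h.t_mem⟩} : Finset T').card = 3 :=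
    Finset.card_eq_three.2 ⟨_, _, _, hne1, hne2, hne3, rfl⟩
  omega

variable [Finite C]

/-- `T'` is transitive on `U ∖ {1}`. -/
theorem exists_conj (h : CHyp t q (-1) Z T T' U s s' u)
    (hn : ∀ τ ∈ T', ∀ x ∈ U, τ * x * τ⁻¹ ∈ U) {x y : C} (hx : x ∈ U) (hx1 : x ≠ 1) (hy : y ∈ U)
    (hy1 : y ≠ 1) : ∃ τ ∈ T', τ * x * τ⁻¹ = y := by
  classical
  -- the orbit map
  let f : T' → {w : C // w ∈ U ∧ w ≠ 1} := fun τ => ⟨(τ : C) * x * (τ : C)⁻¹, hn τ τ.2 x hx, by
    intro h1
    apply hx1
    have h2 : x = (τ : C)⁻¹ * ((τ : C) * x * (τ : C)⁻¹) * τ := by group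
    rw [h2, h1]; group⟩
  have hf : ∀ τ τ' : T', f τ = f τ' → (τ : C)⁻¹ * τ' ∈ Z := by
    intro τ τ' he
    have h1 : (τ : C) * x * (τ : C)⁻¹ = (τ' : C) * x * (τ' : C)⁻¹ := congrArg Subtype.val he
    have h2 : ((τ : C)⁻¹ * τ') * x = x * ((τ : C)⁻¹ * τ') := by
      have h3 : x = (τ : C)⁻¹ * ((τ : C) * x * (τ : C)⁻¹) * τ := by group
      calc ((τ : C)⁻¹ * τ') * x = (τ : C)⁻¹ * ((τ' : C) * x * (τ' : C)⁻¹) * τ' := by group
        _ = (τ : C)⁻¹ * ((τ : C) * x * (τ : C)⁻¹) * τ' := by rw [h1]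
        _ = x * ((τ : C)⁻¹ * τ') := by group
    obtain ⟨z, hz, v, hv, hzv⟩ := h.cent_U x hx hx1 _ h2
    have h4 : v = z⁻¹ * ((τ : C)⁻¹ * τ') := by rw [hzv]; group
    have h5 : v = 1 := eq_one_of_T'_U h (by
      rw [h4]
      exact mul_mem (inv_mem (h.Z_le_T' hz)) (mul_mem (inv_mem τ.2) τ'.2)) hv
    rw [hzv, h5, mul_one]
    exact hz
  -- counting
  have := Fintype.ofFinite C
  have hsurj : Function.Surjective f := by
    -- the induced map `T' ⧸ Z → U ∖ 1` is injective between sets of the same size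
    let Z' : Subgroup T' := Z.subgroupOf T'
    let g : T' ⧸ Z' → {w : C // w ∈ U ∧ w ≠ 1} := Quotient.lift f (by
      intro a b hab
      have h1 : a⁻¹ * b ∈ Z' := QuotientGroup.leftRel_apply.1 hab
      have h2 : (a : C)⁻¹ * b ∈ Z := h1
      apply Subtype.ext
      change (a : C) * x * (a : C)⁻¹ = (b : C) * x * (b : C)⁻¹
      have h3 : (b : C) = a * ((a : C)⁻¹ * b) := by group
      have h4 := h.Z_central _ h2 x
      calc (a : C) * x * (a : C)⁻¹ = a * (x * ((a : C)⁻¹ * b)) * ((a : C)⁻¹ * b)⁻¹ * (a : C)⁻¹ := by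
            group
        _ = a * (((a : C)⁻¹ * b) * x) * ((a : C)⁻¹ * b)⁻¹ * (a : C)⁻¹ := by rw [h4]
        _ = (b : C) * x * (b : C)⁻¹ := by group)
    have hg : Function.Injective g := by
      intro a b
      induction a using QuotientGroup.induction_on with
      | H a =>
        induction b using QuotientGroup.induction_on with
        | H b =>
          intro hab
          apply QuotientGroup.eq.2
          exact hf a b hab
    have hc : Nat.card (T' ⧸ Z') = Nat.card {w : C // w ∈ U ∧ w ≠ 1} := by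
      have h1 : Nat.card {w : C // w ∈ U ∧ w ≠ 1} + 1 = q := by
        rw [← h.card_U]
        have h2 : Nat.card U = Nat.card (Option {w : C // w ∈ U ∧ w ≠ 1}) := by
          refine Nat.card_congr
            { toFun := fun w => if hw : (w : C) = 1 then none else some ⟨w, w.2, hw⟩
              invFun := fun o => o.elim 1 (fun w => ⟨w.1, w.2.1⟩)
              left_inv := ?_
              right_inv := ?_ }
          · intro w
            by_cases hw : (w : C) = 1
            · simp only [dif_pos hw, Option.elim]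
              exact Subtype.ext hw.symm
            · simp only [dif_neg hw, Option.elim]
          · intro o
            cases o with
            | none => simp
            | some w => simp [w.2.2]
        rw [h2, Finite.card_option]
      have h3 : Nat.card T' = Nat.card (T' ⧸ Z') * Nat.card Z := by
        rw [Subgroup.card_eq_card_quotient_mul_card_subgroup Z']
        congr 1
        exact Nat.card_congr (Subgroup.subgroupOfEquivOfLe h.Z_le_T').toEquiv
      have h4 : (Nat.card T' : ℤ) = Nat.card Z * (q - 1) := by rw [h.card_T']; ring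
      have h5 : (Nat.card Z : ℤ) ≠ 0 := by exact_mod_cast Nat.card_pos.ne'
      rw [h3] at h4
      push_cast at h4
      have h6 : (Nat.card (T' ⧸ Z') : ℤ) = q - 1 := by
        apply mul_left_cancel₀ h5
        linear_combination h4
      omega
    have hb : Function.Bijective g := (Nat.bijective_iff_injective_and_card g).2 ⟨hg, hc⟩
    intro w
    obtain ⟨a, ha⟩ := hb.2 w
    induction a using QuotientGroup.induction_on with
    | H a => exact ⟨a, ha⟩
  obtain ⟨τ, hτ⟩ := hsurj ⟨y, hy, hy1⟩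
  exact ⟨τ, τ.2, congrArg Subtype.val hτ⟩

/-- An involution `i ≠ t` of `C` normalizes no nontrivial subgroup of `U`. -/
theorem not_norm_U (h : CHyp t q (-1) Z T T' U s s' u)
    (hn : ∀ τ ∈ T', ∀ x ∈ U, τ * x * τ⁻¹ ∈ U) {i : C} (hi : i * i = 1) (hi1 : i ≠ 1) (hit : i ≠ t)
    {x : C} (hx : x ∈ U) (hix : i * x * i⁻¹ ∈ U) : x = 1 := by
  by_contra hx1
  have hx'1 : i * x * i⁻¹ ≠ 1 := by
    intro h1
    apply hx1
    have h2 : x = i⁻¹ * (i * x * i⁻¹) * i := by group
    rw [h2, h1]; group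
  obtain ⟨τ, hτ, he⟩ := exists_conj h hn hx hx1 hix hx'1
  have h2 : (τ⁻¹ * i) * x = x * (τ⁻¹ * i) := by
    calc (τ⁻¹ * i) * x = τ⁻¹ * (i * x * i⁻¹) * i := by group
      _ = τ⁻¹ * (τ * x * τ⁻¹) * i := by rw [he]
      _ = x * (τ⁻¹ * i) := by group
  obtain ⟨z, hz, v, hv, hzv⟩ := h.cent_U x hx hx1 _ h2
  have h3 : i = (τ * z) * v := by rw [mul_assoc, ← hzv]; group
  have hτz : τ * z ∈ T' := mul_mem hτ (h.Z_le_T' hz)
  set σ := τ * z with hσ
  have h4 : σ * σ = 1 := by
    apply eq_one_of_T'_U h (mul_mem hτz hτz)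
    have h5 : σ * σ = (σ * v * (σ * v)) * (v⁻¹ * (σ⁻¹ * v⁻¹ * σ⁻¹⁻¹)) := by group
    rw [h5, ← h3, hi, one_mul]
    exact mul_mem (inv_mem hv) (hn _ (inv_mem hτz) _ (inv_mem hv))
  have hodd : ∀ w ∈ U, w * w = 1 → w = 1 := by
    intro w hw hww
    have h5 : orderOf w ∣ 2 := orderOf_dvd_of_pow_eq_one (by rw [pow_two]; exact hww)
    have h6 : orderOf w ∣ q := orderOf_dvd_of_pow_eq_one (h.base.pow_card_U hw)
    have h7 : Nat.Coprime 2 q := (Nat.coprime_two_left).mpr h.odd_q
    exact orderOf_eq_one_iff.1 (Nat.eq_one_of_dvd_coprimes h7 h5 h6)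
  rcases invol_T' h hτz h4 with h5 | h5
  · rw [h5, one_mul] at h3
    exact hi1 (h3.trans (hodd v hv (by rw [← h3]; exact hi)))
  · rw [h5] at h3
    have h6 : v * v = 1 := by
      have h7 : i * i = (t * t) * (v * v) := by
        rw [h3]
        have h8 := h.Z_central t h.t_mem v
        calc t * v * (t * v) = t * (v * t) * v := by group
          _ = t * (t * v) * v := by rw [h8]
          _ = _ := by group
      rw [hi, t_sq h, one_mul] at h7
      exact h7.symm
    rw [hodd v hv h6, mul_one] at h3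
    exact hit h3

/-- An involution `i ≠ t` of `C` normalizes no nontrivial `p`-subgroup. -/
theorem not_norm (h : CHyp t q (-1) Z T T' U s s' u)
    (hn : ∀ τ ∈ T', ∀ x ∈ U, τ * x * τ⁻¹ ∈ U) {p a : ℕ} (hp : p.Prime) (hq : q = p ^ a)
    {i : C} (hi : i * i = 1) (hi1 : i ≠ 1) (hit : i ≠ t)
    {P : Subgroup C} (hP : IsPGroup p P) (hiP : ∀ x ∈ P, i * x * i⁻¹ ∈ P) : P = ⊥ := by
  have : Fact p.Prime := ⟨hp⟩
  have hp2 : p ≠ 2 := by
    rintro rfl
    have h1 := h.odd_q
    have h2 := h.one_lt_q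
    rw [hq] at h1 h2
    have h3 : a ≠ 0 := by rintro rfl; simp at h2
    exact absurd ((Nat.even_pow.2 ⟨even_two, h3⟩)) (Nat.not_even_iff_odd.2 h1)
  have ha : a ≠ 0 := by
    rintro rfl
    have h2 := h.one_lt_q
    rw [hq, pow_zero] at h2
    omega
  -- `U` is a Sylow `p`-subgroup
  have hUp : IsPGroup p U := IsPGroup.of_card (n := a) (by rw [h.card_U, hq])
  have hind : ¬ p ∣ U.index := by
    intro h1
    have h2 := U.card_mul_index
    rw [h.card_U, h.card_C] at h2
    have h3 : U.index = Nat.card Z * (q ^ 2 - 1) := by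
      have h4 : 0 < q := by have := h.one_lt_q; omega
      apply Nat.eq_of_mul_eq_mul_left h4
      rw [h2]; ring
    rw [h3] at h1
    have hpq : p ∣ q := by rw [hq]; exact dvd_pow_self p ha
    rcases (Nat.Prime.dvd_mul hp).1 h1 with h4 | h4
    · have h5 := h.base.coprime
      have h6 : p ∣ 1 := by rw [← h5]; exact Nat.dvd_gcd h4 hpq
      exact hp.one_lt.ne' (Nat.dvd_one.1 h6)
    · have h5 : p ∣ q ^ 2 := dvd_pow hpq two_ne_zero
      have h6 : 1 ≤ q ^ 2 := Nat.one_le_pow _ _ (by have := h.one_lt_q; omega)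
      have h7 : p ∣ 1 := by
        have := (Nat.dvd_sub h5 h4)
        have h8 : q ^ 2 - (q ^ 2 - 1) = 1 := by omega
        rwa [h8] at this
      exact hp.one_lt.ne' (Nat.dvd_one.1 h7)
  obtain ⟨S, hS⟩ := hP.exists_le_sylow
  obtain ⟨c, hc⟩ := MulAction.exists_smul_eq C S (hUp.toSylow hind)
  have hconj : ∀ x ∈ P, c * x * c⁻¹ ∈ U := by
    intro x hx
    have h1 : c * x * c⁻¹ ∈ (c • S : Sylow p C) := by
      have h2 : c * x * c⁻¹ = MulAut.conj c • x := by simp
      rw [h2]
      exact Subgroup.smul_mem_pointwise_smul x (MulAut.conj c) (S : Subgroup C) (hS hx)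
    rw [hc] at h1
    exact h1
  rw [eq_bot_iff]
  intro x hx
  rw [Subgroup.mem_bot]
  have h1 : c * x * c⁻¹ = 1 := by
    refine not_norm_U h hn (i := c * i * c⁻¹) ?_ ?_ ?_ (hconj x hx) ?_
    · calc c * i * c⁻¹ * (c * i * c⁻¹) = c * (i * i) * c⁻¹ := by group
        _ = 1 := by rw [hi]; group
    · intro h1
      apply hi1
      calc i = c⁻¹ * (c * i * c⁻¹) * c := by group
        _ = 1 := by rw [h1]; group
    · intro h1
      apply hit
      calc i = c⁻¹ * (c * i * c⁻¹) * c := by group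
        _ = c⁻¹ * t * c := by rw [h1]
        _ = t := by rw [h.Z_central t h.t_mem c⁻¹]; group
    · have h2 : c * i * c⁻¹ * (c * x * c⁻¹) * (c * i * c⁻¹)⁻¹ = c * (i * x * i⁻¹) * c⁻¹ := by group
      rw [h2]
      exact hconj _ (hiP x hx)
  calc x = c⁻¹ * (c * x * c⁻¹) * c := by group
    _ = 1 := by rw [h1]; group

end CLevel

section GLevel

variable {G : Type*} [Group G] {t : G} {p a q : ℕ}
  {Z T T' U : Subgroup (Subgroup.centralizer ({t} : Set G))}
  {s s' u : Subgroup.centralizer ({t} : Set G)}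

theorem comm_of_mem (x : Subgroup.centralizer ({t} : Set G)) : (x : G) * t = t * x :=
  Subgroup.mem_centralizer_singleton_iff.1 x.2

theorem order_t (h : UHyp t p a q Z T T' U s s' u) : orderOf t = 2 := by
  have := h.chyp.orderOf_t
  rwa [tt, Subgroup.orderOf_mk] at this

theorem tG_sq (h : UHyp t p a q Z T T' U s s' u) : t * t = 1 := by
  rw [← pow_two, ← order_t h, pow_orderOf_eq_one]

theorem tG_ne_one (h : UHyp t p a q Z T T' U s s' u) : t ≠ 1 := by
  intro h1
  have h2 := order_t h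
  rw [h1, orderOf_one] at h2
  omega

/-- An involution `i ≠ v` commuting with the involution `v` normalizes no nontrivial `p`-subgroup
centralizing `v`. -/
theorem eq_bot_of_norm [Finite G] (h : UHyp t p a q Z T T' U s s' u) {v i : G}
    (hv : orderOf v = 2) (hi : orderOf i = 2) (hiv : i ≠ v) (hc : i * v = v * i)
    {P : Subgroup G} (hP : IsPGroup p P) (hPv : ∀ x ∈ P, x * v = v * x)
    (hiP : ∀ x ∈ P, i * x * i⁻¹ ∈ P) : P = ⊥ := by
  obtain ⟨g, hg⟩ := isConj_iff.1 (h.conj v t hv (order_t h))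
  have hcomm : ∀ x : G, x * v = v * x → (g * x * g⁻¹) * t = t * (g * x * g⁻¹) := by
    intro x hx
    rw [← hg]
    calc g * x * g⁻¹ * (g * v * g⁻¹) = g * (x * v) * g⁻¹ := by group
      _ = g * (v * x) * g⁻¹ := by rw [hx]
      _ = g * v * g⁻¹ * (g * x * g⁻¹) := by group
  let P' : Subgroup (Subgroup.centralizer ({t} : Set G)) :=
    (P.map (MulAut.conj g).toMonoidHom).subgroupOf _
  have hmem : ∀ x : Subgroup.centralizer ({t} : Set G), x ∈ P' ↔ g⁻¹ * (x : G) * g ∈ P := by
    intro x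
    rw [Subgroup.mem_subgroupOf, Subgroup.mem_map]
    constructor
    · rintro ⟨y, hy, he⟩
      have h1 : g * y * g⁻¹ = x := he
      rw [← h1]
      have h2 : g⁻¹ * (g * y * g⁻¹) * g = y := by group
      rw [h2]; exact hy
    · intro hx
      refine ⟨_, hx, ?_⟩
      change g * (g⁻¹ * (x : G) * g) * g⁻¹ = x
      group
  let i' : Subgroup.centralizer ({t} : Set G) :=
    ⟨g * i * g⁻¹, Subgroup.mem_centralizer_singleton_iff.2 (hcomm i hc)⟩
  have hii : i * i = 1 := by rw [← pow_two, ← hi, pow_orderOf_eq_one]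
  have hi1 : i ≠ 1 := by
    intro h1
    rw [h1, orderOf_one] at hi
    omega
  have hbot : P' = ⊥ := by
    refine not_norm (i := i') h.chyp h.norm_U h.prime h.q_eq ?_ ?_ ?_ ?_ ?_
    · apply Subtype.ext
      change g * i * g⁻¹ * (g * i * g⁻¹) = 1
      calc g * i * g⁻¹ * (g * i * g⁻¹) = g * (i * i) * g⁻¹ := by group
        _ = 1 := by rw [hii]; group
    · intro h1
      apply hi1
      have h2 : g * i * g⁻¹ = 1 := congrArg Subtype.val h1
      calc i = g⁻¹ * (g * i * g⁻¹) * g := by group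
        _ = 1 := by rw [h2]; group
    · intro h1
      apply hiv
      have h2 : g * i * g⁻¹ = t := congrArg Subtype.val h1
      calc i = g⁻¹ * (g * i * g⁻¹) * g := by group
        _ = g⁻¹ * (g * v * g⁻¹) * g := by rw [h2, hg]
        _ = v := by group
    · have h1 : IsPGroup p (P.map (MulAut.conj g).toMonoidHom) := hP.map _
      exact h1.comap_of_injective _ (Subgroup.subtype_injective _)
    · intro x hx
      rw [hmem] at hx ⊢
      change g⁻¹ * (g * i * g⁻¹ * (x : G) * (g * i * g⁻¹)⁻¹) * g ∈ P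
      have h1 : g⁻¹ * (g * i * g⁻¹ * (x : G) * (g * i * g⁻¹)⁻¹) * g =
          i * (g⁻¹ * (x : G) * g) * i⁻¹ := by group
      rw [h1]
      exact hiP _ hx
  rw [eq_bot_iff]
  intro x hx
  rw [Subgroup.mem_bot]
  have h1 : (⟨g * x * g⁻¹, Subgroup.mem_centralizer_singleton_iff.2 (hcomm x (hPv x hx))⟩ :
      Subgroup.centralizer ({t} : Set G)) ∈ P' := by
    rw [hmem]
    have h2 : g⁻¹ * (g * x * g⁻¹) * g = x := by group
    change g⁻¹ * (g * x * g⁻¹) * g ∈ P
    rw [h2]; exact hx
  rw [hbot, Subgroup.mem_bot] at h1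
  have h2 : g * x * g⁻¹ = 1 := congrArg Subtype.val h1
  calc x = g⁻¹ * (g * x * g⁻¹) * g := by group
    _ = 1 := by rw [h2]; group

/-- A group of odd order centralizing the involution `v` and normalized by the involution `i ≠ v`
commuting with `v` is a `p'`-group. -/
theorem not_dvd_of_norm [Finite G] (h : UHyp t p a q Z T T' U s s' u) {v i : G}
    (hv : orderOf v = 2) (hi : orderOf i = 2) (hiv : i ≠ v) (hc : i * v = v * i)
    {B : Subgroup G} (hB : Odd (Nat.card B)) (hBv : ∀ x ∈ B, x * v = v * x)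
    (hiB : ∀ x ∈ B, i * x * i⁻¹ ∈ B) : ¬ p ∣ Nat.card B := by
  intro hdvd
  have hp : Fact p.Prime := ⟨h.prime⟩
  have hp2 : Fact (Nat.Prime 2) := ⟨Nat.prime_two⟩
  have hA : IsPGroup 2 (Subgroup.zpowers i) :=
    IsPGroup.of_card (n := 1) (by rw [Nat.card_zpowers, hi, pow_one])
  have hii : i * i = 1 := by rw [← pow_two, ← hi, pow_orderOf_eq_one]
  have hmem : ∀ b ∈ Subgroup.zpowers i, b = 1 ∨ b = i := by
    intro b hb
    obtain ⟨k, rfl⟩ := Subgroup.mem_zpowers_iff.1 hb
    rcases Int.even_or_odd' k with ⟨m, rfl | rfl⟩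
    · left; rw [zpow_mul, zpow_two, hii, one_zpow]
    · right; rw [zpow_add, zpow_mul, zpow_two, hii, one_zpow, one_mul, zpow_one]
  obtain ⟨S, ⟨P, hPS⟩, hS⟩ := Cfsg.Agent.Lib.PGroupCoprimeAction.exists_invariant_sylow hA
    (H := B) (by rw [← even_iff_two_dvd]; exact Nat.not_even_iff_odd.2 hB)
    (by
      intro b hb x hx
      rcases hmem b hb with rfl | rfl
      · simpa using hx
      · exact hiB x hx) p
  have h1 : S = ⊥ := by
    refine eq_bot_of_norm h hv hi hiv hc (P := S) ?_ ?_ ?_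
    · rw [← hPS]
      exact P.isPGroup'.map _
    · intro x hx
      rw [← hPS] at hx
      obtain ⟨y, -, rfl⟩ := hx
      exact hBv _ y.2
    · intro x hx
      exact hS i (Subgroup.mem_zpowers i) x hx
  have h2 : (P : Subgroup B) = ⊥ := by
    rw [h1] at hPS
    rw [Subgroup.map_eq_bot_iff, Subgroup.ker_subtype] at hPS
    exact eq_bot_iff.2 hPS
  have h3 : p ∣ Nat.card (P : Subgroup B) := P.dvd_card_of_dvd_card hdvd
  rw [h2, Subgroup.card_bot] at h3
  exact h.prime.one_lt.ne' (Nat.dvd_one.1 h3)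

/-- A cyclic Sylow `2`-subgroup has a normal complement, the set of elements of odd order. -/
theorem exists_odd_core {D : Type*} [Group D] [Finite D] (S : Sylow 2 D) (hS : IsCyclic S) :
    ∃ K : Subgroup D, Odd (Nat.card K) ∧ ∀ g, g ∈ K ↔ Odd (orderOf g) := by
  by_cases h2 : 2 ∣ Nat.card D
  · have hmin : (Nat.card D).minFac = 2 := by
      rw [Nat.minFac_eq_two_iff]; exact h2
    have hn := hS.normalizer_le_centralizer hmin
    have h1 : Odd (Nat.card (MonoidHom.transferSylow S hn).ker) := by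
      rw [← Nat.not_even_iff_odd, even_iff_two_dvd]
      exact MonoidHom.not_dvd_card_ker_transferSylow S hn
    refine ⟨(MonoidHom.transferSylow S hn).ker, h1, ?_⟩
    intro g
    constructor
    · intro hg
      have h3 : orderOf (⟨g, hg⟩ : (MonoidHom.transferSylow S hn).ker) ∣ _ :=
        orderOf_dvd_natCard _
      rw [Subgroup.orderOf_mk] at h3
      exact Odd.of_dvd_nat h1 h3
    · intro hg
      rw [MonoidHom.mem_ker]
      have h1 : orderOf (MonoidHom.transferSylow S hn g) ∣ orderOf g := orderOf_map_dvd _ g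
      have h3 : orderOf (MonoidHom.transferSylow S hn g) ∣ Nat.card S := orderOf_dvd_natCard _
      obtain ⟨k, hk⟩ := S.isPGroup'.exists_card_eq
      rw [hk] at h3
      have h4 : Nat.Coprime (orderOf g) (2 ^ k) := by
        apply Nat.Coprime.pow_right
        exact Nat.Coprime.symm ((Nat.coprime_two_left).mpr hg)
      have h5 := Nat.dvd_gcd h1 h3
      rw [h4] at h5
      exact orderOf_eq_one_iff.mp (Nat.dvd_one.mp h5)
  · have h1 : Odd (Nat.card D) := by
      rw [← Nat.not_even_iff_odd, even_iff_two_dvd]; exact h2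
    refine ⟨⊤, by rwa [Subgroup.card_top], ?_⟩
    intro g
    exact ⟨fun _ => Odd.of_dvd_nat h1 (orderOf_dvd_natCard g), fun _ => Subgroup.mem_top _⟩

theorem s'_comm (_ : UHyp t p a q Z T T' U s s' u) : (s' : G) * t = t * s' := comm_of_mem s'

theorem order_s' (h : UHyp t p a q Z T T' U s s' u) : orderOf (s' : G) = 2 := by
  rw [orderOf_eq_prime_iff]
  refine ⟨?_, ?_⟩
  · rw [pow_two]; exact congrArg Subtype.val h.chyp.s'_sq
  · intro h1
    apply h.chyp.s'_notMem
    have h2 : s' = 1 := Subtype.ext h1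
    rw [h2]; exact one_mem _

theorem s'_ne_t (h : UHyp t p a q Z T T' U s s' u) : (s' : G) ≠ t := by
  intro h1
  apply h.chyp.s'_notMem
  have h2 : s' = tt t := Subtype.ext h1
  rw [h2]; exact h.chyp.Z_le_T' h.chyp.t_mem

/-- **(L1)** -/
theorem not_dvd [Finite G] (h : UHyp t p a q Z T T' U s s' u) {y : G} (hy : y ∈ up T')
    {r : ℕ} (hr : r.Prime) (hr2 : r ≠ 2) (hrq : r ∣ q - 1) (hyr : orderOf y = r) :
    ¬ p ∣ Nat.card (Subgroup.centralizer ({y} : Set G)) := by
  obtain ⟨y', hy', rfl⟩ := hy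
  have hp : Fact p.Prime := ⟨h.prime⟩
  have hp2 : Fact (Nat.Prime 2) := ⟨Nat.prime_two⟩
  have hfr : Fact r.Prime := ⟨hr⟩
  have hc := h.chyp
  change orderOf (y' : G) = r at hyr
  change ¬ p ∣ Nat.card (Subgroup.centralizer ({(y' : G)} : Set G))
  have hyo : orderOf y' = r := by rw [← Subgroup.orderOf_coe]; exact hyr
  have hq1 := hc.one_lt_q
  -- `r` does not divide `|Z|`
  have hrZ : ¬ r ∣ Nat.card Z := by
    intro h1
    obtain ⟨z₀, -, hz⟩ := hc.card_Z
    have h2 : (r : ℤ) ∣ q + 1 := by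
      have h3 : (r : ℤ) ∣ (Nat.card Z : ℤ) * z₀ := Dvd.dvd.mul_right (by exact_mod_cast h1) _
      rw [hz] at h3
      simpa using h3
    have h3 : (r : ℤ) ∣ q - 1 := by
      have h4 : ((q - 1 : ℕ) : ℤ) = (q : ℤ) - 1 := by push_cast [hq1.le]; ring
      rw [← h4]; exact_mod_cast hrq
    have h4 : (r : ℤ) ∣ 2 := by
      have h5 := dvd_sub h2 h3
      have h6 : (q : ℤ) + 1 - (q - 1) = 2 := by ring
      rwa [h6] at h5
    have h5 : r ∣ 2 := by exact_mod_cast h4
    exact hr2 ((Nat.prime_dvd_prime_iff_eq hr Nat.prime_two).1 h5)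
  have hZr : ∀ z ∈ Z, z ^ r = 1 → z = 1 := by
    intro z hz hzr
    have h1 : orderOf z ∣ r := orderOf_dvd_of_pow_eq_one hzr
    rcases (Nat.dvd_prime hr).1 h1 with h2 | h2
    · exact orderOf_eq_one_iff.1 h2
    · exfalso
      apply hrZ
      have h3 := orderOf_dvd_natCard (⟨z, hz⟩ : Z)
      rwa [Subgroup.orderOf_mk, h2] at h3
  have hyr1 : y' ^ r = 1 := by rw [← hyo, pow_orderOf_eq_one]
  have hy1 : y' ≠ 1 := by
    intro h1
    rw [h1, orderOf_one] at hyo
    exact hr.one_lt.ne hyo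
  have hyZ : y' ∉ Z := fun h1 => hy1 (hZr _ h1 hyr1)
  -- `s'` inverts `y'`
  have hinv : s' * y' * s'⁻¹ = y'⁻¹ := by
    have h1 := hc.s'_norm y' hy'
    have h2 : (y' * (s' * y' * s'⁻¹)) ^ r = 1 := by
      have h3 : Commute y' (s' * y' * s'⁻¹) := hc.T'_comm y' hy' _ (hc.s'_conj y' hy')
      rw [h3.mul_pow, hyr1, one_mul, conj_pow, hyr1]
      group
    have h3 := hZr _ h1 h2
    exact eq_inv_of_mul_eq_one_right h3
  have hinvG : (s' : G) * y' * (s' : G)⁻¹ = (y' : G)⁻¹ := congrArg Subtype.val hinv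
  -- elements commuting with `t` and `y`
  have hcent : ∀ x : G, (hx : x * t = t * x) → x * y' = y' * x →
      (⟨x, Subgroup.mem_centralizer_singleton_iff.2 hx⟩ : Subgroup.centralizer ({t} : Set G)) ∈
        T' := by
    intro x hx hxy
    exact hc.cent_T' y' hy' hyZ _ (Subtype.ext hxy)
  have hyt : (y' : G) * t = t * y' := comm_of_mem y'
  set D : Subgroup G := Subgroup.centralizer ({(y' : G)} : Set G) with hD
  have hDmem : ∀ x, x ∈ D ↔ x * y' = y' * x := fun x => Subgroup.mem_centralizer_singleton_iff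
  have htD : t ∈ D := (hDmem t).2 hyt.symm
  -- a Sylow `2`-subgroup of `D` containing `t`
  let tD : D := ⟨t, htD⟩
  have htDo : orderOf tD = 2 := by rw [Subgroup.orderOf_mk]; exact order_t h
  have hA : IsPGroup 2 (Subgroup.zpowers tD) :=
    IsPGroup.of_card (n := 1) (by rw [Nat.card_zpowers, htDo, pow_one])
  obtain ⟨S, hS⟩ := hA.exists_le_sylow
  have htS : tD ∈ S := hS (Subgroup.mem_zpowers _)
  have htcen : ∀ x ∈ S, x * tD = tD * x := by
    have hne : Nontrivial S := by
      refine ⟨⟨⟨tD, htS⟩, 1, ?_⟩⟩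
      intro h1
      have h2 : tD = 1 := congrArg Subtype.val h1
      rw [h2, orderOf_one] at htDo
      omega
    have hnc := S.isPGroup'.center_nontrivial
    have hdv : 2 ∣ Nat.card (Subgroup.center S) := by
      have h1 : IsPGroup 2 (Subgroup.center S) := S.isPGroup'.to_subgroup _
      obtain ⟨n, hn, he⟩ := (IsPGroup.nontrivial_iff_card h1).1 hnc
      rw [he]
      exact dvd_pow_self 2 hn.ne'
    obtain ⟨j, hj⟩ := exists_prime_orderOf_dvd_card' 2 hdv
    have hjc : ∀ x : S, (j : S) * x = x * j := fun x =>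
      (Subgroup.mem_center_iff.1 j.2 x).symm
    have hjD : ∀ x ∈ S, ((j : S) : D) * x = x * ((j : S) : D) := fun x hx =>
      congrArg Subtype.val (hjc ⟨x, hx⟩)
    have hjt : (((j : S) : D) : G) * t = t * (((j : S) : D) : G) :=
      congrArg Subtype.val (hjD tD htS)
    have hjy : (((j : S) : D) : G) * y' = y' * (((j : S) : D) : G) := (hDmem _).1 ((j : S) : D).2
    have hjT := hcent _ hjt hjy
    have hjo : orderOf (((j : S) : D) : G) = 2 := by
      rw [Subgroup.orderOf_coe, Subgroup.orderOf_coe, Subgroup.orderOf_coe, hj]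
    have hjj : (((j : S) : D) : G) * (((j : S) : D) : G) = 1 := by
      have := pow_orderOf_eq_one (((j : S) : D) : G)
      rwa [hjo, pow_two] at this
    have hj2 := invol_T' hc hjT (Subtype.ext hjj)
    have hjeq : ((j : S) : D) = tD := by
      rcases hj2 with h1 | h1
      · exfalso
        have h2 : (((j : S) : D) : G) = 1 := congrArg Subtype.val h1
        rw [h2, orderOf_one] at hjo
        omega
      · have h2 : (((j : S) : D) : G) = t := congrArg Subtype.val h1
        exact Subtype.ext h2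
    intro x hx
    have := hjD x hx
    rw [hjeq] at this
    exact this.symm
  have hcyc : IsCyclic S := by
    have hcT := hc.T'_cyclic
    have hx : ∀ x : S, (((x : D) : G)) * t = t * ((x : D) : G) := fun x =>
      congrArg Subtype.val (htcen x x.2)
    let f : S →* T' :=
      { toFun := fun x => ⟨⟨((x : D) : G), Subgroup.mem_centralizer_singleton_iff.2 (hx x)⟩,
          hcent _ (hx x) ((hDmem _).1 (x : D).2)⟩
        map_one' := rfl
        map_mul' := fun x y => rfl }
    refine isCyclic_of_injective f ?_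
    intro x z hxz
    have h1 : ((x : D) : G) = ((z : D) : G) := congrArg (fun w : T' => ((w : _) : G)) hxz
    exact Subtype.ext (Subtype.ext h1)
  obtain ⟨K, hKodd, hK⟩ := exists_odd_core S hcyc
  set Y : Subgroup G := K.map D.subtype with hY
  have hYmem : ∀ x, x ∈ Y ↔ x ∈ D ∧ Odd (orderOf x) := by
    intro x
    rw [hY, Subgroup.mem_map]
    constructor
    · rintro ⟨w, hw, rfl⟩
      refine ⟨w.2, ?_⟩
      have := (hK w).1 hw
      rwa [← Subgroup.orderOf_coe] at this
    · rintro ⟨h1, h2⟩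
      refine ⟨⟨x, h1⟩, (hK _).2 ?_, rfl⟩
      rwa [Subgroup.orderOf_mk]
  have hYodd : Odd (Nat.card Y) := by
    rw [hY, Subgroup.card_map_of_injective (Subgroup.subtype_injective _)]
    exact hKodd
  have hconj : ∀ g : G, (∀ x ∈ D, g * x * g⁻¹ ∈ D) → ∀ x ∈ Y, g * x * g⁻¹ ∈ Y := by
    intro g hg x hx
    rw [hYmem] at hx ⊢
    refine ⟨hg x hx.1, ?_⟩
    have h1 : orderOf (g * x * g⁻¹) = orderOf x := by
      have := orderOf_injective (MulAut.conj g).toMonoidHom (MulAut.conj g).injective x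
      simpa using this
    rw [h1]; exact hx.2
  have htY : ∀ x ∈ Y, t * x * t⁻¹ ∈ Y :=
    hconj t (fun x hx => mul_mem (mul_mem htD hx) (inv_mem htD))
  have hs'Y : ∀ x ∈ Y, (s' : G) * x * (s' : G)⁻¹ ∈ Y := by
    refine hconj s' fun x hx => ?_
    rw [hDmem] at hx ⊢
    have h1 : (y' : G) = ((s' : G) * y' * (s' : G)⁻¹)⁻¹ := by rw [hinvG, inv_inv]
    have h2 : ((s' : G) * x * (s' : G)⁻¹) * (((s' : G) * y' * (s' : G)⁻¹)⁻¹) =
        (s' : G) * (x * (y' : G)⁻¹) * (s' : G)⁻¹ := by group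
    have h3 : (((s' : G) * y' * (s' : G)⁻¹)⁻¹) * ((s' : G) * x * (s' : G)⁻¹) =
        (s' : G) * ((y' : G)⁻¹ * x) * (s' : G)⁻¹ := by group
    have h4 : x * (y' : G)⁻¹ = (y' : G)⁻¹ * x := (Commute.inv_right (show Commute x y' from hx)).eq
    rw [← h1] at h2 h3
    rw [h2, h3, h4]
  -- the pieces
  have ht2 := tG_sq h
  have hs2 : (s' : G) * s' = 1 := congrArg Subtype.val hc.s'_sq
  have hts : t * (s' : G) = s' * t := (s'_comm h).symm
  have hkl := Cfsg.Agent.Lib.KleinOrder.card_klein Y hYodd ht2 hs2 hts htY hs'Y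
  have hYt : ∀ v x : G, x ∈ Y ⊓ Subgroup.centralizer ({v} : Set G) ↔ x ∈ Y ∧ x * v = v * x := by
    intro v x
    rw [Subgroup.mem_inf, Subgroup.mem_centralizer_singleton_iff]
  -- `C_Y(t)` is a `p'`-group
  have h1 : ¬ p ∣ Nat.card (Y ⊓ Subgroup.centralizer ({t} : Set G) : Subgroup G) := by
    have hle : (Y ⊓ Subgroup.centralizer ({t} : Set G) : Subgroup G) ≤ up T' := by
      intro x hx
      rw [hYt] at hx
      exact ⟨_, hcent x hx.2 ((hDmem x).1 ((hYmem x).1 hx.1).1), rfl⟩
    intro hdv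
    have h2 := hdv.trans (Subgroup.card_dvd_of_le hle)
    rw [up, Subgroup.card_map_of_injective (Subgroup.subtype_injective _)] at h2
    have h3 := T'_coprime hc
    have h4 : p ∣ q := by
      rw [h.q_eq]; exact dvd_pow_self p (by have := h.a_pos; omega)
    have h5 : p ∣ 1 := by rw [← h3]; exact Nat.dvd_gcd h2 h4
    exact h.prime.one_lt.ne' (Nat.dvd_one.1 h5)
  have hcl : ∀ v : G, orderOf v = 2 → t ≠ v → t * v = v * t → 
      ¬ p ∣ Nat.card (Y ⊓ Subgroup.centralizer ({v} : Set G) : Subgroup G) := by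
    intro v hv htv hc'
    refine not_dvd_of_norm h hv (order_t h) htv hc' ?_ ?_ ?_
    · exact hYodd.of_dvd_nat (Subgroup.card_dvd_of_le inf_le_left)
    · intro x hx
      exact ((hYt v x).1 hx).2
    · intro x hx
      rw [hYt] at hx ⊢
      refine ⟨htY x hx.1, ?_⟩
      have hv' : t⁻¹ * v = v * t⁻¹ := by
        have := (Commute.inv_left (show Commute t v from hc')).eq
        exact this
      calc t * x * t⁻¹ * v = t * x * (t⁻¹ * v) := by group
        _ = t * (x * v) * t⁻¹ := by rw [hv']; group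
        _ = (t * v) * x * t⁻¹ := by rw [hx.2]; group
        _ = v * (t * x * t⁻¹) := by rw [hc']; group
  have h2 := hcl s' (order_s' h) (s'_ne_t h).symm hts
  have h3 := hcl (t * s') (by
      rw [orderOf_eq_prime_iff]
      refine ⟨?_, ?_⟩
      · rw [pow_two]
        calc t * (s' : G) * (t * s') = t * (s' * t) * s' := by group
          _ = t * (t * s') * s' := by rw [hts]
          _ = (t * t) * (s' * s') := by group
          _ = 1 := by rw [ht2, hs2, one_mul]
      · intro h4
        apply s'_ne_t h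
        have h5 : (s' : G) = t⁻¹ * (t * s') := by group
        rw [h5, h4, mul_one]
        exact inv_eq_of_mul_eq_one_left ht2)
    (by
      intro h4
      have h5 : (s' : G) = 1 := by
        have h6 : (s' : G) = t⁻¹ * (t * s') := by group
        rw [h6, ← h4, inv_mul_cancel]
      have h6 := order_s' h
      rw [h5, orderOf_one] at h6
      omega)
    (by
      calc t * (t * (s' : G)) = t * (s' * t) := by rw [hts]
        _ = t * s' * t := by group)
  have h4 : ¬ p ∣ Nat.card Y := by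
    intro hdv
    have h5 := Dvd.dvd.mul_right hdv (Nat.card (Y ⊓ Subgroup.centralizer ({t} : Set G) ⊓
      Subgroup.centralizer ({(s' : G)} : Set G) : Subgroup G) ^ 2)
    rw [hkl] at h5
    rcases (Nat.Prime.dvd_mul h.prime).1 h5 with h6 | h6
    · rcases (Nat.Prime.dvd_mul h.prime).1 h6 with h7 | h7
      · exact h1 h7
      · exact h2 h7
    · exact h3 h6
  intro hdv
  obtain ⟨x, hx⟩ := exists_prime_orderOf_dvd_card' p hdv
  have hxY : (x : G) ∈ Y := by
    rw [hYmem]
    refine ⟨x.2, ?_⟩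
    rw [Subgroup.orderOf_coe, hx]
    refine h.prime.odd_of_ne_two ?_
    rintro rfl
    have h5 := hc.odd_q
    rw [h.q_eq] at h5
    exact absurd ((Nat.even_pow.2 ⟨even_two, by have := h.a_pos; omega⟩))
      (Nat.not_even_iff_odd.2 h5)
  apply h4
  have h5 := orderOf_dvd_natCard (⟨(x : G), hxY⟩ : Y)
  rwa [Subgroup.orderOf_mk, Subgroup.orderOf_coe, hx] at h5

end GLevel

end Cfsg.Agent.Classification.InvCentU.Local1
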