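import Mathlib
import Cfsg.Agent.Classification.InvCentU.Local1
import Cfsg.Agent.Classification.InvCentU.FiveLib

/-!
# S0485, quasi-dihedral unitary case: `(q, k) = (5, -3)` does not occur
-/

set_option autoImplicit false

namespace Cfsg.Agent.Classification.InvCentU.Five

open Cfsg.Agent.Classification Cfsg.Agent.Classification.InvCent
open Cfsg.Agent.Classification.InvCentU.Defs Cfsg.Agent.Classification.InvCentU.Local1
open Cfsg.Agent.Classification.InvCentU.FiveLib

variable {G : Type*} [Group G] {t : G}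
  {Z T T' U : Subgroup (Subgroup.centralizer ({t} : Set G))}
  {s s' u : Subgroup.centralizer ({t} : Set G)}

theorem card_up (H : Subgroup (Subgroup.centralizer ({t} : Set G))) :
    Nat.card (up H) = Nat.card H :=
  Subgroup.card_map_of_injective (Subgroup.subtype_injective _)

theorem mem_up {H : Subgroup (Subgroup.centralizer ({t} : Set G))} {x : G} :
    x ∈ up H ↔ ∃ h : x * t = t * x, (⟨x, Subgroup.mem_centralizer_singleton_iff.2 h⟩ :
      Subgroup.centralizer ({t} : Set G)) ∈ H := by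
  constructor
  · rintro ⟨y, hy, rfl⟩
    exact ⟨comm_of_mem y, hy⟩
  · rintro ⟨h, hx⟩
    exact ⟨_, hx, rfl⟩

/-- Elements of 2-power order of `T'`. -/
theorem t_mem_zpowers [Finite G] {p a q : ℕ} (h : UHyp t p a q Z T T' U s s' u) {x : G}
    (hx : x ∈ up T') {n : ℕ} (hx8 : x ^ (2 ^ n) = 1) (hx1 : x ≠ 1) : t ∈ Subgroup.zpowers x := by
  obtain ⟨m, hm, ho⟩ := (Nat.dvd_prime_pow Nat.prime_two).1 (orderOf_dvd_of_pow_eq_one hx8)
  have hm0 : m ≠ 0 := by
    rintro rfl
    rw [pow_zero] at ho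
    exact hx1 (orderOf_eq_one_iff.1 ho)
  obtain ⟨j, rfl⟩ := Nat.exists_eq_succ_of_ne_zero hm0
  have h1 : orderOf (x ^ (2 ^ j)) = 2 := by
    rw [orderOf_pow_of_dvd (by positivity) (by rw [ho]; exact pow_dvd_pow 2 (Nat.le_succ j)), ho,
      pow_succ, Nat.mul_div_cancel_left _ (by positivity)]
  obtain ⟨y, hy, rfl⟩ := hx
  have h2 : (((y ^ (2 ^ j) : Subgroup.centralizer ({t} : Set G)) : G)) = (y : G) ^ (2 ^ j) := rfl
  have h3 : y ^ (2 ^ j) * y ^ (2 ^ j) = 1 := by
    apply Subtype.ext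
    rw [Subgroup.coe_mul, h2, ← pow_two]
    have := pow_orderOf_eq_one ((y : G) ^ (2 ^ j))
    have h4 : orderOf ((y : G) ^ (2 ^ j)) = 2 := h1
    rw [h4] at this
    exact this
  rcases invol_T' h.chyp (pow_mem hy (2 ^ j)) h3 with h4 | h4
  · exfalso
    have h5 : (y : G) ^ (2 ^ j) = 1 := congrArg Subtype.val h4
    have h6 : orderOf ((y : G) ^ (2 ^ j)) = 2 := h1
    rw [h5, orderOf_one] at h6
    omega
  · have h5 : (y : G) ^ (2 ^ j) = t := congrArg Subtype.val h4
    have h6 : (y : G) ^ (2 ^ j) ∈ Subgroup.zpowers (y : G) := pow_mem (Subgroup.mem_zpowers _) _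
    rwa [h5] at h6

theorem T'_le_norm {p a q : ℕ} (h : UHyp t p a q Z T T' U s s' u) {τ : G} (hτ : τ ∈ up T') :
    τ ∈ Subgroup.normalizer (up U : Set G) := by
  have key : ∀ τ ∈ up T', ∀ x ∈ up U, τ * x * τ⁻¹ ∈ up U := by
    rintro _ ⟨y, hy, rfl⟩ _ ⟨x, hx, rfl⟩
    exact ⟨_, h.norm_U y hy x hx, rfl⟩
  intro x
  constructor
  · exact fun hx => key τ hτ x hx
  · intro hx
    have h1 := key τ⁻¹ (inv_mem hτ) _ hx
    have h2 : τ⁻¹ * (τ * x * τ⁻¹) * τ⁻¹⁻¹ = x := by group
    rwa [h2] at h1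

theorem num1 : ∀ m < 268, (2142 % (8 * m + 1) = 0 → (2142 / (8 * m + 1)) % 5 = 1 → m = 2) := by
  decide +kernel

theorem num2 : ∀ m < 127, (126 % m = 0 → m % 17 = 1 → m = 1 ∨ m = 18) := by
  decide +kernel

/-- The exclusion of `(q, k) = (5, -3)`. -/
theorem false_aux [Finite G] [IsSimpleGroup G] (h : UHyp t 5 1 5 Z T T' U s s' u)
    (hn : (Subgroup.centralizer ({t} : Set G)).index = 357) {K : Subgroup G}
    (hKodd : Odd (Nat.card K)) (hUK : up U ≤ K) (hKC : K ≤ Subgroup.centralizer (up U : Set G))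
    (hKt : ∀ x ∈ K, x * t = t * x → ∃ z ∈ up Z, Odd (orderOf z) ∧ ∃ v ∈ up U, x = z * v)
    (hZK : ∀ z ∈ up Z, Odd (orderOf z) → z ∈ K)
    (hKN : ∀ g ∈ Subgroup.normalizer (up U : Set G), ∀ x ∈ K, g * x * g⁻¹ ∈ K)
    (hN : ∀ g ∈ Subgroup.normalizer (up U : Set G), ∃ k ∈ K, ∃ τ ∈ up T', g = k * τ) : False := by
  have hc := h.chyp
  have h5p : Fact (Nat.Prime 5) := ⟨by norm_num⟩
  have h17p : Fact (Nat.Prime 17) := ⟨by norm_num⟩
  -- the orders
  obtain ⟨w, hw, hZ⟩ : ∃ w : ℕ, (w = 1 ∨ w = 3) ∧ Nat.card Z = 2 * w := by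
    obtain ⟨z₀, hz0, hz⟩ := hc.card_Z
    have h1 : Nat.card Z * z₀ = 6 := by
      have : ((Nat.card Z * z₀ : ℕ) : ℤ) = 6 := by push_cast; rw [hz]; norm_num
      exact_mod_cast this
    have h2 : z₀ ∣ 6 := Dvd.intro_left _ h1
    have h3 : z₀ ≤ 6 := Nat.le_of_dvd (by norm_num) h2
    obtain ⟨j, hj⟩ := hz0
    have hj2 : j ≤ 2 := by omega
    interval_cases j
    · subst hj; exact ⟨3, Or.inr rfl, by omega⟩
    · subst hj; exact ⟨1, Or.inl rfl, by omega⟩
    · subst hj; omega
  have hwo : Odd w := by rcases hw with rfl | rfl <;> decide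
  have hw0 : 0 < w := by omega
  have hT' : Nat.card T' = 8 * w := by
    have h1 := hc.card_T'
    rw [hZ] at h1
    push_cast at h1
    omega
  have hC : Nat.card (Subgroup.centralizer ({t} : Set G)) = 240 * w := by
    rw [hc.card_C, hZ]; ring
  have hG : Nat.card G = 85680 * w := by
    rw [← (Subgroup.centralizer ({t} : Set G)).index_mul_card, hn, hC]; ring
  -- the group `A` of order `8`
  have hcyc := hc.T'_cyclic
  obtain ⟨τ, hτ⟩ := hcyc.exists_generator
  have hτo : orderOf τ = 8 * w := by rw [orderOf_eq_card_of_forall_mem_zpowers hτ, hT']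
  have hτGo : orderOf ((τ : Subgroup.centralizer ({t} : Set G)) : G) = 8 * w := by
    rw [Subgroup.orderOf_coe, Subgroup.orderOf_coe, hτo]
  set σ : G := ((τ : Subgroup.centralizer ({t} : Set G)) : G) ^ w with hσ
  have hσo : orderOf σ = 8 := by
    rw [hσ, orderOf_pow_of_dvd hw0.ne' (by rw [hτGo]; exact dvd_mul_left _ _), hτGo,
      Nat.mul_div_cancel _ hw0]
  have hτT' : ((τ : Subgroup.centralizer ({t} : Set G)) : G) ∈ up T' := ⟨τ, τ.2, rfl⟩
  have hσT' : σ ∈ up T' := pow_mem hτT' w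
  set A : Subgroup G := Subgroup.zpowers σ with hA
  have hA8 : Nat.card A = 8 := by rw [hA, Nat.card_zpowers, hσo]
  have hAT' : A ≤ up T' := Subgroup.zpowers_le.2 hσT'
  have hA1 : ∀ a ∈ A, a ≠ 1 → t ∈ Subgroup.zpowers a := by
    intro a ha ha1
    refine t_mem_zpowers h (hAT' ha) (n := 3) ?_ ha1
    have h1 : (⟨a, ha⟩ : A) ^ Nat.card A = 1 := pow_card_eq_one'
    rw [hA8] at h1
    exact congrArg Subtype.val h1
  have hσ1 : σ ≠ 1 := by
    intro h1
    rw [h1, orderOf_one] at hσo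
    omega
  have htA : t ∈ A := hA1 σ (Subgroup.mem_zpowers σ) hσ1
  have hAt : ∀ a ∈ A, a * t = t * a := fun a ha => (mem_up.1 (hAT' ha)).1
  have ht2 := tG_sq h
  -- `C_K(t)`
  have hCK : Nat.card (K ⊓ Subgroup.centralizer ({t} : Set G) : Subgroup G) = 5 * w := by
    set B : Subgroup G := K ⊓ Subgroup.centralizer ({t} : Set G) with hB
    have hBodd : Odd (Nat.card B) := hKodd.of_dvd_nat (Subgroup.card_dvd_of_le inf_le_left)
    have hBle : B ≤ up hc.base.ZU := by
      intro x hx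
      obtain ⟨z, hz, -, v, hv, rfl⟩ := hKt x hx.1 (Subgroup.mem_centralizer_singleton_iff.1 hx.2)
      obtain ⟨z, hz, rfl⟩ := hz
      obtain ⟨v, hv, rfl⟩ := hv
      exact ⟨z * v, hc.base.mul_mem_ZU hz hv, rfl⟩
    have h1 : Nat.card B ∣ 10 * w := by
      have h2 := Subgroup.card_dvd_of_le hBle
      rw [card_up, hc.base.card_ZU, hZ] at h2
      have h3 : 2 * w * 5 = 10 * w := by ring
      rwa [h3] at h2
    have h2 : Nat.card B ∣ 5 * w := by
      have h3 : 10 * w = 2 * (5 * w) := by ring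
      rw [h3] at h1
      exact Nat.Coprime.dvd_of_dvd_mul_left ((Nat.coprime_two_left).mpr hBodd).symm h1
    have h3 : 5 ∣ Nat.card B := by
      have h4 : up U ≤ B := by
        intro x hx
        exact ⟨hUK hx, Subgroup.mem_centralizer_singleton_iff.2 (mem_up.1 hx).1⟩
      have h5 := Subgroup.card_dvd_of_le h4
      rwa [card_up, hc.card_U] at h5
    rcases hw with rfl | rfl
    · exact Nat.dvd_antisymm h2 h3
    · have hp3 : Fact (Nat.Prime 3) := ⟨by norm_num⟩
      have h4 : 3 ∣ Nat.card Z := by rw [hZ]; norm_num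
      obtain ⟨z, hz⟩ := exists_prime_orderOf_dvd_card' 3 h4
      have hzo : orderOf ((z : Subgroup.centralizer ({t} : Set G)) : G) = 3 := by
        rw [Subgroup.orderOf_coe, Subgroup.orderOf_coe, hz]
      have hzK : ((z : Subgroup.centralizer ({t} : Set G)) : G) ∈ B :=
        ⟨hZK _ ⟨z, z.2, rfl⟩ (by rw [hzo]; decide), (z : Subgroup.centralizer ({t} : Set G)).2⟩
      have h5 : 3 ∣ Nat.card B := by
        have h6 := orderOf_dvd_natCard (⟨_, hzK⟩ : B)
        rwa [Subgroup.orderOf_mk, hzo] at h6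
      have h6 : 5 * 3 ∣ Nat.card B := Nat.Coprime.mul_dvd_of_dvd_of_dvd (by norm_num) h3 h5
      exact Nat.dvd_antisymm h2 h6
  -- `|K|`
  obtain ⟨m, hm⟩ := index_mod K A ht2 hKodd
    (fun a ha x hx => hKN a (T'_le_norm h (hAT' ha)) x hx) htA hAt hA1
  rw [hA8, hCK] at hm
  -- `|N(U)|`
  set N : Subgroup G := Subgroup.normalizer (up U : Set G) with hNdef
  have hKleN : K ≤ N := hKC.trans (Subgroup.centralizer_le_normalizer _)
  have hT'N : up T' ≤ N := fun x hx => T'_le_norm h hx
  have hKT' : Nat.card (K ⊓ up T' : Subgroup G) = w := by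
    set B : Subgroup G := K ⊓ up T' with hB
    have hBodd : Odd (Nat.card B) := hKodd.of_dvd_nat (Subgroup.card_dvd_of_le inf_le_left)
    have hBle : B ≤ up Z := by
      intro x hx
      obtain ⟨z, hz, -, v, hv, rfl⟩ := hKt x hx.1 (mem_up.1 hx.2).1
      obtain ⟨z, hz, rfl⟩ := hz
      obtain ⟨v, hv, rfl⟩ := hv
      have h1 : v ∈ T' := by
        obtain ⟨y, hy, hye⟩ := hx.2
        have h2 : y = z * v := Subtype.ext hye
        have h3 : v = z⁻¹ * y := by rw [h2]; group
        rw [h3]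
        exact mul_mem (inv_mem (hc.Z_le_T' hz)) hy
      have h2 := eq_one_of_T'_U hc h1 hv
      refine ⟨z, hz, ?_⟩
      rw [h2]
      exact (mul_one _).symm
    have h2 : Nat.card B ∣ w := by
      have h3 := Subgroup.card_dvd_of_le hBle
      rw [card_up, hZ] at h3
      exact Nat.Coprime.dvd_of_dvd_mul_left ((Nat.coprime_two_left).mpr hBodd).symm h3
    rcases hw with rfl | rfl
    · exact Nat.dvd_one.1 h2
    · have hp3 : Fact (Nat.Prime 3) := ⟨by norm_num⟩
      have h4 : 3 ∣ Nat.card Z := by rw [hZ]; norm_num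
      obtain ⟨z, hz⟩ := exists_prime_orderOf_dvd_card' 3 h4
      have hzo : orderOf ((z : Subgroup.centralizer ({t} : Set G)) : G) = 3 := by
        rw [Subgroup.orderOf_coe, Subgroup.orderOf_coe, hz]
      have hzK : ((z : Subgroup.centralizer ({t} : Set G)) : G) ∈ B :=
        ⟨hZK _ ⟨z, z.2, rfl⟩ (by rw [hzo]; decide), ⟨z, hc.Z_le_T' z.2, rfl⟩⟩
      have h5 : 3 ∣ Nat.card B := by
        have h6 := orderOf_dvd_natCard (⟨_, hzK⟩ : B)
        rwa [Subgroup.orderOf_mk, hzo] at h6
      exact Nat.dvd_antisymm h2 h5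
  have hNcard : Nat.card N = 8 * Nat.card K := by
    have h1 := card_prod hKleN hT'N hKN hN
    rw [hKT', card_up, hT'] at h1
    apply Nat.eq_of_mul_eq_mul_right hw0
    rw [h1]; ring
  -- Sylow `5`-subgroups of `G`
  have hU5 : IsPGroup 5 (up U) := IsPGroup.of_card (n := 1) (by rw [card_up, hc.card_U, pow_one])
  have hm2 : m = 2 := by
    have h1 := sylow_index (p := 5) (P := up U) (D := ⊤) le_top hU5 (by
      rw [Subgroup.card_top, card_up, hc.card_U, hG]
      rcases hw with rfl | rfl <;> norm_num)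
    obtain ⟨i, hi, hie⟩ := h1
    rw [inf_top_eq, Subgroup.card_top, hG, ← hNdef, hNcard, hm] at hie
    have h2 : i * (8 * m + 1) = 2142 := by
      have h3 : 0 < 40 * w := by omega
      apply Nat.eq_of_mul_eq_mul_right h3
      calc i * (8 * m + 1) * (40 * w) = i * (8 * ((m * 8 + 1) * (5 * w))) := by ring
        _ = 85680 * w := hie.symm
        _ = 2142 * (40 * w) := by ring
    have h3 : 2142 % (8 * m + 1) = 0 := Nat.mod_eq_zero_of_dvd (Dvd.intro_left _ h2)
    have h4 : 2142 / (8 * m + 1) = i := by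
      rw [← h2]; exact Nat.mul_div_cancel _ (by omega)
    have h5 : m < 268 := by
      have h6 : 8 * m + 1 ≤ 2142 := Nat.le_of_dvd (by norm_num) (Dvd.intro_left _ h2)
      omega
    exact num1 m h5 h3 (by rw [h4]; exact hi)
  subst hm2
  have hKc : Nat.card K = 85 * w := by rw [hm]; ring
  -- the Sylow `17`-subgroup of `K`
  have h17 : 17 ∣ Nat.card K := by rw [hKc]; exact Dvd.dvd.mul_right (by norm_num) _
  obtain ⟨x₀, hx₀⟩ := exists_prime_orderOf_dvd_card' 17 h17
  have hP17 : IsPGroup 17 (Subgroup.zpowers x₀) :=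
    IsPGroup.of_card (n := 1) (by rw [Nat.card_zpowers, hx₀, pow_one])
  have hPi : ¬ 17 ∣ (Subgroup.zpowers x₀).index := by
    have h1 := (Subgroup.zpowers x₀).card_mul_index
    rw [Nat.card_zpowers, hx₀, hKc] at h1
    have h2 : (Subgroup.zpowers x₀).index = 5 * w := by omega
    rw [h2]
    rcases hw with rfl | rfl <;> norm_num
  let P : Sylow 17 K := hP17.toSylow hPi
  have hPc : Nat.card (Sylow 17 K) = 1 := by
    have h1 := card_sylow_modEq_one 17 K
    have h2 := P.card_dvd_index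
    have h3 : (P : Subgroup K).index = 5 * w := by
      have h4 := (Subgroup.zpowers x₀).card_mul_index
      rw [Nat.card_zpowers, hx₀, hKc] at h4
      have h5 : (Subgroup.zpowers x₀).index = 5 * w := by omega
      exact h5
    rw [h3] at h2
    have h4 : Nat.card (Sylow 17 K) ≤ 5 * w := Nat.le_of_dvd (by omega) h2
    have h5 : Nat.card (Sylow 17 K) % 17 = 1 := h1
    omega
  have hPsub : Subsingleton (Sylow 17 K) := by
    have := (Nat.card_eq_one_iff_unique.1 hPc).1
    exact this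
  set H : Subgroup G := (P : Subgroup K).map K.subtype with hH
  have hHc : Nat.card H = 17 := by
    rw [hH, Subgroup.card_map_of_injective K.subtype_injective]
    change Nat.card (Subgroup.zpowers x₀) = 17
    rw [Nat.card_zpowers, hx₀]
  have hHmem : ∀ x, x ∈ H ↔ x ∈ K ∧ x ^ 17 = 1 := by
    intro x
    constructor
    · intro hx
      refine ⟨?_, ?_⟩
      · obtain ⟨y, -, rfl⟩ := hx
        exact y.2
      · have h1 : (⟨x, hx⟩ : H) ^ Nat.card H = 1 := pow_card_eq_one'
        rw [hHc] at h1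
        exact congrArg Subtype.val h1
    · rintro ⟨hxK, hx17⟩
      have h1 : IsPGroup 17 (Subgroup.zpowers (⟨x, hxK⟩ : K)) := by
        have h2 : orderOf (⟨x, hxK⟩ : K) ∣ 17 ^ 1 := by
          rw [Subgroup.orderOf_mk, pow_one]
          exact orderOf_dvd_of_pow_eq_one hx17
        obtain ⟨j, -, hj⟩ := (Nat.dvd_prime_pow (by norm_num)).1 h2
        exact IsPGroup.of_card (n := j) (by rw [Nat.card_zpowers, hj])
      obtain ⟨S, hS⟩ := h1.exists_le_sylow
      have h2 : S = P := Subsingleton.elim _ _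
      rw [h2] at hS
      exact ⟨⟨x, hxK⟩, hS (Subgroup.mem_zpowers _), rfl⟩
  have hHK : H ≤ K := fun x hx => ((hHmem x).1 hx).1
  have hNH : N ≤ Subgroup.normalizer (H : Set G) := by
    have key : ∀ g ∈ N, ∀ x ∈ H, g * x * g⁻¹ ∈ H := by
      intro g hg x hx
      rw [hHmem] at hx ⊢
      refine ⟨hKN g hg x hx.1, ?_⟩
      rw [conj_pow, hx.2]; group
    intro g hg x
    constructor
    · exact fun hx => key g hg x hx
    · intro hx
      have h1 := key g⁻¹ (inv_mem hg) _ hx
      have h2 : g⁻¹ * (g * x * g⁻¹) * g⁻¹⁻¹ = x := by group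
      rwa [h2] at h1
  -- `|N(H)|`
  have hNHc : Nat.card (Subgroup.normalizer (H : Set G)) = 4760 * w := by
    have h1 := sylow_index (p := 17) (P := H) (D := ⊤) le_top
      (IsPGroup.of_card (n := 1) (by rw [hHc, pow_one])) (by
        rw [Subgroup.card_top, hHc, hG]
        rcases hw with rfl | rfl <;> norm_num)
    obtain ⟨i, hi, hie⟩ := h1
    rw [inf_top_eq, Subgroup.card_top, hG] at hie
    obtain ⟨j, hj⟩ := Subgroup.card_dvd_of_le hNH
    rw [hNcard, hKc] at hj
    rw [hj] at hie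
    have h2 : i * j = 126 := by
      have h3 : 0 < 680 * w := by omega
      apply Nat.eq_of_mul_eq_mul_right h3
      calc i * j * (680 * w) = i * (8 * (85 * w) * j) := by ring
        _ = 85680 * w := hie.symm
        _ = 126 * (680 * w) := by ring
    have h3 : i < 127 := by
      have h4 : i ≤ 126 := Nat.le_of_dvd (by norm_num) (Dvd.intro _ h2)
      omega
    rcases num2 i h3 (Nat.mod_eq_zero_of_dvd (Dvd.intro _ h2)) hi with h4 | h4
    · exfalso
      rw [h4, one_mul] at hie
      have h5 : Subgroup.normalizer (H : Set G) = ⊤ := by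
        apply Subgroup.eq_top_of_card_eq
        rw [hj, ← hie, hG]
      have h6 : H.Normal := Subgroup.normalizer_eq_top_iff.1 h5
      rcases h6.eq_bot_or_eq_top with h7 | h7
      · rw [h7, Subgroup.card_bot] at hHc
        omega
      · rw [h7, Subgroup.card_top, hG] at hHc
        omega
    · rw [h4] at h2
      have h5 : j = 7 := by omega
      rw [hj, h5]; ring
  -- `|C(H)|`
  have hAC : ∀ a ∈ A, a ∈ Subgroup.centralizer (H : Set G) → a = 1 := by
    intro a ha haH
    by_contra ha1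
    have h1 : t ∈ Subgroup.centralizer (H : Set G) := by
      have h2 : Subgroup.zpowers a ≤ Subgroup.centralizer (H : Set G) :=
        Subgroup.zpowers_le.2 haH
      exact h2 (hA1 a ha ha1)
    have h2 : H ≤ K ⊓ Subgroup.centralizer ({t} : Set G) := by
      intro x hx
      refine ⟨hHK hx, Subgroup.mem_centralizer_singleton_iff.2 ?_⟩
      exact Subgroup.mem_centralizer_iff.1 h1 x hx
    have h3 := Subgroup.card_dvd_of_le h2
    rw [hHc, hCK] at h3
    rcases hw with rfl | rfl <;> norm_num at h3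
  have hAN : A ≤ N := hAT'.trans hT'N
  have hcen1 := card_centralizer_inf hHc le_rfl (hAN.trans hNH) hA8 hAC (by
    rw [hNHc]
    rcases hw with rfl | rfl <;> norm_num)
  have hcen2 := card_centralizer_inf hHc hNH hAN hA8 hAC (by
    rw [hNcard, hKc]
    rcases hw with rfl | rfl <;> norm_num)
  rw [hNHc, inf_eq_right.2 (Subgroup.centralizer_le_normalizer _)] at hcen1
  rw [hNcard, hKc] at hcen2
  -- the Sylow `5`-subgroups of `C(H)`
  have hUC : up U ≤ Subgroup.centralizer (H : Set G) := by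
    intro x hx
    rw [Subgroup.mem_centralizer_iff]
    intro y hy
    have h1 := Subgroup.mem_centralizer_iff.1 (hKC (hHK hy)) x hx
    exact h1.symm
  obtain ⟨i, hi, hie⟩ := sylow_index (p := 5) (P := up U) hUC hU5 (by
    have h1 : Nat.card (Subgroup.centralizer (H : Set G)) = 595 * w := by omega
    rw [h1, card_up, hc.card_U]
    rcases hw with rfl | rfl <;> norm_num)
  have h1 : Nat.card (Subgroup.centralizer (H : Set G)) = 595 * w := by omega
  have h2 : Nat.card (N ⊓ Subgroup.centralizer (H : Set G) : Subgroup G) = 85 * w := by omega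
  rw [← hNdef, h1, h2] at hie
  have h3 : i = 7 := by
    apply Nat.eq_of_mul_eq_mul_right (show 0 < 85 * w by omega)
    rw [← hie]; ring
  rw [h3] at hi
  omega

end Cfsg.Agent.Classification.InvCentU.Five
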