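import Mathlib
import Cfsg.Agent.Classification.InvCentU.Defs
import Cfsg.Agent.Classification.InvCentU.Local1
import Cfsg.Agent.Lib.PGroupCoprimeAction
import Cfsg.Agent.Lib.InvolutionKernel

/-!
# S0485, quasi-dihedral unitary case: the normalizer of the root group

* `exists_core`: `C_G(U) = K ⟨t⟩` with `K` of odd order, `N_G(U) = K T'`;
* `dichotomy`: `p` does not divide `|G : C_G(t)|` or `p ^ (a + 1)` does.
-/

set_option autoImplicit false
set_option linter.unusedSectionVars false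
set_option linter.unusedVariables false

namespace Cfsg.Agent.Classification.InvCentU.Local2

open Cfsg.Agent.Classification Cfsg.Agent.Classification.InvCentU.Defs

/-- A cyclic Sylow `2`-subgroup has a normal complement, the set of elements of odd order. -/
theorem exists_odd_core {C : Type*} [Group C] [Finite C] (S : Sylow 2 C) (hS : IsCyclic S) :
    ∃ K : Subgroup C, (∀ g, g ∈ K ↔ Odd (orderOf g)) ∧
      ∀ g, ∃ k ∈ K, ∃ s ∈ (S : Subgroup C), g = k * s := by
  by_cases h2 : 2 ∣ Nat.card C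
  · have hmin : (Nat.card C).minFac = 2 := by
      rw [Nat.minFac_eq_two_iff]; exact h2
    have hn := hS.normalizer_le_centralizer hmin
    have hcomp := hS.isComplement' hmin
    refine ⟨(MonoidHom.transferSylow S hn).ker, ?_, ?_⟩
    · intro g
      constructor
      · intro hg
        have h1 : Odd (Nat.card (MonoidHom.transferSylow S hn).ker) := by
          rw [← Nat.not_even_iff_odd, even_iff_two_dvd]
          exact MonoidHom.not_dvd_card_ker_transferSylow S hn
        have h3 : orderOf (⟨g, hg⟩ : (MonoidHom.transferSylow S hn).ker) ∣ _ :=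
          orderOf_dvd_natCard _
        rw [Subgroup.orderOf_mk] at h3
        exact Odd.of_dvd_nat h1 h3
      · intro hg
        rw [MonoidHom.mem_ker]
        have h1 : orderOf (MonoidHom.transferSylow S hn g) ∣ orderOf g := orderOf_map_dvd _ g
        have h3 : orderOf (MonoidHom.transferSylow S hn g) ∣ Nat.card S := orderOf_dvd_natCard _
        obtain ⟨k, hk⟩ := S.isPGroup'.exists_card_eq
        rw [hk] at h3
        have h4 : Nat.Coprime (orderOf g) (2 ^ k) := by
          apply Nat.Coprime.pow_right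
          exact Nat.Coprime.symm ((Nat.coprime_two_left).mpr hg)
        have h5 := Nat.dvd_gcd h1 h3
        rw [h4] at h5
        exact orderOf_eq_one_iff.mp (Nat.dvd_one.mp h5)
    · intro g
      obtain ⟨⟨k, s⟩, hks⟩ := hcomp.2 g
      exact ⟨k, k.2, s, s.2, hks.symm⟩
  · refine ⟨⊤, ?_, ?_⟩
    · intro g
      refine ⟨fun _ => ?_, fun _ => Subgroup.mem_top _⟩
      have h1 : Odd (Nat.card C) := by
        rw [← Nat.not_even_iff_odd, even_iff_two_dvd]; exact h2
      exact Odd.of_dvd_nat h1 (orderOf_dvd_natCard g)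
    · intro g
      exact ⟨g, Subgroup.mem_top _, 1, one_mem _, (mul_one g).symm⟩

section

variable {G : Type*} [Group G] {t : G} {p a q : ℕ}
  {Z T T' U : Subgroup (Subgroup.centralizer ({t} : Set G))}
  {s s' u : Subgroup.centralizer ({t} : Set G)}

theorem one_lt_q (h : UHyp t p a q Z T T' U s s' u) : 1 < q := h.chyp.one_lt_q

theorem p_dvd_q (h : UHyp t p a q Z T T' U s s' u) : p ∣ q := by
  rw [h.q_eq]
  exact dvd_pow_self p (by have := h.a_pos; omega)

theorem coprime_p (h : UHyp t p a q Z T T' U s s' u) {n : ℕ} (hn : ¬ p ∣ n) :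
    Nat.Coprime q n := by
  rw [h.q_eq]
  exact Nat.Coprime.pow_left _ ((Nat.Prime.coprime_iff_not_dvd h.prime).mpr hn)

theorem not_dvd_Z (h : UHyp t p a q Z T T' U s s' u) : ¬ p ∣ Nat.card Z := by
  intro hd
  obtain ⟨z₀, -, hz⟩ := h.chyp.card_Z
  have h1 : (p : ℤ) ∣ q + 1 := by
    have h2 : (q : ℤ) + 1 = Nat.card Z * z₀ := by linear_combination -hz
    rw [h2]
    exact Dvd.dvd.mul_right (by exact_mod_cast hd) _
  have h3 : (p : ℤ) ∣ q := by exact_mod_cast p_dvd_q h
  have h4 : (p : ℤ) ∣ 1 := (Int.dvd_add_right h3).mp h1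
  have h5 : (p : ℕ) ∣ 1 := by exact_mod_cast h4
  exact h.prime.one_lt.ne' (Nat.dvd_one.mp h5)

theorem not_dvd_sub (h : UHyp t p a q Z T T' U s s' u) : ¬ p ∣ q - 1 := by
  intro hd
  have h1 := one_lt_q h
  have h2 : p ∣ 1 := by
    have h3 := (Nat.dvd_sub (p_dvd_q h) hd)
    have h4 : q - (q - 1) = 1 := by omega
    rwa [h4] at h3
  exact h.prime.one_lt.ne' (Nat.dvd_one.mp h2)

theorem not_dvd_add (h : UHyp t p a q Z T T' U s s' u) : ¬ p ∣ q + 1 := by
  intro hd
  have h4 : p ∣ 1 := (Nat.dvd_add_right (p_dvd_q h)).mp hd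
  exact h.prime.one_lt.ne' (Nat.dvd_one.mp h4)

/-- `|Z| = 2 w` with `w` odd and prime to `q - 1`. -/
theorem card_Z_eq (h : UHyp t p a q Z T T' U s s' u) :
    ∃ w, Odd w ∧ Nat.card Z = 2 * w ∧ Nat.Coprime w (2 * (q - 1)) := by
  obtain ⟨z₀, hz0, hz⟩ := h.chyp.card_Z
  have h1 := one_lt_q h
  have h2 : Nat.card Z * z₀ = q + 1 := by
    have : (Nat.card Z * z₀ : ℤ) = q + 1 := by linear_combination hz
    exact_mod_cast this
  have hq := h.q_mod
  have h2Z : 2 ∣ Nat.card Z := by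
    have h3 : 2 ∣ Nat.card Z * z₀ := by rw [h2]; omega
    rcases (Nat.Prime.dvd_mul Nat.prime_two).mp h3 with h4 | h4
    · exact h4
    · exact absurd h4 hz0.not_two_dvd_nat
  obtain ⟨w, hw⟩ := h2Z
  have h5 : w * z₀ * 2 = q + 1 := by rw [← h2, hw]; ring
  have hwo : Odd w := by
    rcases Nat.even_or_odd w with h6 | h6
    · exfalso
      obtain ⟨c, hc⟩ := h6
      rw [hc] at h5
      have : (c * z₀) * 4 = q + 1 := by rw [← h5]; ring
      omega
    · exact h6
  refine ⟨w, hwo, hw, ?_⟩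
  have hd : w ∣ q + 1 := ⟨z₀ * 2, by rw [← h5]; ring⟩
  apply Nat.Coprime.mul_right (Nat.coprime_two_right.mpr hwo)
  have h7 : Nat.gcd w (q - 1) ∣ 2 := by
    have h8 := (Nat.dvd_sub ((Nat.gcd_dvd_left w (q - 1)).trans hd) (Nat.gcd_dvd_right w (q - 1)))
    have h9 : q + 1 - (q - 1) = 2 := by omega
    rwa [h9] at h8
  rcases (Nat.dvd_prime Nat.prime_two).mp h7 with h8 | h8
  · exact h8
  · exfalso
    have h9 := Nat.gcd_dvd_left w (q - 1)
    rw [h8] at h9
    exact hwo.not_two_dvd_nat h9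

theorem card_T'_eq (h : UHyp t p a q Z T T' U s s' u) :
    Nat.card T' = Nat.card Z * (q - 1) := by
  have h1 := one_lt_q h
  have h2 := h.chyp.card_T'
  have h3 : (Nat.card T' : ℤ) = ((Nat.card Z * (q - 1) : ℕ) : ℤ) := by
    rw [h2, Nat.cast_mul, Nat.cast_sub (by omega)]
    push_cast
    ring
  exact_mod_cast h3

theorem finite_C (h : UHyp t p a q Z T T' U s s' u) :
    Finite (Subgroup.centralizer ({t} : Set G)) := by
  apply Nat.finite_of_card_ne_zero
  rw [h.chyp.card_C]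
  obtain ⟨w, hw, hZ, -⟩ := card_Z_eq h
  have h1 := one_lt_q h
  have h2 : 0 < w := hw.pos
  have h3 : 0 < q ^ 2 - 1 := by
    have : 1 < q ^ 2 := Nat.one_lt_pow (by norm_num) h1
    omega
  rw [hZ]
  positivity

theorem exists_ne_one (h : UHyp t p a q Z T T' U s s' u) : ∃ v ∈ U, v ≠ 1 := by
  by_contra hc
  push Not at hc
  have h1 : U = ⊥ := by
    rw [eq_bot_iff]
    intro v hv
    exact Subgroup.mem_bot.mpr (hc v hv)
  have h2 := h.chyp.card_U
  rw [h1, Subgroup.card_bot] at h2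
  have := one_lt_q h
  omega

/-- `U ∩ Z = 1`. -/
theorem eq_one_of_mem_Z (h : UHyp t p a q Z T T' U s s' u) {v : Subgroup.centralizer ({t} : Set G)}
    (hv : v ∈ U) (hvZ : v ∈ Z) : v = 1 := by
  have := finite_C h
  have h1 : orderOf v ∣ q := by
    rw [← h.chyp.card_U]; exact Subgroup.orderOf_dvd_natCard U hv
  have h2 : orderOf v ∣ Nat.card Z := Subgroup.orderOf_dvd_natCard Z hvZ
  have h3 := Nat.dvd_gcd h1 h2
  rw [coprime_p h (not_dvd_Z h)] at h3
  exact orderOf_eq_one_iff.mp (Nat.dvd_one.mp h3)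

/-- `U ∩ T' = 1`. -/
theorem eq_one_of_mem_T' (h : UHyp t p a q Z T T' U s s' u) {v : Subgroup.centralizer ({t} : Set G)}
    (hv : v ∈ U) (hvT : v ∈ T') : v = 1 := by
  have := finite_C h
  have h1 : orderOf v ∣ q := by
    rw [← h.chyp.card_U]; exact Subgroup.orderOf_dvd_natCard U hv
  have h2 : orderOf v ∣ Nat.card T' := Subgroup.orderOf_dvd_natCard T' hvT
  have h3 := Nat.dvd_gcd h1 h2
  have h4 : ¬ p ∣ Nat.card T' := by
    rw [card_T'_eq h]
    intro hd
    rcases (Nat.Prime.dvd_mul h.prime).mp hd with h5 | h5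
    · exact not_dvd_Z h h5
    · exact not_dvd_sub h h5
  rw [coprime_p h h4] at h3
  exact orderOf_eq_one_iff.mp (Nat.dvd_one.mp h3)

theorem tt_mem_T' (h : UHyp t p a q Z T T' U s s' u) : tt t ∈ T' := h.chyp.Z_le_T' h.chyp.t_mem

theorem tt_mul_tt (h : UHyp t p a q Z T T' U s s' u) : tt t * tt t = 1 := by
  have := pow_orderOf_eq_one (tt t)
  rwa [h.chyp.orderOf_t, sq] at this

theorem t_mul_t (h : UHyp t p a q Z T T' U s s' u) : t * t = 1 := congrArg Subtype.val (tt_mul_tt h)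

theorem tt_ne_one (h : UHyp t p a q Z T T' U s s' u) : tt t ≠ 1 := by
  intro h1
  have h2 := h.chyp.orderOf_t
  rw [h1, orderOf_one] at h2
  omega

/-- `t` is the only involution of `T'`. -/
theorem eq_t_of_T' (h : UHyp t p a q Z T T' U s s' u) {x : Subgroup.centralizer ({t} : Set G)}
    (hx : x ∈ T') (hxx : x * x = 1) : x = 1 ∨ x = tt t := by
  classical
  have := finite_C h
  have hcyc := h.chyp.T'_cyclic
  by_contra hc
  push Not at hc
  let _ : Fintype T' := Fintype.ofFinite _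
  have hcard := IsCyclic.card_pow_eq_one_le (α := T') (n := 2) (by norm_num)
  have h3 : ({1, ⟨tt t, tt_mem_T' h⟩, ⟨x, hx⟩} : Finset T') ⊆
      Finset.univ.filter (fun y => y ^ 2 = 1) := by
    intro y hy
    simp only [Finset.mem_insert, Finset.mem_singleton] at hy
    rw [Finset.mem_filter]
    refine ⟨Finset.mem_univ _, ?_⟩
    rcases hy with rfl | rfl | rfl
    · exact one_pow 2
    · exact Subtype.ext (by rw [sq]; exact tt_mul_tt h)
    · exact Subtype.ext (by rw [sq]; exact hxx)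
  have h4 := Finset.card_le_card h3
  have h6 : ({1, ⟨tt t, tt_mem_T' h⟩, ⟨x, hx⟩} : Finset T').card = 3 := by
    refine Finset.card_eq_three.mpr ⟨1, ⟨tt t, tt_mem_T' h⟩, ⟨x, hx⟩, ?_, ?_, ?_, rfl⟩
    · intro h5
      exact tt_ne_one h (congrArg Subtype.val h5).symm
    · intro h5
      exact hc.1 (congrArg Subtype.val h5).symm
    · intro h5
      exact hc.2 (congrArg Subtype.val h5).symm
  omega

/-- Elements of `C` centralizing `U`. -/
theorem exists_of_comm (h : UHyp t p a q Z T T' U s s' u) {x : G}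
    (hx : x ∈ Subgroup.centralizer (up U : Set G)) (hxt : x * t = t * x) :
    ∃ z ∈ Z, ∃ v ∈ U, x = ((z * v : Subgroup.centralizer ({t} : Set G)) : G) := by
  obtain ⟨v0, hv0, hv01⟩ := exists_ne_one h
  have hxC : x ∈ Subgroup.centralizer ({t} : Set G) := by
    rw [Subgroup.mem_centralizer_singleton_iff]; exact hxt
  obtain ⟨z, hz, v, hv, e⟩ := h.chyp.cent_U v0 hv0 hv01 ⟨x, hxC⟩ (by
    apply Subtype.ext
    exact (Subgroup.mem_centralizer_iff.mp hx v0 ⟨v0, hv0, rfl⟩).symm)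
  exact ⟨z, hz, v, hv, congrArg Subtype.val e⟩

/-- 2-elements centralizing `U` and `t`. -/
theorem two_elt (h : UHyp t p a q Z T T' U s s' u) {x : G}
    (hx : x ∈ Subgroup.centralizer (up U : Set G)) (hxt : x * t = t * x) {n : ℕ}
    (hn : x ^ 2 ^ n = 1) : x = 1 ∨ x = t := by
  have := finite_C h
  obtain ⟨z, hz, v, hv, rfl⟩ := exists_of_comm h hx hxt
  have hcomm : Commute z v := (h.chyp.Z_central z hz v).symm
  have h1 : (z * v) ^ 2 ^ n = 1 := Subtype.ext hn
  rw [hcomm.mul_pow] at h1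
  have h2 : v ^ 2 ^ n = 1 := by
    apply eq_one_of_mem_Z h (Subgroup.pow_mem _ hv _)
    have : v ^ 2 ^ n = (z ^ 2 ^ n)⁻¹ := eq_inv_of_mul_eq_one_right h1
    rw [this]
    exact Subgroup.inv_mem _ (Subgroup.pow_mem _ hz _)
  have hv1 : v = 1 := by
    have h3 : orderOf v ∣ q := by
      rw [← h.chyp.card_U]; exact Subgroup.orderOf_dvd_natCard U hv
    have h4 : orderOf v ∣ 2 ^ n := orderOf_dvd_of_pow_eq_one h2
    have h5 := Nat.dvd_gcd h3 h4
    rw [Nat.Coprime.pow_right n (Nat.coprime_two_right.mpr h.chyp.odd_q)] at h5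
    exact orderOf_eq_one_iff.mp (Nat.dvd_one.mp h5)
  rw [h2, mul_one] at h1
  obtain ⟨w, hw, hZ, -⟩ := card_Z_eq h
  have hz2 : z * z = 1 := by
    have h3 : orderOf z ∣ 2 * w := by
      rw [← hZ]; exact Subgroup.orderOf_dvd_natCard Z hz
    have h4 : orderOf z ∣ 2 ^ n := orderOf_dvd_of_pow_eq_one h1
    have h5 : Nat.Coprime (orderOf z) w :=
      Nat.Coprime.coprime_dvd_left h4 (Nat.Coprime.pow_left _ (Nat.coprime_two_left.mpr hw))
    have h6 : orderOf z ∣ 2 := h5.dvd_of_dvd_mul_right h3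
    rw [← sq]
    exact orderOf_dvd_iff_pow_eq_one.mp h6
  rw [hv1, mul_one]
  rcases eq_t_of_T' h (h.chyp.Z_le_T' hz) hz2 with h3 | h3
  · left; rw [h3]; rfl
  · right; rw [h3]; rfl

theorem t_mem_Y (h : UHyp t p a q Z T T' U s s' u) : t ∈ Subgroup.centralizer (up U : Set G) := by
  rw [Subgroup.mem_centralizer_iff]
  rintro _ ⟨v, hv, rfl⟩
  exact (Subgroup.mem_centralizer_singleton_iff.mp v.2)

theorem U_le_Y (h : UHyp t p a q Z T T' U s s' u) :
    up U ≤ Subgroup.centralizer (up U : Set G) := by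
  rintro _ ⟨v, hv, rfl⟩
  rw [Subgroup.mem_centralizer_iff]
  rintro _ ⟨w, hw, rfl⟩
  exact congrArg Subtype.val (h.chyp.U_comm w hw v hv)

theorem Z_le_Y (h : UHyp t p a q Z T T' U s s' u) :
    up Z ≤ Subgroup.centralizer (up U : Set G) := by
  rintro _ ⟨z, hz, rfl⟩
  rw [Subgroup.mem_centralizer_iff]
  rintro _ ⟨w, hw, rfl⟩
  exact congrArg Subtype.val (h.chyp.Z_central z hz w)

end

section

variable {G : Type*} [Group G] [Finite G] {t : G} {p a q : ℕ}
  {Z T T' U : Subgroup (Subgroup.centralizer ({t} : Set G))}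
  {s s' u : Subgroup.centralizer ({t} : Set G)}

/-- The odd core of `C_G(U)`. -/
theorem exists_K (h : UHyp t p a q Z T T' U s s' u) :
    ∃ K : Subgroup G, K ≤ Subgroup.centralizer (up U : Set G) ∧
      (∀ g ∈ Subgroup.centralizer (up U : Set G), g ∈ K ↔ Odd (orderOf g)) ∧
      (∀ g ∈ Subgroup.centralizer (up U : Set G), g ∈ K ∨ g * t ∈ K) := by
  obtain ⟨Y, hY⟩ : ∃ Y : Subgroup G, Y = Subgroup.centralizer (up U : Set G) := ⟨_, rfl⟩
  have htY : t ∈ Y := by rw [hY]; exact t_mem_Y h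
  obtain ⟨ty, hty⟩ : ∃ ty : Y, ty = ⟨t, htY⟩ := ⟨_, rfl⟩
  have htt : ty ^ 2 = 1 := by
    rw [hty]
    exact Subtype.ext (by rw [sq]; exact t_mul_t h)
  have htp : IsPGroup 2 (Subgroup.zpowers ty) := by
    apply IsPGroup.of_card (n := (Nat.card (Subgroup.zpowers ty)).factorization 2)
    rw [Nat.card_zpowers]
    have h1 : orderOf ty ∣ 2 := orderOf_dvd_of_pow_eq_one htt
    rcases (Nat.dvd_prime Nat.prime_two).mp h1 with h2 | h2
    · rw [h2]; simp
    · rw [h2]; simp [Nat.Prime.factorization_self Nat.prime_two]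
  obtain ⟨S, hS⟩ := htp.exists_le_sylow
  have htS : ty ∈ (S : Subgroup Y) := hS (Subgroup.mem_zpowers ty)
  have key : ∀ x ∈ (S : Subgroup Y), x * ty = ty * x → x = 1 ∨ x = ty := by
    intro x hx hxt
    obtain ⟨n, hn⟩ := S.isPGroup' ⟨x, hx⟩
    have hn' : (x : G) ^ 2 ^ n = 1 := congrArg (fun y : S => ((y : Y) : G)) hn
    rw [hty] at hxt
    rcases two_elt h (x := (x : G)) (hY ▸ x.2) (congrArg Subtype.val hxt) hn' with h1 | h1
    · left; exact Subtype.ext h1
    · right; rw [hty]; exact Subtype.ext h1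
  have ht1 : ty ≠ 1 := by
    intro h1
    apply tt_ne_one h
    rw [hty] at h1
    exact Subtype.ext (show t = 1 from congrArg Subtype.val h1)
  -- `t` is central in `S`
  have hcen : ∀ x ∈ (S : Subgroup Y), x * ty = ty * x := by
    have hnt : Nontrivial S := by
      refine ⟨⟨1, ⟨ty, htS⟩, ?_⟩⟩
      intro h1
      exact ht1 (congrArg Subtype.val h1).symm
    have := S.isPGroup'.center_nontrivial
    obtain ⟨z, hz⟩ := exists_ne (1 : Subgroup.center S)
    have hzc := Subgroup.mem_center_iff.mp z.2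
    have hz1 : ((z : S) : Y) ≠ 1 := by
      intro h1
      apply hz
      exact Subtype.ext (Subtype.ext h1)
    have hzt : ((z : S) : Y) = ty := by
      rcases key ((z : S) : Y) (z : S).2 (congrArg Subtype.val (hzc ⟨ty, htS⟩)).symm with h1 | h1
      · exact absurd h1 hz1
      · exact h1
    intro x hx
    rw [← hzt]
    exact congrArg Subtype.val (hzc ⟨x, hx⟩)
  have hScyc : IsCyclic S := by
    refine ⟨⟨⟨ty, htS⟩, ?_⟩⟩
    rintro ⟨x, hx⟩
    rcases key x hx (hcen x hx) with rfl | rfl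
    · exact ⟨0, zpow_zero _⟩
    · exact ⟨1, zpow_one _⟩
  obtain ⟨K, hK, hKS⟩ := exists_odd_core S hScyc
  have hmem : ∀ g : G, ∀ hg : g ∈ Y, g ∈ K.map Y.subtype ↔ (⟨g, hg⟩ : Y) ∈ K := by
    intro g hg
    constructor
    · rintro ⟨y, hy, rfl⟩
      exact hy
    · intro hy
      exact ⟨_, hy, rfl⟩
  refine ⟨K.map Y.subtype, ?_, ?_, ?_⟩
  · rw [← hY]
    exact Subgroup.map_subtype_le K
  · rw [← hY]
    intro g hg
    rw [hmem g hg, hK, Subgroup.orderOf_mk]
  · rw [← hY]
    intro g hg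
    obtain ⟨k, hk, x, hx, e⟩ := hKS ⟨g, hg⟩
    rcases key x hx (hcen x hx) with h0 | h0
    · left
      rw [hmem g hg, e, h0, mul_one]
      exact hk
    · right
      rw [h0] at e
      have h1 : g * t ∈ Y := Y.mul_mem hg htY
      rw [hmem _ h1]
      have h2 : (⟨g * t, h1⟩ : Y) = k := by
        have h3 : (⟨g * t, h1⟩ : Y) = ⟨g, hg⟩ * ty := by rw [hty]; rfl
        rw [h3, e, mul_assoc, ← sq, htt, mul_one]
      rw [h2]
      exact hk

/-- The normalizer of `U` in `C_G(t)`. -/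
theorem exists_of_norm (h : UHyp t p a q Z T T' U s s' u)
    {c : Subgroup.centralizer ({t} : Set G)} (hc : ∀ v ∈ U, c * v * c⁻¹ ∈ U) :
    ∃ v ∈ U, ∃ τ ∈ T', c = v * τ := by
  classical
  obtain ⟨v0, hv0, hv01⟩ := exists_ne_one h
  let _ := Cfsg.Agent.Lib.PGroupCoprimeAction.conjAction T' U h.norm_U
  have hsm : ∀ (τ : T') (x : U), ((τ • x : U) : Subgroup.centralizer ({t} : Set G)) =
      τ * x * (τ : Subgroup.centralizer ({t} : Set G))⁻¹ := fun _ _ => rfl
  have hZT : Z ≤ T' := h.chyp.Z_le_T'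
  have hstab : MulAction.stabilizer T' (⟨v0, hv0⟩ : U) = Z.subgroupOf T' := by
    ext τ
    rw [MulAction.mem_stabilizer_iff, Subgroup.mem_subgroupOf, Subtype.ext_iff, hsm,
      mul_inv_eq_iff_eq_mul]
    constructor
    · intro h1
      obtain ⟨z, hz, v, hv, e⟩ := h.chyp.cent_U v0 hv0 hv01 τ h1
      have hvT : v ∈ T' := by
        have : v = z⁻¹ * τ := by rw [e]; group
        rw [this]
        exact T'.mul_mem (T'.inv_mem (hZT hz)) τ.2
      rw [e, eq_one_of_mem_T' h hv hvT, mul_one]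
      exact hz
    · intro h1
      exact (h.chyp.Z_central _ h1 v0).symm
  have hZpos : 0 < Nat.card Z := Nat.card_pos
  have hidx : (MulAction.orbit T' (⟨v0, hv0⟩ : U)).ncard = q - 1 := by
    rw [← MulAction.index_stabilizer, hstab]
    have h1 : Nat.card (Z.subgroupOf T') * (Z.subgroupOf T').index = Nat.card T' :=
      Subgroup.card_mul_index _
    rw [Nat.card_congr (Subgroup.subgroupOfEquivOfLe hZT).toEquiv, card_T'_eq h] at h1
    exact Nat.eq_of_mul_eq_mul_left hZpos h1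
  have hsub : MulAction.orbit T' (⟨v0, hv0⟩ : U) ⊆ {x : U | x ≠ 1} := by
    rintro _ ⟨τ, rfl⟩
    intro h1
    apply hv01
    have h2 : (⟨v0, hv0⟩ : U) = 1 := by
      have h3 : τ • (⟨v0, hv0⟩ : U) = 1 := h1
      rwa [smul_eq_iff_eq_inv_smul, smul_one] at h3
    exact congrArg Subtype.val h2
  have hcard : ({x : U | x ≠ 1}).ncard = q - 1 := by
    have h1 : ({x : U | x ≠ 1}) = ({1} : Set U)ᶜ := rfl
    rw [h1, Set.ncard_compl, Set.ncard_singleton, h.chyp.card_U]
  have horb : MulAction.orbit T' (⟨v0, hv0⟩ : U) = {x : U | x ≠ 1} :=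
    Set.eq_of_subset_of_ncard_le hsub (by rw [hidx, hcard])
  have hcv : (⟨c * v0 * c⁻¹, hc v0 hv0⟩ : U) ∈ ({x : U | x ≠ 1}) := by
    intro h1
    apply hv01
    have h2 : c * v0 * c⁻¹ = 1 := congrArg Subtype.val h1
    rwa [mul_inv_eq_iff_eq_mul, one_mul, mul_eq_left] at h2
  rw [← horb] at hcv
  obtain ⟨τ, hτ⟩ := hcv
  have hτ' : (τ : Subgroup.centralizer ({t} : Set G)) * v0 *
      (τ : Subgroup.centralizer ({t} : Set G))⁻¹ = c * v0 * c⁻¹ := congrArg Subtype.val hτ
  obtain ⟨z, hz, v, hv, e⟩ := h.chyp.cent_U v0 hv0 hv01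
    ((τ : Subgroup.centralizer ({t} : Set G))⁻¹ * c) (by
      rw [mul_assoc, inv_mul_eq_iff_eq_mul]
      have h1 : c * v0 = (τ : Subgroup.centralizer ({t} : Set G)) * v0 *
          (τ : Subgroup.centralizer ({t} : Set G))⁻¹ * c := by rw [hτ']; group
      rw [h1]; group)
  refine ⟨(τ * z) * v * (τ * z)⁻¹, h.norm_U _ (T'.mul_mem τ.2 (hZT hz)) v hv, τ * z,
    T'.mul_mem τ.2 (hZT hz), ?_⟩
  rw [inv_mul_eq_iff_eq_mul] at e
  rw [e]; group

/-- An involution `k t` with `k` of odd order inverted by `t`. -/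
theorem exists_conj_of_odd {K : Subgroup G} {t : G} (htt : t * t = 1) {k : G} (hk : k ∈ K)
    (hko : Odd (orderOf k)) (hkt : k * t * (k * t) = 1) :
    ∃ m ∈ K, m * t * m⁻¹ = k * t := by
  obtain ⟨n, hn⟩ := hko
  refine ⟨k ^ (n + 1), K.pow_mem hk _, ?_⟩
  have hinv : t * k * t = k⁻¹ := by
    rw [eq_inv_iff_mul_eq_one]
    have : t * k * t * k = k⁻¹ * (k * t * (k * t)) * k := by group
    rw [this, hkt]; group
  have htinv : t⁻¹ = t := inv_eq_of_mul_eq_one_left htt
  have hpow : t * k ^ (n + 1) * t = (k ^ (n + 1))⁻¹ := by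
    have h1 : t * k * t = t * k * t⁻¹ := by rw [htinv]
    have h2 : t * k ^ (n + 1) * t = (t * k * t⁻¹) ^ (n + 1) := by
      rw [conj_pow, htinv]
    rw [h2, ← h1, hinv, inv_pow]
  have h3 : t * (k ^ (n + 1))⁻¹ = k ^ (n + 1) * t := by
    rw [← hpow]
    calc t * (t * k ^ (n + 1) * t) = (t * t) * k ^ (n + 1) * t := by group
      _ = k ^ (n + 1) * t := by rw [htt, one_mul]
  rw [mul_assoc, h3, ← mul_assoc, ← pow_add]
  have h4 : n + 1 + (n + 1) = (2 * n + 1) + 1 := by ring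
  rw [h4, ← hn, pow_succ, pow_orderOf_eq_one, one_mul]

theorem conj_mem_Y (U : Subgroup (Subgroup.centralizer ({t} : Set G))) {g x : G}
    (hg : g ∈ Subgroup.normalizer (up U : Set G))
    (hx : x ∈ Subgroup.centralizer (up U : Set G)) :
    g * x * g⁻¹ ∈ Subgroup.centralizer (up U : Set G) := by
  rw [Subgroup.mem_centralizer_iff] at hx ⊢
  intro v hv
  have h1 : g⁻¹ * v * g ∈ (up U : Set G) := by
    have h2 := (Subgroup.mem_normalizer_iff.mp (Subgroup.inv_mem _ hg) v).mp hv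
    rwa [inv_inv] at h2
  have h3 := hx _ h1
  calc v * (g * x * g⁻¹) = g * ((g⁻¹ * v * g) * x) * g⁻¹ := by group
    _ = g * (x * (g⁻¹ * v * g)) * g⁻¹ := by rw [h3]
    _ = g * x * g⁻¹ * v := by group

/-- **(L2)** -/
theorem exists_core (h : UHyp t p a q Z T T' U s s' u) :
    ∃ K : Subgroup G, Odd (Nat.card K) ∧ up U ≤ K ∧ K ≤ Subgroup.centralizer (up U : Set G) ∧
      (∀ x ∈ K, x * t = t * x → ∃ z ∈ up Z, Odd (orderOf z) ∧ ∃ v ∈ up U, x = z * v) ∧
      (∀ z ∈ up Z, Odd (orderOf z) → z ∈ K) ∧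
      (∀ g ∈ Subgroup.normalizer (up U : Set G), ∀ x ∈ K, g * x * g⁻¹ ∈ K) ∧
      (∀ g ∈ Subgroup.centralizer (up U : Set G), g ∈ K ∨ g * t ∈ K) ∧
      (∀ g ∈ Subgroup.normalizer (up U : Set G), ∃ k ∈ K, ∃ τ ∈ up T', g = k * τ) := by
  obtain ⟨K, hKY, hK, hKt⟩ := exists_K h
  have hodd : Odd (Nat.card K) := by
    rw [← Nat.not_even_iff_odd, even_iff_two_dvd]
    intro h2
    obtain ⟨x, hx⟩ := exists_prime_orderOf_dvd_card' (G := K) 2 h2
    have h3 := (hK x (hKY x.2)).mp x.2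
    rw [Subgroup.orderOf_coe, hx] at h3
    exact absurd h3 (by decide)
  have hUo : ∀ v ∈ up U, Odd (orderOf v) := by
    rintro _ ⟨v, hv, rfl⟩
    have h1 : orderOf v ∣ q := by
      rw [← h.chyp.card_U]; exact Subgroup.orderOf_dvd_natCard U hv
    have h2 : orderOf ((Subgroup.centralizer ({t} : Set G)).subtype v) = orderOf v :=
      Subgroup.orderOf_coe v
    rw [h2]
    exact Odd.of_dvd_nat h.chyp.odd_q h1
  have hUK : up U ≤ K := fun v hv => (hK v (U_le_Y h hv)).mpr (hUo v hv)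
  have hnorm : ∀ g ∈ Subgroup.normalizer (up U : Set G), ∀ x ∈ K, g * x * g⁻¹ ∈ K := by
    intro g hg x hx
    have h1 := conj_mem_Y U hg (hKY hx)
    rw [hK _ h1]
    have h2 : orderOf (g * x * g⁻¹) = orderOf x := by
      have := orderOf_injective (MulAut.conj g).toMonoidHom (MulAut.conj g).injective x
      simpa using this
    rw [h2]
    exact (hK x (hKY hx)).mp hx
  refine ⟨K, hodd, hUK, hKY, ?_, ?_, hnorm, hKt, ?_⟩
  · intro x hx hxt
    obtain ⟨z, hz, v, hv, e⟩ := exists_of_comm h (hKY hx) hxt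
    refine ⟨z, ⟨z, hz, rfl⟩, ?_, v, ⟨v, hv, rfl⟩, by rw [e]; rfl⟩
    have hzK : (z : G) ∈ K := by
      have h1 : (z : G) = x * (v : G)⁻¹ := by rw [e, Subgroup.coe_mul]; group
      rw [h1]
      exact K.mul_mem hx (K.inv_mem (hUK ⟨v, hv, rfl⟩))
    exact (hK _ (hKY hzK)).mp hzK
  · intro z hz hzo
    exact (hK z (Z_le_Y h hz)).mpr hzo
  · intro g hg
    have htY := t_mem_Y h
    have htt := t_mul_t h
    have hgt := conj_mem_Y U hg htY
    have hgt2 : g * t * g⁻¹ * (g * t * g⁻¹) = 1 := by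
      have : g * t * g⁻¹ * (g * t * g⁻¹) = g * (t * t) * g⁻¹ := by group
      rw [this, htt]; group
    have hgt1 : g * t * g⁻¹ ≠ 1 := by
      intro h1
      apply tt_ne_one h
      rw [mul_inv_eq_iff_eq_mul, one_mul, mul_eq_left] at h1
      exact Subtype.ext h1
    -- `g t g⁻¹ = k t`
    have hk : g * t * g⁻¹ * t ∈ K := by
      rcases hKt _ hgt with h1 | h1
      · exfalso
        have h2 := (hK _ hgt).mp h1
        have h3 : orderOf (g * t * g⁻¹) ∣ 2 := orderOf_dvd_of_pow_eq_one (by rw [sq, hgt2])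
        rcases (Nat.dvd_prime Nat.prime_two).mp h3 with h4 | h4
        · exact hgt1 (orderOf_eq_one_iff.mp h4)
        · rw [h4] at h2
          exact absurd h2 (by decide)
      · exact h1
    have e1 : g * t * g⁻¹ * t * t = g * t * g⁻¹ := by rw [mul_assoc _ t t, htt, mul_one]
    obtain ⟨m, hm, e2⟩ := exists_conj_of_odd htt hk ((hK _ (hKY hk)).mp hk)
      (by rw [e1]; exact hgt2)
    rw [e1] at e2
    have hmN : m⁻¹ * g ∈ Subgroup.normalizer (up U : Set G) := by
      refine Subgroup.mul_mem _ (Subgroup.inv_mem _ ?_) hg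
      exact Subgroup.centralizer_le_normalizer _ (hKY hm)
    have hmt : m⁻¹ * g ∈ Subgroup.centralizer ({t} : Set G) := by
      rw [Subgroup.mem_centralizer_singleton_iff]
      calc m⁻¹ * g * t = m⁻¹ * (g * t * g⁻¹) * g := by group
        _ = m⁻¹ * (m * t * m⁻¹) * g := by rw [e2]
        _ = t * (m⁻¹ * g) := by group
    obtain ⟨v, hv, τ, hτ, e3⟩ := exists_of_norm h (c := ⟨m⁻¹ * g, hmt⟩) (by
      intro v hv
      have h1 := (Subgroup.mem_normalizer_iff.mp hmN (v : G)).mp ⟨v, hv, rfl⟩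
      obtain ⟨w, hw, e⟩ := h1
      have : (⟨m⁻¹ * g, hmt⟩ : Subgroup.centralizer ({t} : Set G)) * v *
          (⟨m⁻¹ * g, hmt⟩ : Subgroup.centralizer ({t} : Set G))⁻¹ = w := Subtype.ext e.symm
      rw [this]
      exact hw)
    have e4 : m⁻¹ * g = (v : G) * τ := congrArg Subtype.val e3
    refine ⟨m * v, K.mul_mem hm (hUK ⟨v, hv, rfl⟩), τ, ⟨τ, hτ, rfl⟩, ?_⟩
    rw [inv_mul_eq_iff_eq_mul] at e4
    rw [e4, mul_assoc]

/-- Elements of `up T'` of order dividing `2 (q - 1)` normalize every `t`-invariant Sylow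
`p`-subgroup of `K`. -/
theorem norm_sylow (h : UHyp t p a q Z T T' U s s' u) {K : Subgroup G} (hodd : Odd (Nat.card K))
    (hUK : up U ≤ K)
    (hKt : ∀ x ∈ K, x * t = t * x → ∃ z ∈ up Z, Odd (orderOf z) ∧ ∃ v ∈ up U, x = z * v)
    (hTK : ∀ τ ∈ up T', ∀ x ∈ K, τ * x * τ⁻¹ ∈ K) {P : Subgroup G}
    (hP : ∃ R : Sylow p K, (R : Subgroup K).map K.subtype = P) (hUP : up U ≤ P)
    (htP : ∀ x ∈ P, t * x * t⁻¹ ∈ P) {τ : G} (hτ : τ ∈ up T') (hτq : τ ^ (2 * (q - 1)) = 1) :
    ∀ x ∈ P, τ * x * τ⁻¹ ∈ P := by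
  have hp : Fact p.Prime := ⟨h.prime⟩
  have hTc : ∀ x ∈ up T', ∀ y ∈ up T', x * y = y * x := by
    rintro _ ⟨x, hx, rfl⟩ _ ⟨y, hy, rfl⟩
    have hcyc := h.chyp.T'_cyclic
    let _ : CommGroup T' := IsCyclic.commGroup
    have := mul_comm (⟨x, hx⟩ : T') ⟨y, hy⟩
    exact congrArg (fun z : T' => ((z : Subgroup.centralizer ({t} : Set G)) : G)) this
  have htT : t ∈ up T' := ⟨tt t, tt_mem_T' h, rfl⟩
  have htt := t_mul_t h
  -- the conjugate of `P`
  have hP' : ∃ R : Sylow p K, (R : Subgroup K).map K.subtype =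
      P.map (MulAut.conj τ).toMonoidHom := by
    obtain ⟨R, hR⟩ := hP
    let _ := Cfsg.Agent.Lib.PGroupCoprimeAction.conjAction (up T') K hTK
    refine ⟨(⟨τ, hτ⟩ : up T') • R, ?_⟩
    rw [Sylow.pointwise_smul_def, ← hR]
    ext x
    constructor
    · rintro ⟨_, ⟨y, hy, rfl⟩, rfl⟩
      exact ⟨y, ⟨y, hy, rfl⟩, rfl⟩
    · rintro ⟨_, ⟨y, hy, rfl⟩, rfl⟩
      exact ⟨_, ⟨y, hy, rfl⟩, rfl⟩
  have hA : IsPGroup 2 (Subgroup.zpowers t) := by
    apply IsPGroup.of_card (n := 1)
    rw [Nat.card_zpowers, pow_one]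
    have h1 : orderOf (tt t) = 2 := h.chyp.orderOf_t
    rw [← h1, ← Subgroup.orderOf_coe]
    rfl
  have h2K : ¬ 2 ∣ Nat.card K := hodd.not_two_dvd_nat
  have hz : ∀ b ∈ Subgroup.zpowers t, b = 1 ∨ b = t := by
    rintro _ ⟨n, rfl⟩
    rcases Int.even_or_odd n with ⟨m, hm⟩ | ⟨m, hm⟩
    · left
      change t ^ n = 1
      rw [hm, ← two_mul, zpow_mul, zpow_two, htt, one_zpow]
    · right
      change t ^ n = t
      rw [hm, zpow_add, zpow_mul, zpow_two, htt, one_zpow, zpow_one, one_mul]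
  have htK : ∀ b ∈ Subgroup.zpowers t, ∀ x ∈ K, b * x * b⁻¹ ∈ K := by
    intro b hb x hx
    rcases hz b hb with rfl | rfl
    · rwa [one_mul, inv_one, mul_one]
    · exact hTK _ htT x hx
  have hAP : ∀ b ∈ Subgroup.zpowers t, ∀ x ∈ P, b * x * b⁻¹ ∈ P := by
    intro b hb x hx
    rcases hz b hb with rfl | rfl
    · rwa [one_mul, inv_one, mul_one]
    · exact htP x hx
  have hAP' : ∀ b ∈ Subgroup.zpowers t, ∀ x ∈ P.map (MulAut.conj τ).toMonoidHom,
      b * x * b⁻¹ ∈ P.map (MulAut.conj τ).toMonoidHom := by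
    intro b hb
    rcases hz b hb with rfl | rfl
    · intro x hx
      rwa [one_mul, inv_one, mul_one]
    · rintro _ ⟨y, hy, rfl⟩
      refine ⟨b * y * b⁻¹, htP y hy, ?_⟩
      change τ * (b * y * b⁻¹) * τ⁻¹ = b * (τ * y * τ⁻¹) * b⁻¹
      have h1 := hTc b htT τ hτ
      calc τ * (b * y * b⁻¹) * τ⁻¹ = (τ * b) * y * (τ * b)⁻¹ := by group
        _ = (b * τ) * y * (b * τ)⁻¹ := by rw [h1]
        _ = _ := by group
  obtain ⟨c, hc, hcP⟩ := Cfsg.Agent.Lib.PGroupCoprimeAction.exists_centralizer_conj hA h2K htK hP hP'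
    hAP hAP'
  rw [Subgroup.mem_inf, Subgroup.mem_centralizer_iff] at hc
  obtain ⟨z, hz', hzo, v, hv, e⟩ := hKt c hc.1 (hc.2 t (Subgroup.mem_zpowers t)).symm
  have hzT : z ∈ up T' := by
    obtain ⟨y, hy, rfl⟩ := hz'
    exact ⟨y, h.chyp.Z_le_T' hy, rfl⟩
  -- normalizer of `P` as a subgroup
  have hNP : ∀ {g : G}, P.map (MulAut.conj g).toMonoidHom = P →
      g ∈ Subgroup.normalizer (P : Set G) := by
    intro g hg
    rw [Subgroup.mem_normalizer_iff]
    intro x
    constructor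
    · intro hx
      rw [← hg]
      exact ⟨x, hx, rfl⟩
    · intro hx
      have hx' : g * x * g⁻¹ ∈ P.map (MulAut.conj g).toMonoidHom := by rw [hg]; exact hx
      obtain ⟨y, hy, e⟩ := hx'
      have e' : g * y * g⁻¹ = g * x * g⁻¹ := e
      have : y = x := by
        have h1 := mul_right_cancel e'
        exact mul_left_cancel h1
      rw [← this]; exact hy
  have hvP : P.map (MulAut.conj v).toMonoidHom = P := by
    have hvP : v ∈ P := hUP hv
    ext x
    constructor
    · rintro ⟨y, hy, rfl⟩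
      exact P.mul_mem (P.mul_mem hvP hy) (P.inv_mem hvP)
    · intro hx
      refine ⟨v⁻¹ * x * v, P.mul_mem (P.mul_mem (P.inv_mem hvP) hx) hvP, ?_⟩
      change v * (v⁻¹ * x * v) * v⁻¹ = x
      group
  have hcomp : ∀ a b : G, P.map (MulAut.conj (a * b)).toMonoidHom =
      (P.map (MulAut.conj b).toMonoidHom).map (MulAut.conj a).toMonoidHom := by
    intro a b
    rw [Subgroup.map_map]
    congr 1
    ext x
    simp [mul_assoc]
  have hzP : P.map (MulAut.conj z).toMonoidHom = P.map (MulAut.conj τ).toMonoidHom := by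
    rw [← hcP, e, hcomp, hvP]
  have hn : z⁻¹ * τ ∈ Subgroup.normalizer (P : Set G) := by
    apply hNP
    rw [hcomp, ← hzP, ← hcomp, inv_mul_cancel]
    ext x
    simp
  -- `z` normalizes `P`
  obtain ⟨w, hw, hZw, hcop⟩ := card_Z_eq h
  have hzord : orderOf z ∣ w := by
    obtain ⟨y, hy, rfl⟩ := hz'
    have h1 : orderOf ((Subgroup.centralizer ({t} : Set G)).subtype y) = orderOf y :=
      Subgroup.orderOf_coe y
    have := finite_C h
    rw [h1] at hzo ⊢
    have h2 : orderOf y ∣ 2 * w := by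
      rw [← hZw]; exact Subgroup.orderOf_dvd_natCard Z hy
    exact (Nat.coprime_two_right.mpr hzo).dvd_of_dvd_mul_left h2
  have hzN : z ∈ Subgroup.normalizer (P : Set G) := by
    have hcz : Commute z (z⁻¹ * τ) := by
      have h1 := hTc z hzT τ hτ
      change z * (z⁻¹ * τ) = z⁻¹ * τ * z
      rw [mul_assoc, ← h1]; group
    have h2 : z * (z⁻¹ * τ) = τ := by group
    have h3 : z ^ (2 * (q - 1)) * (z⁻¹ * τ) ^ (2 * (q - 1)) = 1 := by
      rw [← hcz.mul_pow, h2, hτq]
    have h4 : z ^ (2 * (q - 1)) ∈ Subgroup.normalizer (P : Set G) := by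
      rw [eq_inv_of_mul_eq_one_left h3]
      exact Subgroup.inv_mem _ (Subgroup.pow_mem _ hn _)
    have h5 : Nat.Coprime (orderOf z) (2 * (q - 1)) := Nat.Coprime.coprime_dvd_left hzord hcop
    obtain ⟨m, hm⟩ := exists_pow_eq_self_of_coprime h5.symm
    rw [← hm]
    exact Subgroup.pow_mem _ h4 _
  have hτN : τ ∈ Subgroup.normalizer (P : Set G) := by
    have h2 : τ = z * (z⁻¹ * τ) := by group
    rw [h2]
    exact Subgroup.mul_mem _ hzN hn
  intro x hx
  exact (Subgroup.mem_normalizer_iff.mp hτN x).mp hx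

/-- A normal `p`-subgroup lies in every Sylow `p`-subgroup (ambient version, `U` central in `K`). -/
theorem le_sylow {K U : Subgroup G} [Fact p.Prime] (hUK : U ≤ K) (hU : IsPGroup p U)
    (hKU : ∀ x ∈ K, ∀ v ∈ U, x * v * x⁻¹ ∈ U) (R : Sylow p K) :
    U ≤ (R : Subgroup K).map K.subtype := by
  have hn : (U.subgroupOf K).Normal := by
    refine ⟨?_⟩
    rintro ⟨v, hvK⟩ hv ⟨x, hx⟩
    exact hKU x hx v hv
  have hU' : IsPGroup p (U.subgroupOf K) := hU.comap_subtype
  have h1 : IsPGroup p ((U.subgroupOf K) ⊔ (R : Subgroup K) : Subgroup K) := by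
    have := R.isPGroup'.to_sup_of_normal_right hU'
    rwa [sup_comm] at this
  have h2 := R.is_maximal' h1 le_sup_right
  intro v hv
  refine ⟨⟨v, hUK hv⟩, ?_, rfl⟩
  change (⟨v, hUK hv⟩ : K) ∈ (R : Subgroup K)
  rw [← h2]
  exact Subgroup.mem_sup_left (Subgroup.mem_subgroupOf.mpr hv)

theorem pow_mul_mem {K : Subgroup G} {k τ : G} (hk : k ∈ K) (hτ : ∀ x ∈ K, τ * x * τ⁻¹ ∈ K)
    (n : ℕ) : ∃ k' ∈ K, (k * τ) ^ n = k' * τ ^ n := by
  induction n with
  | zero => exact ⟨1, K.one_mem, by simp⟩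
  | succ n ih =>
    obtain ⟨k', hk', e⟩ := ih
    have hτn : ∀ n : ℕ, ∀ x ∈ K, τ ^ n * x * (τ ^ n)⁻¹ ∈ K := by
      intro n
      induction n with
      | zero => intro x hx; simpa using hx
      | succ n ih =>
        intro x hx
        have h1 := ih _ (hτ x hx)
        have h2 : τ ^ (n + 1) * x * (τ ^ (n + 1))⁻¹ = τ ^ n * (τ * x * τ⁻¹) * (τ ^ n)⁻¹ := by
          rw [pow_succ]; group
        rw [h2]; exact h1
    refine ⟨k' * (τ ^ n * k * (τ ^ n)⁻¹), K.mul_mem hk' (hτn n k hk), ?_⟩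
    rw [pow_succ, e, pow_succ]; group

/-- **(L2)**, second part. -/
theorem dichotomy (h : UHyp t p a q Z T T' U s s' u) :
    ¬ p ∣ (Subgroup.centralizer ({t} : Set G)).index ∨
      p ^ (a + 1) ∣ (Subgroup.centralizer ({t} : Set G)).index := by
  have hp : Fact p.Prime := ⟨h.prime⟩
  have hq1 := one_lt_q h
  have htt := t_mul_t h
  obtain ⟨K, hodd, hUK, hKY, hKt, hZK, hnorm, hYK, hN⟩ := exists_core h
  have htN : ∀ τ ∈ up T', τ ∈ Subgroup.normalizer (up U : Set G) := by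
    have key : ∀ τ ∈ up T', ∀ x ∈ up U, τ * x * τ⁻¹ ∈ up U := by
      rintro _ ⟨τ, hτ, rfl⟩ _ ⟨x, hx, rfl⟩
      exact ⟨_, h.norm_U τ hτ x hx, rfl⟩
    intro τ hτ
    rw [Subgroup.mem_normalizer_iff]
    intro x
    refine ⟨fun hx => key τ hτ x hx, fun hx => ?_⟩
    have h1 := key τ⁻¹ (Subgroup.inv_mem _ hτ) _ hx
    have h2 : τ⁻¹ * (τ * x * τ⁻¹) * τ⁻¹⁻¹ = x := by group
    rwa [h2] at h1
  have hTK : ∀ τ ∈ up T', ∀ x ∈ K, τ * x * τ⁻¹ ∈ K := fun τ hτ x hx => hnorm τ (htN τ hτ) x hx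
  have htT : t ∈ up T' := ⟨tt t, tt_mem_T' h, rfl⟩
  have hordt : orderOf t = 2 := by
    have h1 : orderOf (tt t) = 2 := h.chyp.orderOf_t
    rw [← h1, ← Subgroup.orderOf_coe]
    rfl
  have hA : IsPGroup 2 (Subgroup.zpowers t) := by
    apply IsPGroup.of_card (n := 1)
    rw [Nat.card_zpowers, pow_one, hordt]
  have hz : ∀ b ∈ Subgroup.zpowers t, b = 1 ∨ b = t := by
    rintro _ ⟨n, rfl⟩
    rcases Int.even_or_odd n with ⟨m, hm⟩ | ⟨m, hm⟩
    · left
      change t ^ n = 1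
      rw [hm, ← two_mul, zpow_mul, zpow_two, htt, one_zpow]
    · right
      change t ^ n = t
      rw [hm, zpow_add, zpow_mul, zpow_two, htt, one_zpow, zpow_one, one_mul]
  have h2K : ¬ 2 ∣ Nat.card K := hodd.not_two_dvd_nat
  have htK : ∀ b ∈ Subgroup.zpowers t, ∀ x ∈ K, b * x * b⁻¹ ∈ K := by
    intro b hb x hx
    rcases hz b hb with rfl | rfl
    · rwa [one_mul, inv_one, mul_one]
    · exact hTK _ htT x hx
  obtain ⟨P, ⟨R, hR⟩, htP⟩ := Cfsg.Agent.Lib.PGroupCoprimeAction.exists_invariant_sylow hA h2K htK p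
  have htP' := htP t (Subgroup.mem_zpowers t)
  -- orders
  have hcU : Nat.card (up U) = q := by
    rw [← h.chyp.card_U]
    exact (Nat.card_congr (U.equivMapOfInjective _ (Subgroup.subtype_injective _)).toEquiv).symm
  have hUp : IsPGroup p (up U) := IsPGroup.of_card (n := a) (by rw [hcU, h.q_eq])
  have hUP : up U ≤ P := by
    rw [← hR]
    refine le_sylow hUK hUp ?_ R
    intro x hx v hv
    exact (Subgroup.mem_normalizer_iff.mp (Subgroup.centralizer_le_normalizer _ (hKY hx)) v).mp hv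
  have hPK : P ≤ K := by rw [← hR]; exact Subgroup.map_subtype_le _
  have hPp : IsPGroup p P := by
    rw [← hR]
    exact R.isPGroup'.map _
  have hcP : Nat.card P = Nat.card R := by
    rw [← hR]
    exact (Nat.card_congr ((R : Subgroup K).equivMapOfInjective _
      (Subgroup.subtype_injective _)).toEquiv).symm
  obtain ⟨w, hw, hZw, hcop⟩ := card_Z_eq h
  -- the subgroup of order `2 (q - 1)` of `T'`
  have hcyc := h.chyp.T'_cyclic
  obtain ⟨g, hg⟩ := hcyc.exists_generator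
  have hfin := finite_C h
  have hog : orderOf ((g : Subgroup.centralizer ({t} : Set G)) : G) = 2 * w * (q - 1) := by
    rw [Subgroup.orderOf_coe, Subgroup.orderOf_coe, orderOf_eq_card_of_forall_mem_zpowers hg,
      card_T'_eq h, hZw]
  have hgT : ((g : Subgroup.centralizer ({t} : Set G)) : G) ∈ up T' := ⟨g, g.2, rfl⟩
  obtain ⟨g1, hg1⟩ : ∃ g1 : G, g1 = ((g : Subgroup.centralizer ({t} : Set G)) : G) ^ w := ⟨_, rfl⟩
  have hog1 : orderOf g1 = 2 * (q - 1) := by
    have hw0 : 0 < w := hw.pos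
    rw [hg1, orderOf_pow, hog, show 2 * w * (q - 1) = w * (2 * (q - 1)) by ring,
      Nat.gcd_eq_right (Dvd.intro _ rfl), Nat.mul_div_cancel_left _ hw0]
  have hE : ∀ τ ∈ Subgroup.zpowers g1, τ ∈ up T' ∧ τ ^ (2 * (q - 1)) = 1 := by
    intro τ hτ
    refine ⟨?_, ?_⟩
    · have : Subgroup.zpowers g1 ≤ up T' := by
        rw [Subgroup.zpowers_le, hg1]
        exact Subgroup.pow_mem _ hgT _
      exact this hτ
    · obtain ⟨n, rfl⟩ := hτ
      change (g1 ^ n) ^ (2 * (q - 1)) = 1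
      rw [← zpow_natCast, ← zpow_mul, mul_comm, zpow_mul, zpow_natCast, ← hog1,
        pow_orderOf_eq_one, one_zpow]
  have hfree : ∀ τ ∈ Subgroup.zpowers g1, τ ≠ 1 → ∀ x ∈ P, τ * x = x * τ → x ∈ up U := by
    intro τ hτ hτ1 x hx hcomm
    by_contra hxU
    have hx1 : x ≠ 1 := by
      rintro rfl
      exact hxU (Subgroup.one_mem _)
    obtain ⟨hτT, hτq⟩ := hE τ hτ
    obtain ⟨r, hr, hrd⟩ := Nat.exists_prime_and_dvd (n := orderOf τ)
      (fun h1 => hτ1 (orderOf_eq_one_iff.mp h1))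
    have hτpos : 0 < orderOf τ := orderOf_pos τ
    obtain ⟨y, hy⟩ : ∃ y : G, y = τ ^ (orderOf τ / r) := ⟨_, rfl⟩
    have hyo : orderOf y = r := by
      rw [hy, orderOf_pow_orderOf_div hτpos.ne' hrd]
    have hyT : y ∈ up T' := by rw [hy]; exact Subgroup.pow_mem _ hτT _
    have hyx : y * x = x * y := by
      rw [hy]
      exact ((show Commute τ x from hcomm).pow_left _).eq
    have hr2 : r ∣ 2 * (q - 1) := hrd.trans (orderOf_dvd_of_pow_eq_one hτq)
    obtain ⟨n, hn⟩ := hPp ⟨x, hx⟩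
    have hxn : x ^ p ^ n = 1 := congrArg Subtype.val hn
    by_cases hr22 : r = 2
    · -- `y = t`
      have hyt : y = t := by
        obtain ⟨y', hy', e⟩ := hyT
        have e' : (y' : G) = y := e
        have h1 : y' * y' = 1 := by
          apply Subtype.ext
          change (y' : G) * y' = 1
          rw [e', ← sq, ← hr22, ← hyo, pow_orderOf_eq_one]
        rcases eq_t_of_T' h hy' h1 with h2 | h2
        · exfalso
          rw [← e', h2, Subgroup.coe_one, orderOf_one] at hyo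
          rw [hr22] at hyo
          omega
        · rw [← e', h2]; rfl
      rw [hyt] at hyx
      obtain ⟨z, hz1, hzo, v, hv, e⟩ := hKt x (hPK hx) hyx.symm
      apply hxU
      have hzP : z ∈ P := by
        have : z = x * v⁻¹ := by rw [e]; group
        rw [this]
        exact P.mul_mem hx (P.inv_mem (hUP hv))
      have hz1' : z = 1 := by
        obtain ⟨z', hz', e2⟩ := hz1
        obtain ⟨n, hn⟩ := hPp ⟨z, hzP⟩
        have hzn : z ^ p ^ n = 1 := congrArg Subtype.val hn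
        have h3 : orderOf z ∣ p ^ n := orderOf_dvd_of_pow_eq_one hzn
        have h4 : orderOf z ∣ Nat.card Z := by
          have e3 : (z' : G) = z := e2
          rw [← e3, Subgroup.orderOf_coe]
          exact Subgroup.orderOf_dvd_natCard Z hz'
        have h5 := Nat.dvd_gcd h3 h4
        rw [Nat.Coprime.pow_left n ((Nat.Prime.coprime_iff_not_dvd h.prime).mpr (not_dvd_Z h))] at h5
        exact orderOf_eq_one_iff.mp (Nat.dvd_one.mp h5)
      rw [e, hz1', one_mul]
      exact hv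
    · have hrq : r ∣ q - 1 := by
        rcases (Nat.Prime.dvd_mul hr).mp hr2 with h3 | h3
        · exact absurd ((Nat.prime_dvd_prime_iff_eq hr Nat.prime_two).mp h3) hr22
        · exact h3
      apply Local1.not_dvd h hyT hr hr22 hrq hyo
      have h3 : orderOf x ∣ Nat.card (Subgroup.centralizer ({y} : Set G)) :=
        Subgroup.orderOf_dvd_natCard _ (by
          rw [Subgroup.mem_centralizer_singleton_iff]; exact hyx.symm)
      have h4 : orderOf x ∣ p ^ n := orderOf_dvd_of_pow_eq_one hxn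
      obtain ⟨m, -, hm⟩ := (Nat.dvd_prime_pow h.prime).mp h4
      have hm0 : m ≠ 0 := by
        rintro rfl
        rw [pow_zero] at hm
        exact hx1 (orderOf_eq_one_iff.mp hm)
      exact ((dvd_pow_self p hm0).trans (hm ▸ dvd_refl _)).trans h3
  have hdvd : 2 * (q - 1) ∣ Nat.card P - q := by
    have h1 := Cfsg.Agent.Lib.InvolutionKernel.card_dvd_sub_of_free (E := Subgroup.zpowers g1)
      (X := P) (V := up U) hUP
      (fun τ hτ => norm_sylow h hodd hUK hKt hTK ⟨R, hR⟩ hUP htP' (hE τ hτ).1 (hE τ hτ).2)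
      (fun τ hτ x hx => (Subgroup.mem_normalizer_iff.mp (htN τ (hE τ hτ).1) x).mp hx) hfree
    rwa [Nat.card_zpowers, hog1, hcU] at h1
  -- order of `G`
  have hG : Nat.card (Subgroup.centralizer ({t} : Set G)) *
      (Subgroup.centralizer ({t} : Set G)).index = Nat.card G := Subgroup.card_mul_index _
  have hCc := h.chyp.card_C
  obtain ⟨m, hm⟩ := hPp.exists_card_eq
  have ham : a ≤ m := by
    have h1 : Nat.card (up U) ∣ Nat.card P := Subgroup.card_dvd_of_le hUP
    rw [hcU, hm, h.q_eq] at h1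
    exact (Nat.pow_dvd_pow_iff_le_right h.prime.one_lt).mp h1
  rcases Nat.eq_or_lt_of_le ham with h1 | h1
  · -- `U` is a Sylow `p`-subgroup of `K`
    left
    intro hpi
    have hpG : p ^ (a + 1) ∣ Nat.card G := by
      rw [← hG, pow_succ]
      apply Nat.mul_dvd_mul _ hpi
      rw [hCc, ← h.q_eq]
      exact Dvd.dvd.mul_left (Dvd.intro _ rfl) _
    obtain ⟨V, hV, hUV⟩ := Sylow.exists_subgroup_card_pow_succ hpG (H := up U)
      (by rw [hcU, h.q_eq])
    have hVp : IsPGroup p V := IsPGroup.of_card hV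
    -- `V` normalizes `U`
    have hidx : ((up U).subgroupOf V).index = (Nat.card V).minFac := by
      have h2 : Nat.card ((up U).subgroupOf V) * ((up U).subgroupOf V).index = Nat.card V :=
        Subgroup.card_mul_index _
      rw [Nat.card_congr (Subgroup.subgroupOfEquivOfLe hUV).toEquiv, hcU, hV, h.q_eq,
        pow_succ] at h2
      have h3 := Nat.eq_of_mul_eq_mul_left (pow_pos h.prime.pos a) h2
      rw [h3, hV, Nat.Prime.pow_minFac h.prime (by omega)]
    have hnor := Subgroup.normal_of_index_eq_minFac_card hidx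
    have hVN : ∀ x ∈ V, x ∈ Subgroup.normalizer (up U : Set G) := by
      have key : ∀ x ∈ V, ∀ y ∈ up U, x * y * x⁻¹ ∈ up U := by
        intro x hx y hy
        have := hnor.conj_mem ⟨y, hUV hy⟩ (Subgroup.mem_subgroupOf.mpr hy) ⟨x, hx⟩
        exact Subgroup.mem_subgroupOf.mp this
      intro x hx
      rw [Subgroup.mem_normalizer_iff]
      intro y
      refine ⟨fun hy => key x hx y hy, fun hy => ?_⟩
      have h1 := key x⁻¹ (V.inv_mem hx) _ hy
      have h2 : x⁻¹ * (x * y * x⁻¹) * x⁻¹⁻¹ = y := by group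
      rwa [h2] at h1
    have hVK : V ≤ K := by
      intro x hx
      obtain ⟨k, hk, τ, hτ, e⟩ := hN x (hVN x hx)
      obtain ⟨n, hn⟩ := hVp ⟨x, hx⟩
      have hxn : x ^ p ^ n = 1 := congrArg Subtype.val hn
      obtain ⟨k', hk', e2⟩ := pow_mul_mem hk (hTK τ hτ) (p ^ n)
      rw [← e, hxn] at e2
      have h3 : τ ^ p ^ n ∈ K := by
        rw [← inv_eq_iff_mul_eq_one.mpr e2.symm]
        exact K.inv_mem hk'
      have h4 : Nat.Coprime (orderOf τ) (p ^ n) := by
        obtain ⟨τ', hτ', e3⟩ := hτ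
        have e4 : (τ' : G) = τ := e3
        rw [← e4, Subgroup.orderOf_coe]
        have h5 : orderOf τ' ∣ Nat.card T' := Subgroup.orderOf_dvd_natCard T' hτ'
        apply Nat.Coprime.pow_right
        apply Nat.Coprime.symm
        rw [Nat.Prime.coprime_iff_not_dvd h.prime]
        intro h6
        have h7 := h6.trans h5
        rw [card_T'_eq h] at h7
        rcases (Nat.Prime.dvd_mul h.prime).mp h7 with h8 | h8
        · exact not_dvd_Z h h8
        · exact not_dvd_sub h h8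
      obtain ⟨j, hj⟩ := exists_pow_eq_self_of_coprime h4.symm
      have h5 : τ ∈ K := by
        rw [← hj]
        exact K.pow_mem h3 _
      rw [e]
      exact K.mul_mem hk h5
    have h2 : p ^ (a + 1) ∣ Nat.card K := by
      rw [← hV]
      exact Subgroup.card_dvd_of_le hVK
    have h3 : p ^ (a + 1) ∣ Nat.card R := by
      rw [R.card_eq_multiplicity]
      exact (Nat.Prime.pow_dvd_iff_dvd_ordProj h.prime Nat.card_pos.ne').mp h2
    rw [← hcP, hm, ← h1] at h3
    have h4 := (Nat.pow_dvd_pow_iff_le_right h.prime.one_lt).mp h3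
    omega
  · right
    have h2 : 2 * (q - 1) ∣ p ^ (m - a) - 1 := by
      have h3 : Nat.card P - q = q * (p ^ (m - a) - 1) := by
        rw [hm, Nat.mul_sub, mul_one, h.q_eq, ← pow_add]
        congr 2
        omega
      rw [h3] at hdvd
      refine Nat.Coprime.dvd_of_dvd_mul_left ?_ hdvd
      apply Nat.Coprime.symm
      apply coprime_p h
      intro h4
      rcases (Nat.Prime.dvd_mul h.prime).mp h4 with h5 | h5
      · have h6 := (Nat.prime_dvd_prime_iff_eq h.prime Nat.prime_two).mp h5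
        have h7 := p_dvd_q h
        rw [h6] at h7
        have h8 := h.q_mod
        omega
      · exact not_dvd_sub h h5
    have h3 : q < p ^ (m - a) := by
      have h4 : 1 < p ^ (m - a) := Nat.one_lt_pow (by omega) h.prime.one_lt
      have h5 := Nat.le_of_dvd (by omega) h2
      omega
    have h4 : a < m - a := by
      rw [h.q_eq] at h3
      exact (Nat.pow_lt_pow_iff_right h.prime.one_lt).mp h3
    have h5 : p ^ a * p ^ (a + 1) ∣ Nat.card G := by
      rw [← pow_add]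
      have h6 : p ^ (a + (a + 1)) ∣ p ^ m := Nat.pow_dvd_pow p (by omega)
      have h7 : Nat.card P ∣ Nat.card G := Subgroup.card_subgroup_dvd_card P
      rw [hm] at h7
      exact h6.trans h7
    rw [← hG, hCc, ← h.q_eq] at h5
    have h6 : q * p ^ (a + 1) ∣ q * ((Nat.card Z * (q ^ 2 - 1)) *
        (Subgroup.centralizer ({t} : Set G)).index) := by
      convert h5 using 1
      ring
    have h7 := Nat.dvd_of_mul_dvd_mul_left (by omega) h6
    refine Nat.Coprime.dvd_of_dvd_mul_left ?_ h7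
    apply Nat.Coprime.pow_left
    rw [Nat.Prime.coprime_iff_not_dvd h.prime]
    intro h8
    rcases (Nat.Prime.dvd_mul h.prime).mp h8 with h9 | h9
    · exact not_dvd_Z h h9
    · have h10 : q ^ 2 - 1 = (q - 1) * (q + 1) := by
        rw [mul_comm, ← Nat.sq_sub_sq, one_pow]
      rw [h10] at h9
      rcases (Nat.Prime.dvd_mul h.prime).mp h9 with h11 | h11
      · exact not_dvd_sub h h11
      · exact not_dvd_add h h11

end

end Cfsg.Agent.Classification.InvCentU.Local2
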