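import Mathlib

/-!
# Number theory for S0485 (quasi-dihedral unitary case), see `InvCentU/Defs.lean`, piece (N)
-/

set_option autoImplicit false

namespace Cfsg.Agent.Classification.InvCentU.NumB

/-- If `|G|_p = q` or `p ^ (a + 1)` divides the index, then `k = 1` or `p` does not divide `k (k - 1)`. -/
theorem of_dichotomy {p a : ℕ} {q k : ℤ} (hp : p.Prime) (ha : 1 ≤ a) (hq : q = (p : ℤ) ^ a)
    (hq4 : q % 4 = 1) (hk : Odd k) (h1 : k ∣ q * (q ^ 2 - 1)) (h2 : q - 1 + k ∣ q * (q - 1) ^ 2)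
    (hn : 0 < (q ^ 2 - 1 + k) * (q ^ 2 - q + k))
    (h : ¬ (p : ℤ) ∣ (q ^ 2 - 1 + k) * (q ^ 2 - q + k) ∨
      (p : ℤ) ^ (a + 1) ∣ (q ^ 2 - 1 + k) * (q ^ 2 - q + k)) : k = 1 ∨ ¬ (p : ℤ) ∣ k * (k - 1) := by
  have hpZ : Prime (p : ℤ) := Nat.prime_iff_prime_int.1 hp
  have hpq : (p : ℤ) ∣ q := by rw [hq]; exact dvd_pow_self _ (by omega)
  have hp2 : p ≠ 2 := by
    rintro rfl
    obtain ⟨c, hc⟩ := hpq
    push_cast at hc
    omega
  have hp3 : (3 : ℤ) ≤ (p : ℤ) := by
    have := hp.two_le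
    exact_mod_cast (by omega : 3 ≤ p)
  have hq3 : (3 : ℤ) ≤ q := by
    rw [hq]
    calc (3 : ℤ) ≤ (p : ℤ) ^ 1 := by simpa using hp3
      _ ≤ (p : ℤ) ^ a := pow_le_pow_right₀ (by exact_mod_cast hp.one_le) ha
  have hnot1 : ¬ (p : ℤ) ∣ 1 := fun h => hpZ.not_isUnit (isUnit_of_dvd_one h)
  by_contra hcon
  rw [not_or, not_not] at hcon
  obtain ⟨hk1, hpk⟩ := hcon
  -- the first alternative is impossible
  have hpn : (p : ℤ) ∣ (q ^ 2 - 1 + k) * (q ^ 2 - q + k) := by
    obtain ⟨c, hc⟩ := hpq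
    have e : (q ^ 2 - 1 + k) * (q ^ 2 - q + k) =
        k * (k - 1) + p * (c * (q * (q ^ 2 - q + k) + (q - 1) * (k - 1))) := by
      rw [show (p : ℤ) * (c * (q * (q ^ 2 - q + k) + (q - 1) * (k - 1))) =
        (p * c) * (q * (q ^ 2 - q + k) + (q - 1) * (k - 1)) by ring, ← hc]
      ring
    rw [e]
    exact dvd_add hpk (Dvd.intro _ rfl)
  have h' : (p : ℤ) ^ (a + 1) ∣ (q ^ 2 - 1 + k) * (q ^ 2 - q + k) := h.resolve_left (not_not.2 hpn)
  have hq2 : (p : ℤ) ^ (a + 1) ∣ q ^ 2 := by
    rw [hq, ← pow_mul]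
    exact pow_dvd_pow _ (by omega)
  have hpa1 : (p : ℤ) ^ (a + 1) = p * q := by rw [hq, pow_succ]; ring
  rcases hpZ.dvd_or_dvd hpk with hpk | hpk
  · -- `p ∣ k`
    have hA : ¬ (p : ℤ) ∣ q ^ 2 - 1 + k := by
      intro hh
      apply hnot1
      have : (p : ℤ) ∣ q ^ 2 + k - (q ^ 2 - 1 + k) := dvd_sub (dvd_add (dvd_pow hpq (by norm_num)) hpk) hh
      have e : q ^ 2 + k - (q ^ 2 - 1 + k) = 1 := by ring
      rwa [e] at this
    have hcop : IsCoprime ((p : ℤ) ^ (a + 1)) (q ^ 2 - 1 + k) := ((hpZ.coprime_iff_not_dvd).2 hA).pow_left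
    have hB : (p : ℤ) ^ (a + 1) ∣ q ^ 2 - q + k := hcop.dvd_of_dvd_mul_left h'
    have hkq : (p : ℤ) ^ (a + 1) ∣ k - q := by
      have := dvd_sub hB hq2
      have e : q ^ 2 - q + k - q ^ 2 = k - q := by ring
      rwa [e] at this
    rw [hpa1] at hkq
    obtain ⟨d, hd⟩ := hkq
    -- `k = q (1 + p d)`
    have hkk : k = q * (1 + p * d) := by linear_combination hd
    set c := 2 + p * d with hc
    have hkc : k = q * (c - 1) := by rw [hkk, hc]; ring
    have hm : IsCoprime (q - 1 + k) q := by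
      rw [hkc]
      exact ⟨-1, c, by ring⟩
    have hm2 : q - 1 + k ∣ (q - 1) ^ 2 := hm.dvd_of_dvd_mul_left h2
    obtain ⟨l, hl⟩ := hm2
    have hl' : (q - 1) ^ 2 = (q * c - 1) * l := by rw [hl, hkc]; ring
    obtain ⟨i, hi⟩ : q ∣ l + 1 := ⟨c * l - q + 2, by linear_combination hl'⟩
    have hli : l = q * i - 1 := by linear_combination hi
    have heq : q * (q * (c * i) - c - i) = q * (q - 2) := by
      rw [hli] at hl'
      linear_combination (-1 : ℤ) * hl'
    have heq2 : q * (c * i) - c - i = q - 2 := mul_left_cancel₀ (by omega) heq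
    have hqodd : Odd q := by rw [Int.odd_iff]; omega
    have hcodd : Even c := by
      have : Odd (c - 1) := by
        by_contra hne
        rw [Int.not_odd_iff_even] at hne
        have : Even k := by rw [hkc]; exact hne.mul_left q
        exact (Int.not_odd_iff_even.2 this) hk
      have := this.add_odd (odd_one)
      simpa using this
    have hcp : (p : ℤ) ∣ c - 2 := ⟨d, by rw [hc]; ring⟩
    have hi0 : i ≠ 0 := by
      rintro rfl
      have : c = 2 - q := by linear_combination (-1 : ℤ) * heq2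
      rw [this] at hcodd
      have h2q : Even q := by
        have := (even_two (α := ℤ)).sub hcodd
        simpa using this
      exact (Int.not_odd_iff_even.2 h2q) hqodd
    have hc0 : c ≠ 0 := by
      intro h0
      rw [h0] at hcp
      have h22 : (p : ℤ) ∣ 2 := by
        have := (dvd_neg (a := (p : ℤ)) (b := (2 : ℤ))).1 (by simpa using hcp)
        exact this
      have := Int.le_of_dvd (by norm_num) h22
      omega
    have hc1 : c ≠ 1 := by
      intro h0
      rw [h0] at hcodd
      exact absurd hcodd (by decide)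
    rcases lt_or_gt_of_ne hc0 with hcn | hcp'
    · rcases lt_or_gt_of_ne hi0 with hin | hip
      · have h1 : 1 ≤ c * i := by nlinarith
        have h2 : q * 1 ≤ q * (c * i) := mul_le_mul_of_nonneg_left h1 (by omega)
        omega
      · have h1 : c * i ≤ c := by nlinarith
        have h2 : q * (c * i) ≤ q * c := mul_le_mul_of_nonneg_left h1 (by omega)
        have h3 : q * c ≤ 3 * c := by nlinarith
        omega
    · have hc2 : 2 ≤ c := by omega
      rcases lt_or_gt_of_ne hi0 with hin | hip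
      · have h1 : c * i ≤ 2 * i := by nlinarith
        have h2 : q * (c * i) ≤ q * (2 * i) := mul_le_mul_of_nonneg_left h1 (by omega)
        have h3 : q * (2 * i) ≤ 3 * (2 * i) := by nlinarith
        omega
      · have h1 : c + i ≤ c * i + 1 := by nlinarith
        have h0 : 2 ≤ c * i := by nlinarith
        have h2 : q * (c * i) ≥ (q - 1) * 2 + c * i := by nlinarith
        omega
  · -- `p ∣ k - 1`
    have hA : ¬ (p : ℤ) ∣ q ^ 2 - q + k := by
      intro hh
      apply hnot1
      have : (p : ℤ) ∣ (q ^ 2 - q + k) - (q ^ 2 - q) - (k - 1) :=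
        dvd_sub (dvd_sub hh (dvd_sub (dvd_pow hpq (by norm_num)) hpq)) hpk
      have e : (q ^ 2 - q + k) - (q ^ 2 - q) - (k - 1) = 1 := by ring
      rwa [e] at this
    have hpk' : ¬ (p : ℤ) ∣ k := by
      intro hh
      apply hnot1
      have := dvd_sub hh hpk
      have e : k - (k - 1) = 1 := by ring
      rwa [e] at this
    have hcop : IsCoprime ((p : ℤ) ^ (a + 1)) (q ^ 2 - q + k) := ((hpZ.coprime_iff_not_dvd).2 hA).pow_left
    have hB : (p : ℤ) ^ (a + 1) ∣ q ^ 2 - 1 + k := hcop.dvd_of_dvd_mul_right h'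
    have hkq : (p : ℤ) ^ (a + 1) ∣ k - 1 := by
      have := dvd_sub hB hq2
      have e : q ^ 2 - 1 + k - q ^ 2 = k - 1 := by ring
      rwa [e] at this
    rw [hpa1] at hkq
    obtain ⟨j, hj⟩ := hkq
    have hkj : k = 1 + p * q * j := by linear_combination hj
    have hkq' : IsCoprime k q := ⟨1, -(p * j), by rw [hkj]; ring⟩
    obtain ⟨l, hl⟩ : k ∣ q ^ 2 - 1 := hkq'.dvd_of_dvd_mul_left h1
    obtain ⟨i, hi⟩ : q ∣ l + 1 := ⟨q - p * j * l, by rw [hkj] at hl; linear_combination (-1 : ℤ) * hl⟩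
    have hli : l = q * i - 1 := by linear_combination hi
    have heq : q * (i * k) = q * (q + p * j) := by
      rw [hli] at hl
      have : q ^ 2 - 1 = q * (i * k) - k := by linear_combination hl
      linear_combination (-1 : ℤ) * this + hkj
    have heq2 : i * k = q + p * j := mul_left_cancel₀ (by omega) heq
    have hj0 : j ≠ 0 := by
      rintro rfl
      apply hk1
      rw [hkj]; ring
    set P : ℤ := p * j with hP
    have hkP : k = 1 + q * P := by rw [hkj, hP]; ring
    rcases lt_or_gt_of_ne hj0 with hjn | hjp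
    · have hPn : P ≤ -3 := by
        have : j ≤ -1 := by omega
        rw [hP]; nlinarith
      have hne : q + P ≠ 0 := by
        intro h0
        have : q ^ 2 - 1 + k = 0 := by rw [hkP]; linear_combination q * h0
        rw [this, zero_mul] at hn
        exact lt_irrefl _ hn
      have hkn : k < 0 := by rw [hkP]; nlinarith
      have hi0 : i ≠ 0 := by
        rintro rfl
        apply hne
        rw [← heq2]; ring
      have hqP : q * P ≤ 3 * P := by nlinarith
      rcases lt_or_gt_of_ne hi0 with hin | hip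
      · -- `i ≤ -1`: `q + P = i k ≥ -k`
        have h1 : 0 ≤ (i + 1) * k := mul_nonneg_of_nonpos_of_nonpos (by omega) hkn.le
        have h2 : (i + 1) * k = q + P + k := by rw [← heq2]; ring
        rw [h2, hkP] at h1
        have h3 : (q + 1) * (P + 1) ≤ (q + 1) * (-2) :=
          mul_le_mul_of_nonneg_left (by omega) (by omega)
        have h4 : (q + 1) * (P + 1) = q * P + q + P + 1 := by ring
        omega
      · have h1 : (i - 1) * k ≤ 0 := mul_nonpos_of_nonneg_of_nonpos (by omega) hkn.le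
        have h2 : (i - 1) * k = q + P - k := by rw [← heq2]; ring
        rw [h2, hkP] at h1
        omega
    · have hPp : 3 ≤ P := by
        have : 1 ≤ j := by omega
        rw [hP]; nlinarith
      have hqP : q * 3 ≤ q * P := mul_le_mul_of_nonneg_left hPp (by omega)
      have hqP' : 3 * P ≤ q * P := mul_le_mul_of_nonneg_right hq3 (by omega)
      have hkp : 0 < k := by rw [hkP]; omega
      have hip : 0 < i := by
        by_contra hcon
        have : i * k ≤ 0 := mul_nonpos_of_nonpos_of_nonneg (by omega) hkp.le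
        rw [heq2] at this
        omega
      have h1 : 0 ≤ (i - 1) * k := mul_nonneg (by omega) hkp.le
      have h2 : (i - 1) * k = q + P - k := by rw [← heq2]; ring
      rw [h2, hkP] at h1
      omega

/-- The two inequalities coming from the irreducible characters of `C`. -/
theorem of_tests {p a : ℕ} {q k : ℤ} (hp : p.Prime) (ha : 1 ≤ a) (hq : q = (p : ℤ) ^ a)
    (hq4 : q % 4 = 1) (hk : Odd k) (h1 : k ∣ q * (q ^ 2 - 1)) (h2 : q - 1 + k ∣ q * (q - 1) ^ 2)
    (_hn : 0 < (q ^ 2 - 1 + k) * (q ^ 2 - q + k))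
    (hpk : ¬ (p : ℤ) ∣ k * (k - 1))
    (hA : 0 < q - 1 + k → 2 * (q - 1 + k) ≤ q - 1) (hB : k < 0 → -2 * k ≤ q + 1) :
    q = 5 ∧ k = -3 := by
  have hpZ : Prime (p : ℤ) := Nat.prime_iff_prime_int.1 hp
  have hpq : (p : ℤ) ∣ q := by rw [hq]; exact dvd_pow_self _ (by omega)
  have hq5 : 5 ≤ q := by
    have hq1 : (1 : ℤ) < q := by
      rw [hq]
      exact one_lt_pow₀ (by exact_mod_cast hp.one_lt) (by omega)
    omega
  have hmp : ¬ (p : ℤ) ∣ q - 1 + k := by
    intro hh
    apply hpk
    have : (p : ℤ) ∣ k - 1 := by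
      have := dvd_sub hh hpq
      have e : q - 1 + k - q = k - 1 := by ring
      rwa [e] at this
    exact Dvd.dvd.mul_left this k
  have hcop : IsCoprime (q - 1 + k) q := by
    rw [hq]
    rw [hq] at hmp
    exact (((hpZ.coprime_iff_not_dvd).2 hmp).pow_left (m := a)).symm
  have hm2 : q - 1 + k ∣ (q - 1) ^ 2 := hcop.dvd_of_dvd_mul_left h2
  have hk0 : k ≠ 0 := by
    rintro rfl
    exact absurd hk (by decide)
  have hkneg : k < 0 := by
    by_contra hcon
    have hkpos : 0 < k := lt_of_le_of_ne (not_lt.1 hcon) (Ne.symm hk0)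
    have := hA (by omega)
    omega
  have hB' := hB hkneg
  have hmpos : 0 < q - 1 + k := by omega
  have hA' := hA hmpos
  obtain ⟨x, hx⟩ := hk
  have hkval : 2 * k = -(q + 1) := by omega
  have hm3 : 2 * (q - 1 + k) = q - 3 := by linarith
  set m := q - 1 + k with hm
  have hqm : q = 2 * m + 3 := by linarith
  have h4 : m ∣ 4 := by
    have e : (q - 1) ^ 2 = m * (4 * m + 8) + 4 := by rw [hqm]; ring
    rw [e] at hm2
    exact (dvd_add_right (Dvd.intro _ rfl)).1 hm2
  have hm4 := Int.le_of_dvd (by norm_num) h4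
  have hm1 : 1 ≤ m := hmpos
  have : m = 1 ∨ m = 2 ∨ m = 3 ∨ m = 4 := by omega
  have h3 : m ≠ 3 := by
    intro h
    rw [h] at h4
    exact absurd h4 (by decide)
  have hq' : q = 5 := by omega
  exact ⟨hq', by omega⟩

end Cfsg.Agent.Classification.InvCentU.NumB
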