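import Mathlib

/-!
# Orthogonality for the linear characters of a finite abelian group trivial on a subgroup
-/

set_option autoImplicit false
set_option linter.unusedSectionVars false

namespace Cfsg.Agent.Classification.InvCentU.Orth

variable {A : Type*} [CommGroup A] [Finite A]

instance finite_hom : Finite (A →* ℂˣ) := by
  have h : Nat.card (A →* ℂˣ) = Nat.card A :=
    CommGroup.card_monoidHom_of_hasEnoughRootsOfUnity A ℂ
  refine Nat.finite_of_card_ne_zero ?_
  rw [h]
  exact Nat.card_pos.ne'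

/-- There is a linear character trivial on `W` and nontrivial at `x ∉ W`. -/
theorem exists_hom (W : Subgroup A) {x : A} (hx : x ∉ W) :
    ∃ l : A →* ℂˣ, (∀ w ∈ W, l w = 1) ∧ l x ≠ 1 := by
  have h1 : (QuotientGroup.mk x : A ⧸ W) ≠ 1 := by
    rwa [Ne, QuotientGroup.eq_one_iff]
  obtain ⟨φ, hφ⟩ := CommGroup.exists_apply_ne_one_of_hasEnoughRootsOfUnity (A ⧸ W) ℂ h1
  refine ⟨φ.comp (QuotientGroup.mk' W), fun w hw => ?_, hφ⟩
  rw [MonoidHom.comp_apply, QuotientGroup.mk'_apply, (QuotientGroup.eq_one_iff w).2 hw, map_one]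

/-- The sum of a nontrivial linear character vanishes. -/
theorem sum_hom_eq_zero [Fintype A] {l : A →* ℂˣ} {x : A} (hx : l x ≠ 1) :
    ∑ y : A, (l y : ℂ) = 0 := by
  have h1 : (l x : ℂ) * ∑ v : A, (l v : ℂ) = ∑ v : A, (l v : ℂ) := by
    rw [Finset.mul_sum, ← Equiv.sum_comp (Equiv.mulLeft x) (fun v => (l v : ℂ))]
    refine Finset.sum_congr rfl fun v _ => ?_
    rw [Equiv.coe_mulLeft, map_mul, Units.val_mul]
  have h2 : ((l x : ℂ) - 1) * ∑ v : A, (l v : ℂ) = 0 := by rw [sub_mul, h1, one_mul, sub_self]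
  refine (mul_eq_zero.1 h2).resolve_left fun h3 => hx ?_
  exact Units.ext (by rw [Units.val_one]; exact sub_eq_zero.1 h3)

open Classical in
/-- The linear characters of `A` trivial on `W`. -/
noncomputable def D (W : Subgroup A) : Finset (A →* ℂˣ) :=
  letI := Fintype.ofFinite (A →* ℂˣ)
  Finset.univ.filter fun l => ∀ w ∈ W, l w = 1

theorem mem_D {W : Subgroup A} {l : A →* ℂˣ} : l ∈ D W ↔ ∀ w ∈ W, l w = 1 := by
  classical
  unfold D
  simp

theorem sum_D_of_notMem (W : Subgroup A) {x : A} (hx : x ∉ W) : ∑ l ∈ D W, (l x : ℂ) = 0 := by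
  classical
  obtain ⟨l₀, h0, h1⟩ := exists_hom W hx
  have h2 : (l₀ x : ℂ) * ∑ l ∈ D W, (l x : ℂ) = ∑ l ∈ D W, (l x : ℂ) := by
    rw [Finset.mul_sum]
    refine Finset.sum_bij (fun l _ => l₀ * l) ?_ ?_ ?_ ?_
    · intro l hl
      rw [mem_D] at hl ⊢
      intro w hw
      rw [MonoidHom.mul_apply, h0 w hw, hl w hw, one_mul]
    · intro l _ l' _ h
      exact mul_left_cancel h
    · intro l hl
      refine ⟨l₀⁻¹ * l, ?_, mul_inv_cancel_left l₀ l⟩
      rw [mem_D] at hl ⊢
      intro w hw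
      rw [MonoidHom.mul_apply, MonoidHom.inv_apply, h0 w hw, hl w hw, inv_one, one_mul]
    · intro l _
      rw [MonoidHom.mul_apply, Units.val_mul]
  have h3 : ((l₀ x : ℂ) - 1) * ∑ l ∈ D W, (l x : ℂ) = 0 := by rw [sub_mul, h2, one_mul, sub_self]
  refine (mul_eq_zero.1 h3).resolve_left fun h4 => h1 ?_
  exact Units.ext (by rw [Units.val_one]; exact sub_eq_zero.1 h4)

theorem sum_D_of_mem (W : Subgroup A) {x : A} (hx : x ∈ W) :
    ∑ l ∈ D W, (l x : ℂ) = (D W).card := by
  rw [Finset.sum_congr rfl (g := fun _ => (1 : ℂ)) fun l hl => by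
    rw [mem_D.1 hl x hx, Units.val_one]]
  simp

theorem card_D (W : Subgroup A) : (D W).card * Nat.card W = Nat.card A := by
  classical
  have := Fintype.ofFinite A
  have := Fintype.ofFinite W
  have h1 : ∑ x : A, ∑ l ∈ D W, (l x : ℂ) = (D W).card * Nat.card W := by
    have h2 : ∀ x : A, ∑ l ∈ D W, (l x : ℂ) = if x ∈ W then ((D W).card : ℂ) else 0 := by
      intro x
      split_ifs with hx
      · exact sum_D_of_mem W hx
      · exact sum_D_of_notMem W hx
    rw [Finset.sum_congr rfl fun x _ => h2 x, ← Finset.sum_filter, Finset.sum_const, nsmul_eq_mul,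
      mul_comm]
    congr 2
    rw [Nat.card_eq_fintype_card, Fintype.card_subtype]
  have h3 : ∑ x : A, ∑ l ∈ D W, (l x : ℂ) = Nat.card A := by
    rw [Finset.sum_comm, Finset.sum_eq_single (1 : A →* ℂˣ)]
    · simp [Nat.card_eq_fintype_card]
    · intro l _ hl
      obtain ⟨x, hx⟩ : ∃ x, l x ≠ 1 := by
        by_contra hcon
        push Not at hcon
        exact hl (MonoidHom.ext hcon)
      exact sum_hom_eq_zero hx
    · intro h
      exact absurd (mem_D.2 fun _ _ => rfl) h
  rw [h1] at h3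
  exact_mod_cast h3

theorem D_anti {W W' : Subgroup A} (h : W ≤ W') : D W' ⊆ D W := fun l hl =>
  mem_D.2 fun w hw => mem_D.1 hl w (h hw)

end Cfsg.Agent.Classification.InvCentU.Orth
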