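import Mathlib
import Cfsg.Agent.Classification.InvCent.CTorus
import Cfsg.Agent.Classification.InvCentU.Orth

/-!
# The inequality for the characters of `C` of type `GU₂(q)/Z₀`

For `l` a linear character of the torus `T` with `l ≠ l^s` the function `-R_T(l)` is an irreducible
character of `C`, so `(R_T(l), Y) ≤ 0` for every character `Y` of `C`. Summing over the `l` trivial
on a subgroup `W` gives `J W`.
-/

set_option autoImplicit false
set_option linter.unusedSectionVars false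

open Cfsg
open scoped ComplexConjugate

namespace Cfsg.Agent.Classification.InvCentU.TestC

open Cfsg.Agent.Characters Cfsg.Agent.Classification.InvCent
  Cfsg.Agent.Classification.InvCentU.Orth

variable {C : Type*} [Group C] [Fintype C] {q : ℕ} {Z T U : Subgroup C} {s : C} {μ : U →* ℂˣ}

/-- The extension by zero of a linear character of `T`. -/
noncomputable def ext (T : Subgroup C) (l : T →* ℂˣ) : C → ℂ :=
  extendByZero T (fun x => (l x : ℂ))

theorem ext_mem (l : T →* ℂˣ) {x : C} (hx : x ∈ T) : ext T l x = l ⟨x, hx⟩ :=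
  Core.extendByZero_of_mem _ _ hx

theorem conj_hom (l : T →* ℂˣ) (x : T) : conj (l x : ℂ) = ((l x)⁻¹ : ℂˣ) := by
  have h := Core.isCharacter_apply_inv (Linear.isCharacter_hom l) x
  simp only [map_inv] at h
  exact h.symm

theorem norm_R (h : Torus q (-1) Z T s) (hb : Base q Z U) (hμ : ∃ v : U, μ v ≠ 1) (l : T →* ℂˣ)
    {x₀ : C} (hx₀ : x₀ ∈ T) (hne : l ⟨s * x₀ * s⁻¹, h.s_conj x₀ hx₀⟩ ≠ l ⟨x₀, hx₀⟩) :
    classInner (Torus.R T hb μ (ext T l)) (Torus.R T hb μ (ext T l)) = 1 := by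
  classical
  have := Fintype.ofFinite T
  rw [h.classInner_R_R hb hμ]
  let σ : T →* T :=
    { toFun := fun x => ⟨s * x * s⁻¹, h.s_conj x x.2⟩
      map_one' := Subtype.ext (by simp)
      map_mul' := fun x y => Subtype.ext (by simp) }
  let m : T →* ℂˣ := l / l.comp σ
  have hm : ∃ v : T, m v ≠ 1 := by
    refine ⟨⟨x₀, hx₀⟩, fun h1 => hne ?_⟩
    have h2 : l ⟨x₀, hx₀⟩ / l (σ ⟨x₀, hx₀⟩) = 1 := h1
    exact (div_eq_one.1 h2).symm
  have h1 : ssum T (fun x => ext T l x * conj (ext T l x + ext T l (s * x * s⁻¹))) =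
      ∑ x : T, (1 + (m x : ℂ)) := by
    rw [← sum_subtype_eq]
    refine Finset.sum_congr rfl fun x _ => ?_
    rw [ext_mem l x.2, ext_mem l (h.s_conj x x.2), map_add, mul_add]
    have e1 : (l ⟨(x : C), x.2⟩ : ℂ) * conj (l ⟨(x : C), x.2⟩ : ℂ) = 1 := by
      rw [conj_hom, ← Units.val_mul, mul_inv_cancel, Units.val_one]
    have e2 : (l ⟨(x : C), x.2⟩ : ℂ) * conj (l ⟨s * x * s⁻¹, h.s_conj x x.2⟩ : ℂ) = m x := by
      rw [conj_hom, ← Units.val_mul, ← div_eq_mul_inv]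
      rfl
    rw [e1, e2]
  rw [h1, Finset.sum_add_distrib, Base.ssum_mu hm, add_zero, Finset.sum_const, Finset.card_univ,
    nsmul_eq_mul, mul_one, ← Nat.card_eq_fintype_card]
  exact inv_mul_cancel₀ (by exact_mod_cast Nat.card_pos.ne')

theorem isIrr (h : Torus q (-1) Z T s) (hb : Base q Z U) (hμ : ∃ v : U, μ v ≠ 1) (l : T →* ℂˣ)
    {x₀ : C} (hx₀ : x₀ ∈ T) (hne : l ⟨s * x₀ * s⁻¹, h.s_conj x₀ hx₀⟩ ≠ l ⟨x₀, hx₀⟩) :
    IsIrrCharacter C (-Torus.R T hb μ (ext T l)) := by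
  have h1 : IsGeneralizedCharacter T (fun x : T => ext T l x) := by
    refine ⟨fun x => (l x : ℂ), 0, Linear.isCharacter_hom l, Core.isCharacter_zero, ?_⟩
    funext x
    simp [ext_mem l x.2]
  rcases Core.isIrr_of_generalized (h.isGeneralized_R hb h1) (norm_R h hb hμ l hx₀ hne) with h2 | h2
  · exfalso
    obtain ⟨n, hn, hn1⟩ := Core.isIrr_apply_one h2
    rw [h.R_Z hb _ (one_mem Z), ext_mem l (one_mem T)] at hn1
    have e : l ⟨1, one_mem T⟩ = 1 := map_one l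
    rw [e] at hn1
    have h3 : (1 : ℤ) - q = n := by
      have : (1 : ℂ) - q = n := by
        rw [← hn1]
        push_cast
        simp
        ring
      exact_mod_cast this
    have := hb.one_lt_q
    omega
  · exact h2

/-- `(R_T(l), Y) = - n` with `n` a natural number. -/
theorem exists_nat (h : Torus q (-1) Z T s) (hb : Base q Z U) (hμ : ∃ v : U, μ v ≠ 1)
    (l : T →* ℂˣ) {x₀ : C} (hx₀ : x₀ ∈ T)
    (hne : l ⟨s * x₀ * s⁻¹, h.s_conj x₀ hx₀⟩ ≠ l ⟨x₀, hx₀⟩) {Y : C → ℂ} (hY : IsCharacter C Y) :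
    ∃ n : ℕ, -classInner (Torus.R T hb μ (ext T l)) Y = n := by
  rw [← Core.classInner_neg_left]
  exact Core.classInner_isNat (Core.isIrr_isCharacter (isIrr h hb hμ l hx₀ hne)) hY

theorem ssum_finset_sum {ι : Type*} (H : Subgroup C) (J : Finset ι) (F : ι → C → ℂ) :
    ssum H (fun x => ∑ i ∈ J, F i x) = ∑ i ∈ J, ssum H (F i) := by
  classical
  unfold ssum
  rw [Finset.sum_comm]
  refine Finset.sum_congr rfl fun x _ => ?_
  split_ifs <;> simp

/-- The commutative group structure on the torus. -/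
@[reducible] def cg (h : Torus q (-1) Z T s) : CommGroup T :=
  { (inferInstance : Group T) with
    mul_comm := fun x y => Subtype.ext (h.comm x x.2 y y.2) }

/-- `J W`. -/
noncomputable def J (q : ℕ) (Z : Subgroup C) (Y : C → ℂ) (v₀ : C) (W : Subgroup C) : ℂ :=
  (Nat.card W : ℂ)⁻¹ * (((q : ℂ) + 1) / q * ssum (Z ⊓ W) (fun z => conj (Y z - Y (z * v₀))) -
    ssum W (fun x => conj (Y x)))

theorem sum_classInner (h : Torus q (-1) Z T s) (hb : Base q Z U) (hμ : ∃ v : U, μ v ≠ 1)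
    {Y : C → ℂ} (hY : IsClassFunction C Y) {v₀ : C} (hv₀ : v₀ ∈ U) (hv₀1 : v₀ ≠ 1)
    {W : Subgroup C} (hW : W ≤ T) :
    letI := cg h
    ∑ l ∈ D (W.subgroupOf T), (-classInner (Torus.R T hb μ (ext T l)) Y) = J q Z Y v₀ W := by
  classical
  let _ := cg h
  set d : ℂ := ((D (W.subgroupOf T)).card : ℂ) with hd
  have hκ : ∀ x ∈ T, ∑ l ∈ D (W.subgroupOf T), ext T l x = if x ∈ W then d else 0 := by
    intro x hx
    rw [Finset.sum_congr rfl fun l _ => ext_mem l hx]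
    split_ifs with hxW
    · exact sum_D_of_mem (W.subgroupOf T) (x := ⟨x, hx⟩) (by rw [Subgroup.mem_subgroupOf]; exact hxW)
    · exact sum_D_of_notMem (W.subgroupOf T) (x := ⟨x, hx⟩)
        (by rw [Subgroup.mem_subgroupOf]; exact hxW)
  have hT : ∀ F : C → ℂ, ∑ l ∈ D (W.subgroupOf T), ssum T (fun x => ext T l x * F x) =
      d * ssum W F := by
    intro F
    rw [← ssum_finset_sum, ← ssum_mul]
    exact (ssum_of_support hW fun x hx hxW => by
        rw [← Finset.sum_mul, hκ x hx, if_neg hxW, zero_mul]).trans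
        (ssum_congr fun x hx => by rw [← Finset.sum_mul, hκ x (hW hx), if_pos hx])
  have hZ : ∀ F : C → ℂ, ∑ l ∈ D (W.subgroupOf T), ssum Z (fun x => ext T l x * F x) =
      d * ssum (Z ⊓ W) F := by
    intro F
    rw [← ssum_finset_sum, ← ssum_mul]
    exact (ssum_of_support (inf_le_left : Z ⊓ W ≤ Z) fun x hx hxW => by
        have h1 : x ∉ W := fun h1 => hxW ⟨hx, h1⟩
        rw [← Finset.sum_mul, hκ x (h.Z_le hx), if_neg h1, zero_mul]).trans
        (ssum_congr fun x hx => by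
          have h1 : x ∈ W := hx.2
          rw [← Finset.sum_mul, hκ x (hW h1), if_pos h1])
  have hcard : d * Nat.card W = Nat.card T := by
    have h1 := card_D (W.subgroupOf T)
    rw [Nat.card_congr (Subgroup.subgroupOfEquivOfLe hW).toEquiv] at h1
    rw [hd, ← h1]
    push_cast
    rfl
  rw [Finset.sum_congr rfl fun l _ => by
    rw [Torus.classInner_R hb hμ (ext T l) hY hv₀ hv₀1], Finset.sum_neg_distrib,
    Finset.sum_sub_distrib, ← Finset.mul_sum, ← Finset.mul_sum, hT, hZ]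
  unfold J
  have hTc := h.card_cast
  have hWne : (Nat.card W : ℂ) ≠ 0 := by exact_mod_cast Nat.card_pos.ne'
  have hZne := hb.card_Z_ne
  have hqne := hb.q_ne
  have hq1 : (q : ℂ) + 1 ≠ 0 := by
    have := hb.one_lt_q
    exact_mod_cast (by omega : q + 1 ≠ 0)
  rw [hTc] at hcard ⊢
  push_cast at hcard ⊢
  rw [sub_neg_eq_add] at hcard ⊢
  have hdv : d = (Nat.card Z : ℂ) * (q + 1) / Nat.card W := by
    rw [eq_div_iff hWne, hcard]
  rw [hdv]
  field_simp
  ring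

/-- The main inequality. -/
theorem test (h : Torus q (-1) Z T s) (hb : Base q Z U) {Y : C → ℂ} (hY : IsCharacter C Y)
    {v₀ : C} (hv₀ : v₀ ∈ U) (hv₀1 : v₀ ≠ 1) {V W A : Subgroup C} (hVA : V ≤ A) (hWA : W ≤ A)
    (hA : A ≤ T)
    (hV : ∀ l : T →* ℂˣ, (∀ x : T, (x : C) ∈ V → l x = 1) →
      (∀ x : T, l ⟨s * x * s⁻¹, h.s_conj x x.2⟩ = l x) → ∀ x : T, (x : C) ∈ A → l x = 1)
    (hW : ∀ l : T →* ℂˣ, (∀ x : T, (x : C) ∈ W → l x = 1) →
      (∀ x : T, l ⟨s * x * s⁻¹, h.s_conj x x.2⟩ = l x) → ∀ x : T, (x : C) ∈ A → l x = 1) :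
    ∃ r : ℝ, 0 ≤ r ∧ (r : ℂ) = J q Z Y v₀ V + J q Z Y v₀ W - 2 * J q Z Y v₀ A := by
  classical
  let _ := cg h
  obtain ⟨μ, hμ⟩ := hb.exists_mu
  have hcf := Core.isCharacter_isClassFunction hY
  have key : ∀ B : Subgroup C, B ≤ A → (∀ l : T →* ℂˣ, (∀ x : T, (x : C) ∈ B → l x = 1) →
      (∀ x : T, l ⟨s * x * s⁻¹, h.s_conj x x.2⟩ = l x) → ∀ x : T, (x : C) ∈ A → l x = 1) →
      ∃ r : ℝ, 0 ≤ r ∧ (r : ℂ) = J q Z Y v₀ B - J q Z Y v₀ A := by
    intro B hBA hB
    rw [← sum_classInner h hb hμ hcf hv₀ hv₀1 (hBA.trans hA),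
      ← sum_classInner h hb hμ hcf hv₀ hv₀1 hA]
    have hsub : D (A.subgroupOf T) ⊆ D (B.subgroupOf T) :=
      D_anti (Subgroup.comap_mono hBA)
    rw [← Finset.sum_sdiff hsub, add_sub_cancel_right]
    have hn : ∀ l ∈ D (B.subgroupOf T) \ D (A.subgroupOf T), ∃ r : ℝ, 0 ≤ r ∧
        (r : ℂ) = -classInner (Torus.R T hb μ (ext T l)) Y := by
      intro l hl
      rw [Finset.mem_sdiff, mem_D, mem_D] at hl
      obtain ⟨x, hx⟩ : ∃ x : T, l ⟨s * x * s⁻¹, h.s_conj x x.2⟩ ≠ l x := by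
        by_contra hcon
        push Not at hcon
        exact hl.2 fun w hw => hB l (fun x hx => hl.1 x (by rwa [Subgroup.mem_subgroupOf])) hcon w
          (by rwa [Subgroup.mem_subgroupOf] at hw)
      obtain ⟨n, hn⟩ := exists_nat h hb hμ l x.2 hx hY
      exact ⟨n, Nat.cast_nonneg n, by rw [hn]; push_cast; rfl⟩
    choose! f hf0 hf using hn
    refine ⟨∑ l ∈ D (B.subgroupOf T) \ D (A.subgroupOf T), f l, Finset.sum_nonneg hf0, ?_⟩
    rw [Complex.ofReal_sum]
    exact Finset.sum_congr rfl hf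
  obtain ⟨r₁, h1, e1⟩ := key V hVA hV
  obtain ⟨r₂, h2, e2⟩ := key W hWA hW
  refine ⟨r₁ + r₂, add_nonneg h1 h2, ?_⟩
  rw [Complex.ofReal_add, e1, e2]
  ring

end Cfsg.Agent.Classification.InvCentU.TestC
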