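import Mathlib
import Cfsg.Agent.Classification.InvCentU.TestC

/-!
# The inequality for the characters of `C` of type `GU₂(q)/Z₀`, `q ≡ 1 mod 4`, explicit form
-/

set_option autoImplicit false
set_option linter.unusedSectionVars false

open Cfsg
open scoped ComplexConjugate

namespace Cfsg.Agent.Classification.InvCentU.TestT

open Cfsg.Agent.Characters Cfsg.Agent.Classification.InvCent
  Cfsg.Agent.Classification.InvCentU.TestC

variable {C : Type*} [Group C]

section Prod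

variable {T P Q : Subgroup C}

/-- The product of two subgroups of the abelian group `T`. -/
def pr (hT : ∀ x ∈ T, ∀ y ∈ T, x * y = y * x) (hP : P ≤ T) (hQ : Q ≤ T) : Subgroup C where
  carrier := {x | ∃ p ∈ P, ∃ r ∈ Q, x = p * r}
  one_mem' := ⟨1, one_mem P, 1, one_mem Q, by simp⟩
  mul_mem' := by
    rintro _ _ ⟨p, hp, r, hr, rfl⟩ ⟨p', hp', r', hr', rfl⟩
    refine ⟨p * p', mul_mem hp hp', r * r', mul_mem hr hr', ?_⟩
    have := hT r (hQ hr) p' (hP hp')
    calc p * r * (p' * r') = p * (r * p') * r' := by group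
      _ = p * p' * (r * r') := by rw [this]; group
  inv_mem' := by
    rintro _ ⟨p, hp, r, hr, rfl⟩
    refine ⟨p⁻¹, inv_mem hp, r⁻¹, inv_mem hr, ?_⟩
    rw [mul_inv_rev]
    exact hT _ (hQ (inv_mem hr)) _ (hP (inv_mem hp))

theorem mem_pr {hT : ∀ x ∈ T, ∀ y ∈ T, x * y = y * x} {hP : P ≤ T} {hQ : Q ≤ T} {x : C} :
    x ∈ pr hT hP hQ ↔ ∃ p ∈ P, ∃ r ∈ Q, x = p * r := Iff.rfl

theorem pr_le (hT : ∀ x ∈ T, ∀ y ∈ T, x * y = y * x) (hP : P ≤ T) (hQ : Q ≤ T) :
    pr hT hP hQ ≤ T := by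
  rintro _ ⟨p, hp, r, hr, rfl⟩
  exact mul_mem (hP hp) (hQ hr)

/-- The bijection `P × Q → P Q`. -/
noncomputable def prEquiv (hT : ∀ x ∈ T, ∀ y ∈ T, x * y = y * x) (hP : P ≤ T) (hQ : Q ≤ T)
    (hd : ∀ x ∈ P, x ∈ Q → x = 1) : P × Q ≃ pr hT hP hQ :=
  Equiv.ofBijective (fun x => ⟨x.1 * x.2, ⟨x.1, x.1.2, x.2, x.2.2, rfl⟩⟩) (by
    constructor
    · rintro ⟨p, r⟩ ⟨p', r'⟩ h
      have h1 : (p : C) * r = p' * r' := congrArg Subtype.val h
      have h2 : (p' : C)⁻¹ * p = r' * (r : C)⁻¹ := by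
        calc (p' : C)⁻¹ * p = (p' : C)⁻¹ * (p * r) * (r : C)⁻¹ := by group
          _ = r' * (r : C)⁻¹ := by rw [h1]; group
      have h3 : (p' : C)⁻¹ * p = 1 := hd _ (mul_mem (inv_mem p'.2) p.2)
        (by rw [h2]; exact mul_mem r'.2 (inv_mem r.2))
      have h4 : (p : C) = p' := (inv_mul_eq_one.1 h3).symm
      have h5 : (r : C) = r' := by rw [h4] at h1; exact mul_left_cancel h1
      exact Prod.ext (Subtype.ext h4) (Subtype.ext h5)
    · rintro ⟨_, p, hp, r, hr, rfl⟩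
      exact ⟨(⟨p, hp⟩, ⟨r, hr⟩), rfl⟩)

theorem card_pr (hT : ∀ x ∈ T, ∀ y ∈ T, x * y = y * x) (hP : P ≤ T) (hQ : Q ≤ T)
    (hd : ∀ x ∈ P, x ∈ Q → x = 1) : Nat.card (pr hT hP hQ) = Nat.card P * Nat.card Q := by
  rw [← Nat.card_congr (prEquiv hT hP hQ hd), Nat.card_prod]

theorem ssum_pr [Fintype C] (hT : ∀ x ∈ T, ∀ y ∈ T, x * y = y * x) (hP : P ≤ T) (hQ : Q ≤ T)
    (hd : ∀ x ∈ P, x ∈ Q → x = 1) (F : C → ℂ) :
    ssum (pr hT hP hQ) F = ssum P (fun p => ssum Q (fun r => F (p * r))) := by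
  classical
  have := Fintype.ofFinite P
  have := Fintype.ofFinite Q
  have := Fintype.ofFinite (pr hT hP hQ)
  rw [← sum_subtype_eq, ← sum_subtype_eq, ← Equiv.sum_comp (prEquiv hT hP hQ hd),
    Fintype.sum_prod_type]
  refine Finset.sum_congr rfl fun p _ => ?_
  rw [← sum_subtype_eq]
  rfl

end Prod

theorem mem_zpowers_inv {i x : C} (hi : i * i = 1) : x ∈ Subgroup.zpowers i ↔ x = 1 ∨ x = i := by
  constructor
  · rintro ⟨n, rfl⟩
    have h2 : i ^ (2 : ℤ) = 1 := by rw [zpow_two]; exact hi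
    rcases Int.even_or_odd' n with ⟨k, rfl | rfl⟩
    · left
      show i ^ (2 * k) = 1
      rw [zpow_mul, h2, one_zpow]
    · right
      show i ^ (2 * k + 1) = i
      rw [zpow_add, zpow_mul, h2, one_zpow, one_mul, zpow_one]
  · rintro (rfl | rfl)
    · exact one_mem _
    · exact Subgroup.mem_zpowers _

theorem card_zpowers_inv {i : C} (hi : i * i = 1) (hi1 : i ≠ 1) :
    Nat.card (Subgroup.zpowers i) = 2 := by
  rw [Nat.card_zpowers, orderOf_eq_prime (by rw [pow_two]; exact hi) hi1]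

theorem ssum_zpowers_inv [Fintype C] {i : C} (hi : i * i = 1) (hi1 : i ≠ 1) (F : C → ℂ) :
    ssum (Subgroup.zpowers i) F = F 1 + F i := by
  classical
  unfold ssum
  have h : ∀ x : C, (if x ∈ Subgroup.zpowers i then F x else 0) =
      (if x = 1 then F x else 0) + (if x = i then F x else 0) := by
    intro x
    rw [if_congr (mem_zpowers_inv hi) rfl rfl]
    by_cases h1 : x = 1
    · subst h1
      simp [hi1.symm]
    · by_cases h2 : x = i
      · simp [h2, hi1]
      · simp [h1, h2]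
  rw [Finset.sum_congr rfl fun x _ => h x, Finset.sum_add_distrib]
  simp

theorem odd_e {q : ℕ} (hq : q % 4 = 1) : Odd ((q + 1) / 2) := by
  rw [Nat.odd_iff]
  omega

theorem pow_odd {i : C} (hi : i * i = 1) {n : ℕ} (hn : Odd n) : i ^ n = i := by
  obtain ⟨k, rfl⟩ := hn
  rw [pow_succ, pow_mul, pow_two, hi, one_pow, one_mul]

theorem one_of_sq {a : C} (ha : a * a = 1) {n : ℕ} (hn : Odd n) (h1 : a ^ n = 1) : a = 1 := by
  rw [pow_odd ha hn] at h1
  exact h1

variable {t : C} {q : ℕ} {Z T T' U : Subgroup C} {s s' u : C}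

/-- The elements `x` of `T` with `x x^s = 1` and `x ^ ((q+1)/2) = 1`. -/
def O (h : CHyp t q (-1) Z T T' U s s' u) : Subgroup C where
  carrier := {x | x ∈ T ∧ x * (s * x * s⁻¹) = 1 ∧ x ^ ((q + 1) / 2) = 1}
  one_mem' := ⟨one_mem T, by simp, by simp⟩
  mul_mem' := by
    rintro x y ⟨hx, hx1, hx2⟩ ⟨hy, hy1, hy2⟩
    refine ⟨mul_mem hx hy, ?_, ?_⟩
    · have h1 := h.T_comm y hy (s * x * s⁻¹) (h.s_conj x hx)
      calc x * y * (s * (x * y) * s⁻¹) = x * (y * (s * x * s⁻¹)) * (s * y * s⁻¹) := by group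
        _ = (x * (s * x * s⁻¹)) * (y * (s * y * s⁻¹)) := by rw [h1]; group
        _ = 1 := by rw [hx1, hy1, one_mul]
    · have h1 : Commute x y := h.T_comm x hx y hy
      rw [h1.mul_pow, hx2, hy2, one_mul]
  inv_mem' := by
    rintro x ⟨hx, hx1, hx2⟩
    refine ⟨inv_mem hx, ?_, by rw [inv_pow, hx2, inv_one]⟩
    have h1 : s * x * s⁻¹ = x⁻¹ := (eq_inv_of_mul_eq_one_right hx1)
    calc x⁻¹ * (s * x⁻¹ * s⁻¹) = x⁻¹ * (s * x * s⁻¹)⁻¹ := by group
      _ = 1 := by rw [h1]; group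

theorem mem_O {h : CHyp t q (-1) Z T T' U s s' u} {x : C} :
    x ∈ O h ↔ x ∈ T ∧ x * (s * x * s⁻¹) = 1 ∧ x ^ ((q + 1) / 2) = 1 := Iff.rfl

section Facts

variable (h : CHyp t q (-1) Z T T' U s s' u)
include h

theorem O_le : O h ≤ T := fun _ hx => hx.1

theorem tt_mul : t * t = 1 := by
  have := pow_orderOf_eq_one t
  rwa [h.orderOf_t, pow_two] at this

theorem uu_mul : u * u = 1 := by
  have := pow_orderOf_eq_one u
  rwa [h.orderOf_u, pow_two] at this

theorem t_ne : t ≠ 1 := by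
  intro h1
  have := h.orderOf_t
  rw [h1, orderOf_one] at this
  omega

theorem u_ne : u ≠ 1 := by
  intro h1
  have := h.orderOf_u
  rw [h1, orderOf_one] at this
  omega

theorem t_mem_T : t ∈ T := h.Z_le_T h.t_mem

theorem nrm_u : u * (s * u * s⁻¹) = t := by
  rw [h.s_u, ← mul_assoc, h.T_comm u h.u_mem t (t_mem_T h), mul_assoc, uu_mul h, mul_one]

/-- `|O| = (q+1)/2`. -/
theorem card_O [Finite C] (hq : q % 4 = 1) : Nat.card (O h) = (q + 1) / 2 := by
  classical
  let e := (q + 1) / 2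
  have he : Odd e := odd_e hq
  have h2e : 2 * e = q + 1 := by
    have : (q + 1) % 2 = 0 := by omega
    omega
  -- the kernel of the norm
  let T₀ : Subgroup C :=
    { carrier := {x | x ∈ T ∧ x * (s * x * s⁻¹) = 1}
      one_mem' := ⟨one_mem T, by simp⟩
      mul_mem' := by
        rintro x y ⟨hx, hx1⟩ ⟨hy, hy1⟩
        refine ⟨mul_mem hx hy, ?_⟩
        have h1 := h.T_comm y hy (s * x * s⁻¹) (h.s_conj x hx)
        calc x * y * (s * (x * y) * s⁻¹) = x * (y * (s * x * s⁻¹)) * (s * y * s⁻¹) := by group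
          _ = (x * (s * x * s⁻¹)) * (y * (s * y * s⁻¹)) := by rw [h1]; group
          _ = 1 := by rw [hx1, hy1, one_mul]
      inv_mem' := by
        rintro x ⟨hx, hx1⟩
        refine ⟨inv_mem hx, ?_⟩
        have h1 : s * x * s⁻¹ = x⁻¹ := (eq_inv_of_mul_eq_one_right hx1)
        calc x⁻¹ * (s * x⁻¹ * s⁻¹) = x⁻¹ * (s * x * s⁻¹)⁻¹ := by group
          _ = 1 := by rw [h1]; group }
  have hT₀ : Nat.card T₀ = q + 1 := by
    have h1 : Nat.card T₀ = Nat.card {x : T // (x : C) * (s * x * s⁻¹) = 1} := by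
      refine Nat.card_congr
        { toFun := fun x => ⟨⟨x.1, x.2.1⟩, x.2.2⟩
          invFun := fun x => ⟨x.1.1, x.1.2, x.2⟩
          left_inv := fun x => rfl
          right_inv := fun x => rfl }
    have h2 := h.card_T₀
    rw [← h1] at h2
    omega
  have htT₀ : t ∈ T₀ := by
    refine ⟨t_mem_T h, ?_⟩
    have h1 : s * t * s⁻¹ = t := by
      rw [h.Z_central t h.t_mem s]; group
    rw [h1, tt_mul h]
  let f : T₀ →* T₀ :=
    { toFun := fun x => x ^ e
      map_one' := one_pow _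
      map_mul' := fun x y => by
        have h1 : Commute x y := Subtype.ext (h.T_comm x x.2.1 y y.2.1)
        exact h1.mul_pow e }
  have hker : Nat.card f.ker = Nat.card (O h) := by
    refine Nat.card_congr
        { toFun := fun x => ⟨x.1.1, x.1.2.1, x.1.2.2, by
            have h1 : f x.1 = 1 := x.2
            exact congrArg Subtype.val h1⟩
          invFun := fun x => ⟨⟨x.1, x.2.1, x.2.2.1⟩, by
            rw [MonoidHom.mem_ker]
            exact Subtype.ext x.2.2.2⟩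
          left_inv := fun x => rfl
          right_inv := fun x => rfl }
  have hrange : Nat.card f.range = 2 := by
    have h1 : f.range = Subgroup.zpowers (⟨t, htT₀⟩ : T₀) := by
      have htt : (⟨t, htT₀⟩ : T₀) * ⟨t, htT₀⟩ = 1 := Subtype.ext (tt_mul h)
      ext y
      rw [mem_zpowers_inv htt]
      constructor
      · rintro ⟨x, rfl⟩
        have h2 : ((f x : T₀) : C) * (f x : T₀) = 1 := by
          have h3 : (x ^ e) * (x ^ e) = 1 := by
            rw [← pow_add, ← two_mul, h2e, ← hT₀, pow_card_eq_one']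
          exact congrArg Subtype.val h3
        rcases h.invol_T _ (f x).2.1 h2 with h3 | h3 | h3 | h3
        · left; exact Subtype.ext h3
        · right; exact Subtype.ext h3
        · exfalso
          have h4 := (f x).2.2
          rw [h3, nrm_u h] at h4
          exact t_ne h h4
        · exfalso
          have h4 := (f x).2.2
          rw [h3] at h4
          have h5 : t * u * (s * (t * u) * s⁻¹) = (t * t) * (u * (s * u * s⁻¹)) := by
            have h6 : s * t = t * s := h.Z_central t h.t_mem s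
            have h7 : u * t = t * u := h.Z_central t h.t_mem u
            calc t * u * (s * (t * u) * s⁻¹) = t * u * ((s * t) * u * s⁻¹) := by group
              _ = t * (u * t) * (s * u * s⁻¹) := by rw [h6]; group
              _ = _ := by rw [h7]; group
          rw [h5, nrm_u h, tt_mul h, one_mul] at h4
          exact t_ne h h4
      · rintro (rfl | rfl)
        · exact one_mem _
        · refine ⟨⟨t, htT₀⟩, Subtype.ext ?_⟩
          exact pow_odd (tt_mul h) he
    rw [h1, card_zpowers_inv (Subtype.ext (tt_mul h)) (fun h2 => t_ne h (congrArg Subtype.val h2))]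
  have h1 := f.ker.card_mul_index
  rw [Subgroup.index_ker, hker, hrange, hT₀] at h1
  omega

theorem zt_le : Subgroup.zpowers t ≤ T := Subgroup.zpowers_le.2 (t_mem_T h)

theorem zu_le : Subgroup.zpowers u ≤ T := Subgroup.zpowers_le.2 h.u_mem

theorem s_conj_t : s * t * s⁻¹ = t := by
  rw [h.Z_central t h.t_mem s]; group

/-- The elements of `O` are not involutions. -/
theorem eq_one_of_mem_O (hq : q % 4 = 1) {a : C} (ha : a ∈ O h) (h2 : a * a = 1) : a = 1 :=
  one_of_sq h2 (odd_e hq) ha.2.2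

theorem disj_u (hq : q % 4 = 1) : ∀ x ∈ Subgroup.zpowers u, x ∈ O h → x = 1 := by
  intro x hx hxO
  rcases (mem_zpowers_inv (uu_mul h)).1 hx with rfl | rfl
  · rfl
  · exact eq_one_of_mem_O h hq hxO (uu_mul h)

/-- `{1, u} O` -/
def W : Subgroup C := pr h.T_comm (zu_le h) (O_le h)

theorem W_le_T : W h ≤ T := pr_le h.T_comm (zu_le h) (O_le h)

/-- `{1, t} {1, u} O` -/
def A : Subgroup C := pr h.T_comm (zt_le h) (W_le_T h)

/-- `{1, t} {1, u}` -/
def V : Subgroup C := pr h.T_comm (zt_le h) (zu_le h)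

/-- An element of `{1, u} O` which is central is trivial. -/
theorem eq_one_of_W (hq : q % 4 = 1) {x : C} (hx : x ∈ W h) (hxZ : x ∈ Z) : x = 1 := by
  obtain ⟨v, hv, a, ha, rfl⟩ := hx
  have h1 : s * (v * a) * s⁻¹ = v * a := by rw [h.Z_central _ hxZ s]; group
  have h2 : v * a * (s * (v * a) * s⁻¹) = (v * (s * v * s⁻¹)) * (a * (s * a * s⁻¹)) := by
    have h3 := h.T_comm a (O_le h ha) (s * v * s⁻¹) (h.s_conj v (zu_le h hv))
    calc v * a * (s * (v * a) * s⁻¹) = v * (a * (s * v * s⁻¹)) * (s * a * s⁻¹) := by group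
      _ = _ := by rw [h3]; group
  rw [h1, ha.2.1, mul_one] at h2
  have h4 : a * v = v * a := h.T_comm a (O_le h ha) v (zu_le h hv)
  rcases (mem_zpowers_inv (uu_mul h)).1 hv with rfl | rfl
  · rw [one_mul] at h2 ⊢
    refine eq_one_of_mem_O h hq ha ?_
    rw [h2]; simp
  · exfalso
    rw [nrm_u h] at h2
    have h5 : a * a = t := by
      calc a * a = (v * v) * (a * a) := by rw [uu_mul h, one_mul]
        _ = v * (v * a) * a := by group
        _ = v * (a * v) * a := by rw [h4]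
        _ = v * a * (v * a) := by group
        _ = t := h2
    have h6 : (a * a) ^ ((q + 1) / 2) = 1 := by
      rw [← pow_two, ← pow_mul, mul_comm, pow_mul, ha.2.2, one_pow]
    rw [h5, pow_odd (tt_mul h) (odd_e hq)] at h6
    exact t_ne h h6

theorem disj_t (hq : q % 4 = 1) : ∀ x ∈ Subgroup.zpowers t, x ∈ W h → x = 1 := by
  intro x hx hxW
  refine eq_one_of_W h hq hxW ?_
  rcases (mem_zpowers_inv (tt_mul h)).1 hx with rfl | rfl
  · exact one_mem _
  · exact h.t_mem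

theorem zu_le_W : Subgroup.zpowers u ≤ W h := fun x hx => ⟨x, hx, 1, one_mem _, by simp⟩

theorem disj_tu (hq : q % 4 = 1) : ∀ x ∈ Subgroup.zpowers t, x ∈ Subgroup.zpowers u → x = 1 :=
  fun x hx hxu => disj_t h hq x hx (zu_le_W h hxu)

theorem V_le_A : V h ≤ A h := by
  rintro _ ⟨x, hx, y, hy, rfl⟩
  exact ⟨x, hx, y, zu_le_W h hy, rfl⟩

theorem W_le_A : W h ≤ A h := fun x hx => ⟨1, one_mem _, x, hx, by simp⟩

theorem A_le_T : A h ≤ T := pr_le _ _ _

theorem zt_le_V : Subgroup.zpowers t ≤ V h := fun x hx => ⟨x, hx, 1, one_mem _, by simp⟩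

theorem zt_le_Z : Subgroup.zpowers t ≤ Z := Subgroup.zpowers_le.2 h.t_mem

theorem Z_inf_A (hq : q % 4 = 1) : Z ⊓ A h = Subgroup.zpowers t := by
  ext x
  rw [Subgroup.mem_inf]
  constructor
  · rintro ⟨hxZ, y, hy, w, hw, rfl⟩
    have h1 : w = 1 := eq_one_of_W h hq hw (by
      have h2 : w = y⁻¹ * (y * w) := by group
      rw [h2]
      exact mul_mem (inv_mem (zt_le_Z h hy)) hxZ)
    rw [h1, mul_one]
    exact hy
  · intro hx
    exact ⟨zt_le_Z h hx, V_le_A h (zt_le_V h hx)⟩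

theorem Z_inf_V (hq : q % 4 = 1) : Z ⊓ V h = Subgroup.zpowers t := by
  apply le_antisymm
  · rw [← Z_inf_A h hq]
    exact inf_le_inf_left _ (V_le_A h)
  · exact le_inf (zt_le_Z h) (zt_le_V h)

theorem Z_inf_W (hq : q % 4 = 1) : Z ⊓ W h = ⊥ := by
  rw [eq_bot_iff]
  rintro x ⟨hxZ, hxW⟩
  exact eq_one_of_W h hq hxW hxZ

theorem card_V [Finite C] (hq : q % 4 = 1) : Nat.card (V h) = 4 := by
  rw [V, card_pr _ _ _ (disj_tu h hq), card_zpowers_inv (tt_mul h) (t_ne h),
    card_zpowers_inv (uu_mul h) (u_ne h)]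

theorem card_W [Finite C] (hq : q % 4 = 1) : Nat.card (W h) = q + 1 := by
  rw [W, card_pr _ _ _ (disj_u h hq), card_zpowers_inv (uu_mul h) (u_ne h), card_O h hq]
  omega

theorem card_A [Finite C] (hq : q % 4 = 1) : Nat.card (A h) = 2 * (q + 1) := by
  rw [A, card_pr _ _ _ (disj_t h hq), card_zpowers_inv (tt_mul h) (t_ne h)]
  congr 1
  exact card_W h hq

end Facts

section Main

variable [Fintype C] (h : CHyp t q (-1) Z T T' U s s' u)
include h

theorem ssum_bot (F : C → ℂ) : ssum (⊥ : Subgroup C) F = F 1 := by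
  classical
  unfold ssum
  rw [Finset.sum_eq_single (1 : C)]
  · simp
  · intro x _ hx
    rw [if_neg]
    rwa [Subgroup.mem_bot]
  · intro h1; exact absurd (Finset.mem_univ _) h1

/-- **The test inequality for the characters of `C`.** -/
theorem test (hq : q % 4 = 1) {Y : C → ℂ} (hY : IsCharacter C Y) {v₀ : C} (hv₀ : v₀ ∈ U)
    (hv₀1 : v₀ ≠ 1) {y1 yx yt ytx ya : ℝ} (h1 : Y 1 = y1) (hx : Y v₀ = yx) (ht : Y t = yt)
    (htx : Y (t * v₀) = ytx) (hu : Y u = yt) (htu : Y (t * u) = yt)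
    (hta : ∀ a ∈ O h, a ≠ 1 → Y (t * a) = ya) (htua : ∀ a ∈ O h, a ≠ 1 → Y (t * (u * a)) = ya) :
    0 ≤ (q + 1) * (y1 - yx) + (q - 3) * (yt - ytx) - q * (y1 + 3 * yt) + 8 * q * yt / (q + 1) +
      4 * q * (q - 1) * ya / (q + 1) := by
  classical
  have htt := tt_mul h
  have huu := uu_mul h
  have ht1 := t_ne h
  have hu1 := u_ne h
  obtain ⟨r, hr0, hr⟩ := TestC.test h.torus h.base hY hv₀ hv₀1 (V_le_A h) (W_le_A h) (A_le_T h)
    (by
      intro l hl hs x hx
      obtain ⟨y, hy, w, ⟨z, hz, a, ha, rfl⟩, hxe⟩ := hx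
      have e1 : x = ⟨y, zt_le h hy⟩ * (⟨z, zu_le h hz⟩ * ⟨a, O_le h ha⟩) := Subtype.ext hxe
      rw [e1, map_mul, map_mul, hl _ (zt_le_V h hy), hl ⟨z, _⟩ ⟨1, one_mem _, z, hz, by simp⟩,
        one_mul, one_mul]
      have h2 := hs ⟨a, O_le h ha⟩
      have h3 : (⟨s * a * s⁻¹, h.s_conj a (O_le h ha)⟩ : T) = ⟨a, O_le h ha⟩⁻¹ :=
        Subtype.ext (eq_inv_of_mul_eq_one_right ha.2.1)
      have h4 : l ⟨a, O_le h ha⟩ * l ⟨a, O_le h ha⟩ = 1 := by
        have h5 : l (⟨s * a * s⁻¹, h.s_conj a (O_le h ha)⟩ : T) = l ⟨a, O_le h ha⟩ := h2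
        rw [h3, map_inv] at h5
        rw [← mul_inv_cancel (l ⟨a, O_le h ha⟩), h5]
      have h6 : (l ⟨a, O_le h ha⟩) ^ ((q + 1) / 2) = 1 := by
        rw [← map_pow]
        have : (⟨a, O_le h ha⟩ : T) ^ ((q + 1) / 2) = 1 := Subtype.ext ha.2.2
        rw [this, map_one]
      exact one_of_sq h4 (odd_e hq) h6)
    (by
      intro l hl hs x hx
      obtain ⟨y, hy, w, hw, hxe⟩ := hx
      have hwT : w ∈ T := pr_le _ _ _ hw
      have e1 : x = ⟨y, zt_le h hy⟩ * ⟨w, hwT⟩ := Subtype.ext hxe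
      rw [e1, map_mul, hl ⟨w, hwT⟩ hw, mul_one]
      rcases (mem_zpowers_inv htt).1 hy with rfl | rfl
      · exact map_one l
      · have h2 := hs ⟨u, h.u_mem⟩
        have h3 : (⟨s * u * s⁻¹, h.s_conj u h.u_mem⟩ : T) =
            ⟨y, t_mem_T h⟩ * ⟨u, h.u_mem⟩ := Subtype.ext h.s_u
        have h5 : l (⟨s * u * s⁻¹, h.s_conj u h.u_mem⟩ : T) = l ⟨u, h.u_mem⟩ := h2
        rw [h3, map_mul] at h5
        exact mul_eq_right.1 h5)
  have hqpos : 1 < q := h.one_lt_q
  have e1 : (Nat.card (V h) : ℂ) = 4 := by rw [card_V h hq]; norm_num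
  have e2 : (Nat.card (W h) : ℂ) = q + 1 := by rw [card_W h hq]; push_cast; rfl
  have e3 : (Nat.card (A h) : ℂ) = 2 * (q + 1) := by rw [card_A h hq]; push_cast; rfl
  have e4 : (Nat.card (O h) : ℂ) = (q + 1) / 2 := by
    have h2 : 2 * Nat.card (O h) = q + 1 := by
      rw [card_O h hq]
      omega
    have h3 : (2 : ℂ) * Nat.card (O h) = q + 1 := by exact_mod_cast h2
    rw [← h3]; ring
  -- the sums over `O`
  have key : ∀ c : C, (∀ a ∈ O h, a ≠ 1 → Y (c * a) = ya) →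
      ssum (O h) (fun a => conj (Y (c * a))) = conj (Y c) + ((q + 1) / 2 - 1) * ya := by
    intro c hc
    have h2 : ssum (O h) (fun a => conj (Y (c * a))) =
        ssum (O h) (fun a => (ya : ℂ) + if a = 1 then conj (Y c) - ya else 0) := by
      refine ssum_congr fun a ha => ?_
      by_cases ha1 : a = 1
      · rw [ha1, mul_one, if_pos rfl]; ring
      · rw [if_neg ha1, hc a ha ha1, Complex.conj_ofReal, add_zero]
    rw [h2, ssum_add, ssum_const, e4]
    have h3 : ssum (O h) (fun a => if a = 1 then conj (Y c) - ya else 0) = conj (Y c) - ya := by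
      rw [ssum_of_support (bot_le : (⊥ : Subgroup C) ≤ O h)]
      · rw [ssum_bot h]; simp
      · intro x _ hx
        rw [if_neg]
        rwa [Subgroup.mem_bot] at hx
    rw [h3]
    ring
  have sA : ssum (A h) (fun x => conj (Y x)) = ssum (W h) (fun x => conj (Y x)) +
      ssum (W h) (fun x => conj (Y (t * x))) := by
    rw [A, ssum_pr _ _ _ (disj_t h hq), ssum_zpowers_inv htt ht1]
    simp only [one_mul]
  have sW : ssum (W h) (fun x => conj (Y (t * x))) =
      (conj (Y t) + ((q + 1) / 2 - 1) * ya) + (conj (Y (t * u)) + ((q + 1) / 2 - 1) * ya) := by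
    rw [W, ssum_pr _ _ _ (disj_u h hq), ssum_zpowers_inv huu hu1]
    simp only [one_mul]
    rw [key t hta]
    have h2 : ssum (O h) (fun a => conj (Y (t * (u * a)))) =
        ssum (O h) (fun a => conj (Y (t * u * a))) :=
      ssum_congr fun a _ => by rw [mul_assoc]
    rw [h2, key (t * u) fun a ha ha1 => by rw [mul_assoc]; exact htua a ha ha1]
  have sV : ssum (V h) (fun x => conj (Y x)) = conj (Y 1) + conj (Y u) +
      (conj (Y t) + conj (Y (t * u))) := by
    rw [V, ssum_pr _ _ _ (disj_tu h hq), ssum_zpowers_inv htt ht1, ssum_zpowers_inv huu hu1,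
      ssum_zpowers_inv huu hu1]
    simp
  have sZ : ssum (Subgroup.zpowers t) (fun z => conj (Y z - Y (z * v₀))) =
      conj (Y 1 - Y v₀) + conj (Y t - Y (t * v₀)) := by
    rw [ssum_zpowers_inv htt ht1, one_mul]
  have hr' : r = 4⁻¹ * (((q : ℝ) + 1) / q * ((y1 - yx) + (yt - ytx)) - (y1 + yt + (yt + yt))) +
      ((q : ℝ) + 1)⁻¹ * (((q : ℝ) + 1) / q * (y1 - yx) -
        (((q : ℝ) + 1) / q * ((y1 - yx) + (yt - ytx)))) +
      ((q : ℝ) + 1)⁻¹ * ((yt + (((q : ℝ) + 1) / 2 - 1) * ya) +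
        (yt + (((q : ℝ) + 1) / 2 - 1) * ya)) := by
    have h2 : (r : ℂ) = 4⁻¹ * (((q : ℂ) + 1) / q * ((y1 - yx) + (yt - ytx)) -
          (y1 + yt + (yt + yt))) +
        ((q : ℂ) + 1)⁻¹ * (((q : ℂ) + 1) / q * (y1 - yx) -
          (((q : ℂ) + 1) / q * ((y1 - yx) + (yt - ytx)))) +
        ((q : ℂ) + 1)⁻¹ * ((yt + (((q : ℂ) + 1) / 2 - 1) * ya) +
          (yt + (((q : ℂ) + 1) / 2 - 1) * ya)) := by
      rw [hr]
      unfold J
      rw [Z_inf_V h hq, Z_inf_W h hq, Z_inf_A h hq, sZ, ssum_bot h, sA, sW, sV, e1, e2, e3, one_mul,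
        h1, hx, ht, htx, hu, htu]
      simp only [map_sub, Complex.conj_ofReal]
      have h3 : (q : ℂ) + 1 ≠ 0 := by exact_mod_cast (by omega : q + 1 ≠ 0)
      have h4 : (q : ℂ) ≠ 0 := by exact_mod_cast (by omega : q ≠ 0)
      field_simp
      ring
    apply Complex.ofReal_injective
    rw [h2]
    push_cast
    ring
  have hq0 : (0 : ℝ) < q := by exact_mod_cast (by omega : 0 < q)
  have h5 : (4 * q) * r = (q + 1) * (y1 - yx) + (q - 3) * (yt - ytx) - q * (y1 + 3 * yt) +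
      8 * q * yt / (q + 1) + 4 * q * (q - 1) * ya / (q + 1) := by
    rw [hr']
    have h6 : (q : ℝ) + 1 ≠ 0 := by positivity
    field_simp
    ring
  rw [← h5]
  positivity

end Main

end Cfsg.Agent.Classification.InvCentU.TestT
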