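import Mathlib
import Cfsg.Agent.Classification.InvCentU.Local1
import Cfsg.Agent.Classification.InvCentU.TestT

/-!
# S0485, quasi-dihedral unitary case: the test inequality for the characters of `G`
-/

set_option autoImplicit false

open Cfsg
open scoped ComplexConjugate

namespace Cfsg.Agent.Classification.InvCentU.Test

open Cfsg.Agent.Characters
open Cfsg.Agent.Classification Cfsg.Agent.Classification.InvCent
open Cfsg.Agent.Classification.InvCentU.Defs Cfsg.Agent.Classification.InvCentU.Local1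
open Cfsg.Agent.Classification.InvCentU.TestT

variable {G : Type*} [Group G] {t : G} {p a q : ℕ}
  {Z T T' U : Subgroup (Subgroup.centralizer ({t} : Set G))}
  {s s' u : Subgroup.centralizer ({t} : Set G)}

theorem u_notMem_Z (h : UHyp t p a q Z T T' U s s' u) : u ∉ Z := by
  intro h1
  have h2 := h.chyp.s_u
  rw [h.chyp.Z_central u h1 s, mul_assoc, mul_inv_cancel, mul_one] at h2
  exact t_ne h.chyp (mul_eq_right.1 h2.symm)

/-- Elements of `G` commuting with `t` and `u` are in `T`. -/
theorem mem_T (h : UHyp t p a q Z T T' U s s' u) {x : G} (hx : x * t = t * x)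
    (hxu : x * (u : G) = u * x) : (⟨x, Subgroup.mem_centralizer_singleton_iff.2 hx⟩ :
      Subgroup.centralizer ({t} : Set G)) ∈ T :=
  h.chyp.cent_T u h.chyp.u_mem (u_notMem_Z h) _ (Subtype.ext hxu)

/-- The element `g = w s` of `G`: it maps `t u` to `t`, `t` to `u`, and `a ∈ O` outside `Z`. -/
theorem exists_conj_tu (h : UHyp t p a q Z T T' U s s' u) {x : Subgroup.centralizer ({t} : Set G)}
    (hx : x ∈ O h.chyp) (hx1 : x ≠ 1) :
    ∃ g : G, ∃ y ∈ T, y ∉ Z ∧ orderOf y = orderOf x ∧ g * (t * ((u : G) * x)) * g⁻¹ = t * y := by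
  have hc := h.chyp
  have hO := mem_O.1 hx
  obtain ⟨w, hwt, hwu⟩ := h.swap
  have huu : (u : G) * u = 1 := congrArg Subtype.val (uu_mul hc)
  have htt : t * t = 1 := tG_sq h
  have hsu : (s : G) * u * (s : G)⁻¹ = t * u := congrArg Subtype.val hc.s_u
  have hst : (s : G) * t = t * s := comm_of_mem s
  have hut : (u : G) * t = t * u := comm_of_mem u
  have hxt : (x : G) * t = t * x := comm_of_mem x
  have hxu : (x : G) * u = u * x := congrArg Subtype.val (hc.T_comm x hO.1 u hc.u_mem)
  have hxs : (s : G) * x * (s : G)⁻¹ = (x : G)⁻¹ :=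
    congrArg Subtype.val (eq_inv_of_mul_eq_one_right hO.2.1)
  -- conjugation by `g`
  have hgt : (w * s) * t * (w * s)⁻¹ = u := by
    calc (w * s) * t * (w * s)⁻¹ = w * ((s : G) * t) * (s : G)⁻¹ * w⁻¹ := by group
      _ = w * t * w⁻¹ := by rw [hst]; group
      _ = u := hwt
  have hgtu : (w * s) * (t * u) * (w * s)⁻¹ = t := by
    calc (w * s) * (t * u) * (w * s)⁻¹ =
        w * (((s : G) * t * (s : G)⁻¹) * ((s : G) * u * (s : G)⁻¹)) * w⁻¹ := by group
      _ = w * ((t * t) * u) * w⁻¹ := by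
        rw [hsu, hst]; group
      _ = w * u * w⁻¹ := by rw [htt, one_mul]
      _ = t := hwu
  have hgu : (w * s) * u * (w * s)⁻¹ = u * t := by
    have h1 : (u : G) = t * (t * u) := by rw [← mul_assoc, htt, one_mul]
    calc (w * s) * u * (w * s)⁻¹ = (w * s) * (t * (t * u)) * (w * s)⁻¹ := by rw [← h1]
      _ = ((w * s) * t * (w * s)⁻¹) * ((w * s) * (t * u) * (w * s)⁻¹) := by group
      _ = u * t := by rw [hgt, hgtu]
  set g : G := w * s with hg
  have hcomm : ∀ c d : G, c * d = d * c → (g * c * g⁻¹) * (g * d * g⁻¹) =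
      (g * d * g⁻¹) * (g * c * g⁻¹) := by
    intro c d hcd
    calc (g * c * g⁻¹) * (g * d * g⁻¹) = g * (c * d) * g⁻¹ := by group
      _ = g * (d * c) * g⁻¹ := by rw [hcd]
      _ = _ := by group
  have hyt : (g * x * g⁻¹) * t = t * (g * x * g⁻¹) := by
    have h1 := hcomm x (t * u) (by rw [← mul_assoc, hxt, mul_assoc, hxu, mul_assoc])
    rwa [hgtu] at h1
  have hyu : (g * x * g⁻¹) * (u : G) = u * (g * x * g⁻¹) := by
    have h1 := hcomm x t hxt
    rwa [hgt] at h1
  refine ⟨g, _, mem_T h hyt hyu, ?_, ?_, ?_⟩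
  · -- not in `Z`
    intro hZ
    have hcen : ∀ c : G, c * t = t * c → c * (g * x * g⁻¹) = (g * x * g⁻¹) * c := by
      intro c hct
      exact congrArg Subtype.val (hc.Z_central _ hZ ⟨c, Subgroup.mem_centralizer_singleton_iff.2 hct⟩)
    -- `x` is central in `C(tu)`
    have h1 : ∀ c : G, c * (t * u) = (t * u) * c → c * x = x * c := by
      intro c hcc
      have h2 := hcomm c (t * u) hcc
      rw [hgtu] at h2
      have h3 := hcen _ h2
      calc c * x = g⁻¹ * ((g * c * g⁻¹) * (g * x * g⁻¹)) * g := by group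
        _ = g⁻¹ * ((g * x * g⁻¹) * (g * c * g⁻¹)) * g := by rw [h3]
        _ = x * c := by group
    -- `x` is central in `C(u)`
    have h2 : ∀ c : G, c * u = u * c → c * x = x * c := by
      intro c hcc
      have h3 : ((s : G) * c * (s : G)⁻¹) * (t * u) = (t * u) * ((s : G) * c * (s : G)⁻¹) := by
        rw [← hsu]
        calc (s : G) * c * (s : G)⁻¹ * ((s : G) * u * (s : G)⁻¹) = (s : G) * (c * u) * (s : G)⁻¹ := by
              group
          _ = (s : G) * (u * c) * (s : G)⁻¹ := by rw [hcc]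
          _ = _ := by group
      have h4 := h1 _ h3
      have h5 : (x : G)⁻¹ * c = c * (x : G)⁻¹ := by
        have hss : (s : G) * s = 1 := congrArg Subtype.val hc.s_sq
        have hxs' : (s : G)⁻¹ * x * s = (x : G)⁻¹ := by
          have hsi : (s : G)⁻¹ = s := inv_eq_of_mul_eq_one_left hss
          rw [hsi] at hxs ⊢
          exact hxs
        calc (x : G)⁻¹ * c = (s : G)⁻¹ * (x * ((s : G) * c * (s : G)⁻¹)) * s := by
              rw [← hxs']; group
          _ = (s : G)⁻¹ * (((s : G) * c * (s : G)⁻¹) * x) * s := by rw [h4]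
          _ = c * (x : G)⁻¹ := by rw [← hxs']; group
      calc c * x = x * ((x : G)⁻¹ * c) * x := by group
        _ = x * (c * (x : G)⁻¹) * x := by rw [h5]
        _ = x * c := by group
    -- `w` commutes with `t u`, so with `x`
    have hwtu : w * (t * u) = (t * u) * w := by
      have h3 : w * (t * u) * w⁻¹ = t * u := by
        calc w * (t * u) * w⁻¹ = (w * t * w⁻¹) * (w * u * w⁻¹) := by group
          _ = u * t := by rw [hwt, hwu]
          _ = t * u := hut
      calc w * (t * u) = (w * (t * u) * w⁻¹) * w := by group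
        _ = (t * u) * w := by rw [h3]
    have hwx := h1 w hwtu
    -- `x` is central in `C(t)`
    have h3 : ∀ c : G, c * t = t * c → c * x = x * c := by
      intro c hcc
      have h4 : (w * c * w⁻¹) * u = u * (w * c * w⁻¹) := by
        rw [← hwt]
        calc w * c * w⁻¹ * (w * t * w⁻¹) = w * (c * t) * w⁻¹ := by group
          _ = w * (t * c) * w⁻¹ := by rw [hcc]
          _ = _ := by group
      have h5 := h2 _ h4
      have hwx' : w⁻¹ * x * w = x := by rw [mul_assoc, ← hwx]; group
      calc c * x = w⁻¹ * ((w * c * w⁻¹) * (w * (w⁻¹ * x * w) * w⁻¹)) * w := by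
            rw [hwx']
            have : w * (x : G) * w⁻¹ = x := by rw [hwx]; group
            rw [this]
            calc c * (x : G) = c * (w⁻¹ * x * w) := by rw [hwx']
              _ = w⁻¹ * (w * c * w⁻¹ * ↑x) * w := by group
        _ = w⁻¹ * ((w * c * w⁻¹) * x) * w := by group
        _ = w⁻¹ * (x * (w * c * w⁻¹)) * w := by rw [h5]
        _ = (w⁻¹ * x * w) * c := by group
        _ = x * c := by rw [hwx']
    have h4 : (x : G)⁻¹ = x := by
      rw [← hxs, h3 s hst]; group
    apply hx1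
    apply eq_one_of_mem_O hc h.q_mod hx
    apply Subtype.ext
    change (x : G) * x = 1
    nth_rw 2 [← h4]
    exact mul_inv_cancel _
  · rw [Subgroup.orderOf_mk, ← Subgroup.orderOf_coe x]
    exact (SemiconjBy.orderOf_eq g (x := (x : G)) (y := g * x * g⁻¹) (by simp [SemiconjBy])).symm
  · calc g * (t * ((u : G) * x)) * g⁻¹ = (g * (t * u) * g⁻¹) * (g * x * g⁻¹) := by group
      _ = t * (g * x * g⁻¹) := by rw [hgtu]

/-- **The test inequality for the characters of `G`.** -/
theorem test [Fintype G] (h : UHyp t p a q Z T T' U s s' u) {X : G → ℂ} (hX : IsCharacter G X)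
    {v₀ : Subgroup.centralizer ({t} : Set G)} (hv₀ : v₀ ∈ U) (hv₀1 : v₀ ≠ 1)
    {y1 yx yt ytx ya : ℝ} (h1 : X 1 = y1) (hx : X (v₀ : G) = yx) (ht : X t = yt)
    (htx : X (t * v₀) = ytx)
    (hta : ∀ y ∈ T, y ∉ Z → Odd (orderOf y) → X (t * (y : G)) = ya) :
    0 ≤ (q + 1) * (y1 - yx) + (q - 3) * (yt - ytx) - q * (y1 + 3 * yt) + 8 * q * yt / (q + 1) +
      4 * q * (q - 1) * ya / (q + 1) := by
  classical
  have := Fintype.ofFinite (Subgroup.centralizer ({t} : Set G))
  have hc := h.chyp
  have hXc := Core.isCharacter_isClassFunction hX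
  have hY : IsCharacter (Subgroup.centralizer ({t} : Set G))
      (fun c : Subgroup.centralizer ({t} : Set G) => X (c : G)) :=
    Core.isCharacter_comp (Subgroup.subtype _) hX
  have hXu : X (u : G) = yt := by
    obtain ⟨w, hwt, -⟩ := h.swap
    rw [← hwt, hXc t w, ht]
  have hOodd : ∀ x ∈ O hc, Odd (orderOf x) := fun x hx =>
    Odd.of_dvd_nat (odd_e h.q_mod) (orderOf_dvd_of_pow_eq_one (mem_O.1 hx).2.2)
  refine TestT.test hc h.q_mod hY hv₀ hv₀1 (y1 := y1) (yx := yx) (yt := yt) (ytx := ytx) (ya := ya)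
    h1 hx ht htx hXu ?_ ?_ ?_
  · have h2 : ((tt t * u : Subgroup.centralizer ({t} : Set G)) : G) = s * u * (s : G)⁻¹ :=
      (congrArg Subtype.val hc.s_u).symm
    change X ((tt t * u : Subgroup.centralizer ({t} : Set G)) : G) = yt
    rw [h2, hXc, hXu]
  · intro x hx hx1
    refine hta x (mem_O.1 hx).1 ?_ (hOodd x hx)
    intro hxZ
    apply hx1
    apply eq_one_of_mem_O hc h.q_mod hx
    have h2 := (mem_O.1 hx).2.1
    rw [hc.Z_central x hxZ s, mul_assoc, mul_inv_cancel, mul_one] at h2
    exact h2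
  · intro x hx hx1
    obtain ⟨g, y, hyT, hyZ, hyo, hgy⟩ := exists_conj_tu h hx hx1
    change X (t * ((u : G) * x)) = ya
    rw [← hXc _ g, hgy]
    exact hta y hyT hyZ (by rw [hyo]; exact hOodd x hx)

end Cfsg.Agent.Classification.InvCentU.Test
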