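import Mathlib
import Cfsg.Agent.Classification.BGOrder
import Cfsg.Agent.Characters.DefectZero
import Cfsg.Agent.Characters.Values
import Cfsg.Agent.Classification.InvCentU.Local2
import Cfsg.Agent.Classification.InvCentU.NumB
import Cfsg.Agent.Classification.InvCentU.Five
import Cfsg.Agent.Classification.InvCentU.Test

/-!
# S0485, quasi-dihedral unitary case: `k = 1`
-/

set_option autoImplicit false

open Cfsg

namespace Cfsg.Agent.Classification.InvCentU.Excl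

open Cfsg.Agent.Characters
open Cfsg.Agent.Classification Cfsg.Agent.Classification.InvCent
open Cfsg.Agent.Classification.BGOrder
open Cfsg.Agent.Classification.InvCentU.Defs Cfsg.Agent.Classification.InvCentU.Local1
open Cfsg.Agent.Classification.InvCentU.TestT Cfsg.Agent.Classification.InvCentU.Test

variable {G : Type*} [Group G] {t : G} {p a q : ℕ}
  {Z T T' U : Subgroup (Subgroup.centralizer ({t} : Set G))}
  {s s' u : Subgroup.centralizer ({t} : Set G)}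

/-- What the exclusion uses of the characters of `G` in the principal `2`-block: `X2`, `X4` and
`L = L_θ` (`θ` faithful on the `2`-part of `T'`). -/
structure Exports [Fintype G] (h : UHyp t p a q Z T T' U s s' u) (k : ℤ) (X2 X4 L : G → ℂ) :
    Prop where
  odd_k : Odd k
  dvd1 : k ∣ (q : ℤ) * ((q : ℤ) ^ 2 - 1)
  dvd2 : (q : ℤ) - 1 + k ∣ (q : ℤ) * ((q : ℤ) - 1) ^ 2
  index : ((Subgroup.centralizer ({t} : Set G)).index : ℤ) =
    ((q : ℤ) ^ 2 - 1 + k) * ((q : ℤ) ^ 2 - q + k)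
  s2 : SignedIrr X2
  s4 : SignedIrr X4
  sL : SignedIrr L
  X2_t : X2 t = -(q : ℂ)
  X4_t : X4 t = -(q : ℂ)
  X4_tv : ∀ v ∈ U, v ≠ 1 → X4 (t * (v : G)) = 0
  X4_ty : ∀ y ∈ T, y ∉ Z → Odd (orderOf y) → X4 (t * (y : G)) = 1
  L_t : L t = (q : ℂ) + 1
  L_tv : ∀ v ∈ U, v ≠ 1 → L (t * (v : G)) = 1
  L_ty : ∀ y ∈ T, y ∉ Z → Odd (orderOf y) → L (t * (y : G)) = 0
  odd : ∀ g : G, Odd (orderOf g) → X2 g = 1 + L g
  deg2 : X2 1 * k = -((q : ℂ) * ((q : ℂ) ^ 2 - 1 + k))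
  deg4 : X4 1 * ((q : ℂ) - 1 + k) = -((q : ℂ) * ((q : ℂ) ^ 2 - q + k))

/-- The degree is an integer. -/
theorem degree_int [Fintype G] {X : G → ℂ} (hX : SignedIrr X) : ∃ N : ℤ, X 1 = N := by
  rcases hX with ⟨m, ρ, -, hρ⟩ | ⟨m, ρ, -, hρ⟩
  · refine ⟨Module.finrank ℂ (Fin m → ℂ), ?_⟩
    rw [← hρ, Representation.char_one]
    push_cast; rfl
  · refine ⟨-Module.finrank ℂ (Fin m → ℂ), ?_⟩
    have h1 : (-X) 1 = Module.finrank ℂ (Fin m → ℂ) := by
      rw [← hρ, Representation.char_one]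
    rw [Pi.neg_apply] at h1
    push_cast
    rw [← h1]
    ring

theorem vanish_irr [Fintype G] {X : G → ℂ} (hX : IsIrrCharacter G X) {N : ℤ} (hN : X 1 = N)
    {p a : ℕ} (hp : p.Prime) (hd : ((p : ℤ) ^ a) ∣ N) (h1 : p ^ a ∣ Nat.card G)
    (h2 : ¬ p ^ (a + 1) ∣ Nat.card G) {x : G} (hx : p ∣ orderOf x) : X x = 0 := by
  obtain ⟨m, ρ, hρ, rfl⟩ := hX
  have h5 : p ^ a ∣ Module.finrank ℂ (Fin m → ℂ) := by
    have h6 : (Module.finrank ℂ (Fin m → ℂ) : ℤ) = N := by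
      rw [Representation.char_one] at hN
      exact_mod_cast hN
    rw [← h6] at hd
    exact_mod_cast hd
  have h := DefectZero.character_inv_eq_zero ρ hρ p a hp h1 h2 h5 x⁻¹ (by rwa [orderOf_inv])
  rwa [inv_inv] at h

/-- Vanishing of characters of `p`-defect zero. -/
theorem vanish [Fintype G] {X : G → ℂ} (hX : SignedIrr X) {N : ℤ} (hN : X 1 = N)
    {p a : ℕ} (hp : p.Prime) (hd : ((p : ℤ) ^ a) ∣ N) (h1 : p ^ a ∣ Nat.card G)
    (h2 : ¬ p ^ (a + 1) ∣ Nat.card G) {x : G} (hx : p ∣ orderOf x) : X x = 0 := by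
  rcases hX with hX | hX
  · exact vanish_irr hX hN hp hd h1 h2 hx
  · have h3 := vanish_irr hX (N := -N) (by rw [Pi.neg_apply, hN]; push_cast; rfl) hp
      ((dvd_neg).2 hd) h1 h2 hx
    rw [Pi.neg_apply] at h3
    exact neg_eq_zero.1 h3

theorem isIrr_of_pos [Fintype G] {X : G → ℂ} (hX : SignedIrr X) {N : ℤ} (hN : X 1 = N)
    (hpos : 0 < N) : IsIrrCharacter G X := by
  rcases hX with hX | hX
  · exact hX
  · exfalso
    obtain ⟨m, ρ, -, hρ⟩ := hX
    have h1 : (-X) 1 = Module.finrank ℂ (Fin m → ℂ) := by rw [← hρ, Representation.char_one]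
    rw [Pi.neg_apply, hN] at h1
    have h2 : -N = (Module.finrank ℂ (Fin m → ℂ) : ℤ) := by exact_mod_cast h1
    omega

/-- `|X(g)| ≤ |X(1)|`. -/
theorem abs_le [Fintype G] {X : G → ℂ} (hX : SignedIrr X) {N c : ℤ} (hN : X 1 = N) {g : G}
    (hc : X g = c) : |c| ≤ |N| := by
  have key : ∀ Y : G → ℂ, IsIrrCharacter G Y → ‖Y g‖ ≤ ‖Y 1‖ := by
    rintro Y ⟨m, ρ, -, rfl⟩
    have h1 := Values.norm_character_le ρ g
    rw [Representation.char_one]
    simpa using h1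
  have h1 : ‖X g‖ ≤ ‖X 1‖ := by
    rcases hX with hX | hX
    · exact key X hX
    · have := key (-X) hX
      simpa using this
  rw [hN, hc] at h1
  have h2 : ‖(c : ℂ)‖ = ((|c| : ℤ) : ℝ) := by
    rw [Complex.norm_intCast]; push_cast; rfl
  have h3 : ‖(N : ℂ)‖ = ((|N| : ℤ) : ℝ) := by
    rw [Complex.norm_intCast]; push_cast; rfl
  rw [h2, h3] at h1
  exact_mod_cast h1

theorem p_odd (h : UHyp t p a q Z T T' U s s' u) : p ≠ 2 := by
  rintro rfl
  have h5 := h.chyp.odd_q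
  rw [h.q_eq] at h5
  exact absurd ((Nat.even_pow.2 ⟨even_two, by have := h.a_pos; omega⟩)) (Nat.not_even_iff_odd.2 h5)

theorem not_dvd_card_C (h : UHyp t p a q Z T T' U s s' u) :
    ¬ p ∣ Nat.card Z * (q ^ 2 - 1) := by
  intro h1
  have hp := h.prime
  have hpq : p ∣ q := by rw [h.q_eq]; exact dvd_pow_self p (by have := h.a_pos; omega)
  rcases (Nat.Prime.dvd_mul hp).1 h1 with h4 | h4
  · have h5 := h.chyp.base.coprime
    have h6 : p ∣ 1 := by rw [← h5]; exact Nat.dvd_gcd h4 hpq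
    exact hp.one_lt.ne' (Nat.dvd_one.1 h6)
  · have h5 : p ∣ q ^ 2 := dvd_pow hpq two_ne_zero
    have h6 : 1 ≤ q ^ 2 := Nat.one_le_pow _ _ (by have := h.chyp.one_lt_q; omega)
    have h7 : p ∣ 1 := by
      have := (Nat.dvd_sub h5 h4)
      have h8 : q ^ 2 - (q ^ 2 - 1) = 1 := by omega
      rwa [h8] at this
    exact hp.one_lt.ne' (Nat.dvd_one.1 h7)

theorem card_G [Finite G] (h : UHyp t p a q Z T T' U s s' u) :
    Nat.card G = (Subgroup.centralizer ({t} : Set G)).index * (Nat.card Z * (q ^ 2 - 1)) * q := by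
  rw [← (Subgroup.centralizer ({t} : Set G)).index_mul_card, h.chyp.card_C]
  ring

/-- `|G|_p = q` if `p` does not divide the index. -/
theorem card_G_p [Finite G] (h : UHyp t p a q Z T T' U s s' u)
    (hi : ¬ p ∣ (Subgroup.centralizer ({t} : Set G)).index) :
    p ^ a ∣ Nat.card G ∧ ¬ p ^ (a + 1) ∣ Nat.card G := by
  rw [card_G h]
  constructor
  · rw [← h.q_eq]; exact dvd_mul_left _ _
  · intro h1
    rw [h.q_eq, pow_succ'] at h1
    have h2 := Nat.dvd_of_mul_dvd_mul_right (pow_pos h.prime.pos a) h1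
    rcases (Nat.Prime.dvd_mul h.prime).1 h2 with h3 | h3
    · exact hi h3
    · apply not_dvd_card_C h
      rw [h.q_eq]; exact h3

theorem orderOf_U [Finite G] (h : UHyp t p a q Z T T' U s s' u)
    {v : Subgroup.centralizer ({t} : Set G)} (hv : v ∈ U) (hv1 : v ≠ 1) : p ∣ orderOf (v : G) := by
  have h1 : orderOf v ∣ p ^ a := by
    rw [← h.q_eq]; exact orderOf_dvd_of_pow_eq_one (h.chyp.base.pow_card_U hv)
  obtain ⟨j, -, hj⟩ := (Nat.dvd_prime_pow h.prime).1 h1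
  have hj0 : j ≠ 0 := by
    rintro rfl
    rw [pow_zero] at hj
    exact hv1 (orderOf_eq_one_iff.1 hj)
  rw [Subgroup.orderOf_coe, hj]
  exact dvd_pow_self p hj0

theorem odd_U [Finite G] (h : UHyp t p a q Z T T' U s s' u)
    {v : Subgroup.centralizer ({t} : Set G)} (hv : v ∈ U) : Odd (orderOf (v : G)) := by
  rw [Subgroup.orderOf_coe]
  exact Odd.of_dvd_nat h.chyp.odd_q (orderOf_dvd_of_pow_eq_one (h.chyp.base.pow_card_U hv))

section

variable [Fintype G] {h : UHyp t p a q Z T T' U s s' u} {k : ℤ} {X2 X4 L : G → ℂ}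

theorem pos (E : Exports h k X2 X4 L) :
    0 < ((q : ℤ) ^ 2 - 1 + k) * ((q : ℤ) ^ 2 - q + k) := by
  rw [← E.index]
  exact_mod_cast Nat.pos_of_ne_zero Subgroup.index_ne_zero_of_finite

theorem p_not_dvd_index (E : Exports h k X2 X4 L) (hpk : ¬ (p : ℤ) ∣ k * (k - 1)) :
    ¬ p ∣ (Subgroup.centralizer ({t} : Set G)).index := by
  intro h1
  apply hpk
  have h2 : (p : ℤ) ∣ ((q : ℤ) ^ 2 - 1 + k) * ((q : ℤ) ^ 2 - q + k) := by
    rw [← E.index]; exact_mod_cast h1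
  have hpq : (p : ℤ) ∣ q := by
    exact_mod_cast (by rw [h.q_eq]; exact dvd_pow_self p (by have := h.a_pos; omega) : p ∣ q)
  have h3 : ((q : ℤ) ^ 2 - 1 + k) * ((q : ℤ) ^ 2 - q + k) - k * (k - 1) =
      q * ((q : ℤ) * (q ^ 2 - q + k) + (k - 1) * (q - 1)) := by ring
  have h4 : (p : ℤ) ∣ ((q : ℤ) ^ 2 - 1 + k) * ((q : ℤ) ^ 2 - q + k) - k * (k - 1) := by
    rw [h3]; exact Dvd.dvd.mul_right hpq _
  have h5 := dvd_sub h2 h4
  rwa [sub_sub_cancel] at h5

/-- The first test. -/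
theorem testA (E : Exports h k X2 X4 L) (hpk : ¬ (p : ℤ) ∣ k * (k - 1)) :
    0 < (q : ℤ) - 1 + k → 2 * ((q : ℤ) - 1 + k) ≤ q - 1 := by
  intro hm
  have hq1 := h.chyp.one_lt_q
  obtain ⟨N, hN⟩ := degree_int E.s4
  have hdeg : N * ((q : ℤ) - 1 + k) = -((q : ℤ) * ((q : ℤ) ^ 2 - q + k)) := by
    have := E.deg4
    rw [hN] at this
    exact_mod_cast this
  have hq1' : (1 : ℤ) < q := by exact_mod_cast hq1
  have hn := pos E
  have h1 : 0 < (q : ℤ) ^ 2 - 1 + k := by nlinarith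
  have h2 : 0 < (q : ℤ) ^ 2 - q + k := (pos_iff_pos_of_mul_pos hn).1 h1
  have hN0 : N < 0 := by
    by_contra hcon
    push Not at hcon
    have h3 := mul_nonneg hcon hm.le
    have h4 : 0 < (q : ℤ) * ((q : ℤ) ^ 2 - q + k) := mul_pos (by omega) h2
    omega
  have hS : SignedIrr (-X4) := by
    rcases E.s4 with h3 | h3
    · exact Or.inr (by rwa [neg_neg])
    · exact Or.inl h3
  have hI : IsIrrCharacter G (-X4) :=
    isIrr_of_pos hS (N := -N) (by rw [Pi.neg_apply, hN]; push_cast; rfl) (by omega)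
  -- defect zero
  have hpq : (p : ℤ) ∣ q := by
    exact_mod_cast (by rw [h.q_eq]; exact dvd_pow_self p (by have := h.a_pos; omega) : p ∣ q)
  have hpm : ¬ (p : ℤ) ∣ (q : ℤ) - 1 + k := by
    intro h3
    apply hpk
    have h4 : (p : ℤ) ∣ k - 1 := by
      have h5 := dvd_sub h3 hpq
      have h6 : (q : ℤ) - 1 + k - q = k - 1 := by ring
      rwa [h6] at h5
    exact Dvd.dvd.mul_left h4 k
  have hpZ : Prime (p : ℤ) := Nat.prime_iff_prime_int.1 h.prime
  have hqe : (q : ℤ) = (p : ℤ) ^ a := by rw [h.q_eq]; push_cast; rfl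
  have hdN : (p : ℤ) ^ a ∣ N := by
    have h3 : (p : ℤ) ^ a ∣ N * ((q : ℤ) - 1 + k) := by
      rw [hdeg, ← hqe]
      exact (dvd_neg).2 (dvd_mul_right _ _)
    exact (((hpZ.coprime_iff_not_dvd).2 hpm).pow_left (m := a)).dvd_of_dvd_mul_right h3
  obtain ⟨hG1, hG2⟩ := card_G_p h (p_not_dvd_index E hpk)
  obtain ⟨v₀, hv₀, hv₀1⟩ := h.chyp.base.exists_ne_one
  have hv0 : X4 (v₀ : G) = 0 := vanish E.s4 hN h.prime hdN hG1 hG2 (orderOf_U h hv₀ hv₀1)
  have htest := Test.test h (Core.isIrr_isCharacter hI) hv₀ hv₀1 (y1 := -(N : ℝ)) (yx := 0)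
    (yt := (q : ℝ)) (ytx := 0) (ya := -1) (by rw [Pi.neg_apply, hN]; push_cast; rfl)
    (by rw [Pi.neg_apply, hv0]; simp) (by rw [Pi.neg_apply, E.X4_t]; push_cast; ring)
    (by rw [Pi.neg_apply, E.X4_tv v₀ hv₀ hv₀1]; simp)
    (fun y hy hyZ hyo => by rw [Pi.neg_apply, E.X4_ty y hy hyZ hyo]; push_cast; rfl)
  have hqR : (0 : ℝ) < q := by exact_mod_cast (by omega : 0 < q)
  have h3 : ((q : ℝ) + 1) * (-(N : ℝ) - 0) + (q - 3) * (q - 0) - q * (-(N : ℝ) + 3 * q) +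
      8 * q * q / (q + 1) + 4 * q * (q - 1) * (-1) / (q + 1) = -(N : ℝ) - (2 * q ^ 2 - q) := by
    have : (q : ℝ) + 1 ≠ 0 := by positivity
    field_simp
    ring
  rw [h3] at htest
  have h4 : 2 * (q : ℤ) ^ 2 - q ≤ -N := by
    have : ((2 * (q : ℤ) ^ 2 - q : ℤ) : ℝ) ≤ ((-N : ℤ) : ℝ) := by push_cast; linarith
    exact_mod_cast this
  have h5 : (2 * (q : ℤ) ^ 2 - q) * (q - 1 + k) ≤ (-N) * (q - 1 + k) :=
    mul_le_mul_of_nonneg_right h4 hm.le
  have h6 : (-N) * ((q : ℤ) - 1 + k) = q * ((q : ℤ) ^ 2 - q + k) := by linear_combination -hdeg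
  rw [h6] at h5
  have h7 : (q : ℤ) * ((2 * q - 1) * (q - 1 + k)) ≤ q * ((q : ℤ) ^ 2 - q + k) := by
    have : (2 * (q : ℤ) ^ 2 - q) * (q - 1 + k) = q * ((2 * q - 1) * (q - 1 + k)) := by ring
    rwa [this] at h5
  have h8 := le_of_mul_le_mul_left h7 (by omega)
  have h9 : ((q : ℤ) - 1) * (2 * (q - 1 + k)) ≤ (q - 1) * (q - 1) := by nlinarith
  exact le_of_mul_le_mul_left h9 (by omega)

/-- The second test. -/
theorem testB (E : Exports h k X2 X4 L) (hpk : ¬ (p : ℤ) ∣ k * (k - 1)) :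
    k < 0 → -2 * k ≤ (q : ℤ) + 1 := by
  intro hk
  have hq1 := h.chyp.one_lt_q
  obtain ⟨N, hN⟩ := degree_int E.s2
  have hdeg : N * k = -((q : ℤ) * ((q : ℤ) ^ 2 - 1 + k)) := by
    have := E.deg2
    rw [hN] at this
    exact_mod_cast this
  have hq1' : (1 : ℤ) < q := by exact_mod_cast hq1
  have hn := pos E
  have habs : (q : ℤ) ≤ |N| := by
    have := abs_le E.s2 hN (g := t) (c := -(q : ℤ)) (by rw [E.X2_t]; push_cast; rfl)
    rw [abs_neg] at this
    rwa [abs_of_pos (by omega : (0 : ℤ) < q)] at this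
  have h1 : 0 < (q : ℤ) ^ 2 - 1 + k := by
    by_contra hcon
    push Not at hcon
    have h0 : (q : ℤ) ^ 2 - 1 + k ≠ 0 := by
      intro h0
      rw [h0, zero_mul] at hn
      exact lt_irrefl _ hn
    have h2 : (q : ℤ) ^ 2 - 1 + k < 0 := lt_of_le_of_ne hcon h0
    have h3 : N < 0 := by
      by_contra h4
      push Not at h4
      have h5 : N * k ≤ 0 := mul_nonpos_of_nonneg_of_nonpos h4 hk.le
      have h6 : 0 < -((q : ℤ) * ((q : ℤ) ^ 2 - 1 + k)) := by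
        have := mul_neg_of_pos_of_neg (by omega : (0 : ℤ) < q) h2
        omega
      omega
    rw [abs_of_neg h3] at habs
    have h4 : (-N) * (-k) < q * (-k) := by
      have e1 : (-N) * (-k) = -((q : ℤ) * ((q : ℤ) ^ 2 - 1 + k)) := by rw [← hdeg]; ring
      rw [e1]
      have : 0 < (q : ℤ) * ((q : ℤ) ^ 2 - 1) := mul_pos (by omega) (by nlinarith)
      linarith
    have h5 := lt_of_mul_lt_mul_right h4 (by omega)
    omega
  have hN0 : 0 < N := by
    by_contra hcon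
    push Not at hcon
    have h3 : 0 ≤ N * k := mul_nonneg_of_nonpos_of_nonpos hcon hk.le
    have h4 : 0 < (q : ℤ) * ((q : ℤ) ^ 2 - 1 + k) := mul_pos (by omega) h1
    omega
  rw [abs_of_pos hN0] at habs
  have hL1 : L 1 = ((N - 1 : ℤ) : ℂ) := by
    have h2 := E.odd 1 (by rw [orderOf_one]; exact odd_one)
    rw [hN] at h2
    push_cast
    rw [h2]; ring
  have hI : IsIrrCharacter G L := isIrr_of_pos E.sL hL1 (by omega)
  -- defect zero
  have hpk' : ¬ (p : ℤ) ∣ k := fun h3 => hpk (Dvd.dvd.mul_right h3 _)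
  have hpZ : Prime (p : ℤ) := Nat.prime_iff_prime_int.1 h.prime
  have hqe : (q : ℤ) = (p : ℤ) ^ a := by rw [h.q_eq]; push_cast; rfl
  have hdN : (p : ℤ) ^ a ∣ N := by
    have h3 : (p : ℤ) ^ a ∣ N * k := by
      rw [hdeg, ← hqe]
      exact (dvd_neg).2 (dvd_mul_right _ _)
    exact (((hpZ.coprime_iff_not_dvd).2 hpk').pow_left (m := a)).dvd_of_dvd_mul_right h3
  obtain ⟨hG1, hG2⟩ := card_G_p h (p_not_dvd_index E hpk)
  obtain ⟨v₀, hv₀, hv₀1⟩ := h.chyp.base.exists_ne_one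
  have hv0 : X2 (v₀ : G) = 0 := vanish E.s2 hN h.prime hdN hG1 hG2 (orderOf_U h hv₀ hv₀1)
  have hLv : L (v₀ : G) = -1 := by
    have h2 := E.odd _ (odd_U h hv₀)
    rw [hv0] at h2
    linear_combination -h2
  have htest := Test.test h (Core.isIrr_isCharacter hI) hv₀ hv₀1 (y1 := (N : ℝ) - 1) (yx := -1)
    (yt := (q : ℝ) + 1) (ytx := 1) (ya := 0) (by rw [hL1]; push_cast; rfl)
    (by rw [hLv]; push_cast; rfl) (by rw [E.L_t]; push_cast; rfl)
    (by rw [E.L_tv v₀ hv₀ hv₀1]; simp)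
    (fun y hy hyZ hyo => by rw [E.L_ty y hy hyZ hyo]; simp)
  have hqR : (0 : ℝ) < q := by exact_mod_cast (by omega : 0 < q)
  have h3 : ((q : ℝ) + 1) * (((N : ℝ) - 1) - -1) + (q - 3) * (((q : ℝ) + 1) - 1) -
      q * (((N : ℝ) - 1) + 3 * ((q : ℝ) + 1)) +
      8 * q * ((q : ℝ) + 1) / (q + 1) + 4 * q * (q - 1) * 0 / (q + 1) =
      (N : ℝ) - (2 * q ^ 2 - 3 * q) := by
    have : (q : ℝ) + 1 ≠ 0 := by positivity
    field_simp
    ring
  rw [h3] at htest
  have h4 : 2 * (q : ℤ) ^ 2 - 3 * q ≤ N := by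
    have : ((2 * (q : ℤ) ^ 2 - 3 * q : ℤ) : ℝ) ≤ ((N : ℤ) : ℝ) := by push_cast; linarith
    exact_mod_cast this
  have h5 : (2 * (q : ℤ) ^ 2 - 3 * q) * (-k) ≤ N * (-k) :=
    mul_le_mul_of_nonneg_right h4 (by omega)
  have h6 : N * (-k) = q * ((q : ℤ) ^ 2 - 1 + k) := by linear_combination -hdeg
  rw [h6] at h5
  have h7 : (q : ℤ) * ((2 * q - 3) * (-k)) ≤ q * ((q : ℤ) ^ 2 - 1 + k) := by
    have : (2 * (q : ℤ) ^ 2 - 3 * q) * (-k) = q * ((2 * q - 3) * (-k)) := by ring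
    rwa [this] at h5
  have h8 := le_of_mul_le_mul_left h7 (by omega)
  have h9 : ((q : ℤ) - 1) * (-2 * k) ≤ (q - 1) * (q + 1) := by nlinarith
  exact le_of_mul_le_mul_left h9 (by omega)

/-- **The exclusion of `k ≠ 1`.** -/
theorem k_eq_one [IsSimpleGroup G] (E : Exports h k X2 X4 L) : k = 1 := by
  have hqe : (q : ℤ) = (p : ℤ) ^ a := by rw [h.q_eq]; push_cast; rfl
  have hq4 : (q : ℤ) % 4 = 1 := by have := h.q_mod; omega
  have hn := pos E
  have hdich : ¬ (p : ℤ) ∣ ((q : ℤ) ^ 2 - 1 + k) * ((q : ℤ) ^ 2 - q + k) ∨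
      (p : ℤ) ^ (a + 1) ∣ ((q : ℤ) ^ 2 - 1 + k) * ((q : ℤ) ^ 2 - q + k) := by
    rw [← E.index]
    rcases Local2.dichotomy h with h1 | h1
    · left
      intro h2
      exact h1 (by exact_mod_cast h2)
    · right
      exact_mod_cast h1
  rcases NumB.of_dichotomy h.prime h.a_pos hqe hq4 E.odd_k E.dvd1 E.dvd2 hn hdich with h1 | hpk
  · exact h1
  exfalso
  obtain ⟨hq5, hk3⟩ := NumB.of_tests h.prime h.a_pos hqe hq4 E.odd_k E.dvd1 E.dvd2 hn hpk
    (testA E hpk) (testB E hpk)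
  have hq5' : q = 5 := by exact_mod_cast hq5
  have hpa : p = 5 ∧ a = 1 := by
    have h1 : p ^ a = 5 := by rw [← h.q_eq, hq5']
    exact ((Nat.prime_five).pow_eq_iff).1 h1
  have hidx : (Subgroup.centralizer ({t} : Set G)).index = 357 := by
    have h1 := E.index
    rw [hk3, hq5] at h1
    have h2 : ((Subgroup.centralizer ({t} : Set G)).index : ℤ) = 357 := by rw [h1]; norm_num
    exact_mod_cast h2
  have h' : UHyp t 5 1 5 Z T T' U s s' u := by
    have h0 := h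
    obtain ⟨rfl, rfl⟩ := hpa
    subst hq5'
    exact h0
  obtain ⟨K, h1, h2, h3, h4, h5, h6, -, h7⟩ := Local2.exists_core h'
  exact Five.false_aux h' hidx h1 h2 h3 h4 h5 h6 h7

theorem index_eq [IsSimpleGroup G] (E : Exports h k X2 X4 L) :
    (Subgroup.centralizer ({t} : Set G)).index = q ^ 2 * (q ^ 2 - q + 1) := by
  have h1 := E.index
  rw [k_eq_one E] at h1
  have h2 : q ≤ q ^ 2 := by nlinarith [h.chyp.one_lt_q]
  zify [h2]
  rw [h1]; ring

end

end Cfsg.Agent.Classification.InvCentU.Excl
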