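import Mathlib
import Cfsg.Agent.Classification.InvCent.SDEnd
import Cfsg.Agent.Classification.InvCent.InstGU
import Cfsg.Agent.Classification.InvCentU.Excl

/-!
# S0485, quasi-dihedral unitary case: the index of `C_G(t)`
-/

set_option autoImplicit false

open Cfsg

namespace Cfsg.Agent.Classification.InvCentU.Main

open Cfsg.Agent.Characters
open Cfsg.Agent.Classification Cfsg.Agent.Classification.InvCent
open Cfsg.Agent.Classification.BGOrder
open Cfsg.Agent.Classification.InvCentU.Defs Cfsg.Agent.Classification.InvCentU.Excl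

universe w

/-- The index, from `UHyp` and the determinant character. -/
theorem index_eq {G : Type w} [Group G] [Finite G] [IsSimpleGroup G] {t : G} {p a q : ℕ}
    {Z T T' U : Subgroup (Subgroup.centralizer ({t} : Set G))}
    {s s' u : Subgroup.centralizer ({t} : Set G)} (h : UHyp t p a q Z T T' U s s' u)
    {r : ℕ} {b : Subgroup.centralizer ({t} : Set G) →* ℂˣ} (hD : DetHyp q (-1) T T' U s s' u r b) :
    (Subgroup.centralizer ({t} : Set G)).index = q ^ 2 * (q ^ 2 - q + 1) := by
  have := Fintype.ofFinite G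
  have := Fintype.ofFinite (Subgroup.centralizer ({t} : Set G))
  have hc := h.chyp
  have h4 : ¬ (4 : ℤ) ∣ q - (-1) := by
    have := h.q_mod
    omega
  obtain ⟨M, μ, X₂, X₃, X₄, X₅, L, f, x, k, -, hμ, R, k1, k2, k3, k4, k5, k6⟩ :=
    SDEnd.exists_data (t := tt t) rfl hc hD h4
  have hne : ((-1 : ℤ)) ≠ - -1 := by norm_num
  have hne' : (- -1 : ℤ) ≠ -1 := by norm_num
  have E : Exports h k X₂ X₄ L :=
    { odd_k := k1
      dvd1 := by
        have e1 : (-1 : ℤ) * q * ((-1 * q) ^ 2 - 1) = -((q : ℤ) * ((q : ℤ) ^ 2 - 1)) := by ring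
        rw [e1] at k2
        exact (dvd_neg).1 k2
      dvd2 := by
        have e1 : (-1 : ℤ) * q + 1 - k = -((q : ℤ) - 1 + k) := by ring
        have e2 : (-1 : ℤ) * q * (-1 * q + 1) ^ 2 = -((q : ℤ) * ((q : ℤ) - 1) ^ 2) := by ring
        rw [e1, e2] at k3
        exact (neg_dvd).1 ((dvd_neg).1 k3)
      index := by rw [k4]; ring
      s2 := R.in₂.signedIrr
      s4 := R.in₄.signedIrr
      sL := R.inL.signedIrr
      X2_t := by rw [R.t₂]; push_cast; ring
      X4_t := by rw [R.t₄]; push_cast; ring
      X4_tv := by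
        intro v hv hv1
        have h1 := R.val₄ (tt t * v) v rfl
          (Odd.of_dvd_nat hc.odd_q (orderOf_dvd_of_pow_eq_one (hc.base.pow_card_U hv)))
        have h2 := hc.torus.R_ZU hc.base hμ (fun _ => 1) (one_mem Z) hv hv1
        have h3 := hc.torus'.R_ZU hc.base hμ (fun _ => 1) (one_mem Z) hv hv1
        rw [one_mul] at h2 h3
        rw [h2, h3] at h1
        change X₄ ((tt t * v : Subgroup.centralizer ({t} : Set G)) : G) = 0
        rw [h1]; norm_num
      X4_ty := by
        intro y hy hyZ hyo
        have h1 := R.val₄ (tt t * y) y rfl hyo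
        have h2 := hc.torus.R_T hc.base (μ := μ) (fun _ => 1) hy hyZ
        have h3 := hc.torus'.R_T' hc.torus hne hc.base (μ := μ) (fun _ => 1) hy hyZ
        rw [h2, h3] at h1
        change X₄ ((tt t * y : Subgroup.centralizer ({t} : Set G)) : G) = 1
        rw [h1]; norm_num
      L_t := by rw [R.tL]; push_cast; ring
      L_tv := by
        intro v hv hv1
        have h1 := R.valL (tt t * v) v rfl
          (Odd.of_dvd_nat hc.odd_q (orderOf_dvd_of_pow_eq_one (hc.base.pow_card_U hv)))
        have h2 := hc.torus.R_ZU hc.base hμ (fun _ => 1) (one_mem Z) hv hv1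
        have h3 := hc.torus'.R_ZU hc.base hμ (fun _ => 1) (one_mem Z) hv hv1
        rw [one_mul] at h2 h3
        rw [h2, h3] at h1
        change L ((tt t * v : Subgroup.centralizer ({t} : Set G)) : G) = 1
        rw [h1]; norm_num
      L_ty := by
        intro y hy hyZ hyo
        have h1 := R.valL (tt t * y) y rfl hyo
        have h2 := hc.torus.R_T hc.base (μ := μ) (fun _ => 1) hy hyZ
        have h3 := hc.torus'.R_T' hc.torus hne hc.base (μ := μ) (fun _ => 1) hy hyZ
        rw [h2, h3] at h1
        change L ((tt t * y : Subgroup.centralizer ({t} : Set G)) : G) = 0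
        rw [h1]; norm_num
      odd := by
        intro g hg
        have := R.odd_L g hg
        linear_combination -this
      deg2 := by
        rw [R.one₂]
        have : ((f * k : ℤ) : ℂ) = ((-((q : ℤ) * ((q : ℤ) ^ 2 - 1 + k)) : ℤ) : ℂ) := by
          rw [k5]; congr 1; ring
        push_cast at this
        rw [this]
      deg4 := by
        rw [R.one₄]
        have : ((x * ((q : ℤ) - 1 + k) : ℤ) : ℂ) =
            ((-((q : ℤ) * ((q : ℤ) ^ 2 - q + k)) : ℤ) : ℂ) := by
          congr 1
          linear_combination -k6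
        push_cast at this
        rw [this] }
  exact Excl.index_eq E

/-- **S0485, `q ≡ 1 mod 4`: the index of the centralizer.** -/
theorem index_of_centralizer {G : Type w} [Group G] [Finite G] [IsSimpleGroup G] {F : Type*}
    [Field F] [Fintype F] (q : ℕ) (hq : q % 4 = 1) (hq1 : 1 < q) (hF : Fintype.card F = q ^ 2)
    (Z : Subgroup (Cfsg.GU 2 F q)) [Z.Normal] (hZc : Z ≤ Subgroup.center (Cfsg.GU 2 F q))
    (hZo : Odd (Nat.card Z)) (t : G) (ht : orderOf t = 2)
    (hC : Nonempty (Subgroup.centralizer ({t} : Set G) ≃* (Cfsg.GU 2 F q ⧸ Z))) :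
    (Subgroup.centralizer ({t} : Set G)).index = q ^ 2 * (q ^ 2 - q + 1) := by
  obtain ⟨p, a, hp, ha, hqe⟩ := InstGU.exists_prime_pow (F := F) hF hq1
  have hqo : Odd q := by rw [Nat.odd_iff]; omega
  obtain ⟨t', Z', T, T', U, s, s', u, r, b, ht', hc, hD, hn⟩ :=
    InstGU.exists_of_centralizer hqo hF Z hZc hZo ht hC
  have htt : t' = tt t := Subtype.ext ht'
  subst htt
  have hU : UHyp t p a q Z' T T' U s s' u :=
    { prime := hp
      a_pos := ha
      q_eq := hqe
      q_mod := hq
      chyp := hc
      norm_U := hn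
      conj := fun x y hx hy => (Fusion.isConj rfl hc x hx).symm.trans (Fusion.isConj rfl hc y hy)
      swap := Fusion.exists_swap rfl hc }
  exact index_eq hU hD

end Cfsg.Agent.Classification.InvCentU.Main
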