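import Mathlib

/-!
# Number theory for S0485 (quasi-dihedral unitary case)

`n = |G:C(t)| = (q^2-1+k)(q^2-q+k)` with `k` odd, `k | q(q^2-1)`, `q-1+k | q(q-1)^2`.
If `k` is prime to `q-1` then `k` is one of `1`, `-q`, or `(q,k)` is `(3,-1)`, `(5,-3)`, `(9,-5)`.
-/

set_option autoImplicit false

namespace Cfsg.Agent.Classification.InvCentU.Num

/-- The list of `k` prime to `q-1`. -/
theorem list {p a : ℕ} {q k : ℤ} (hp : p.Prime) (hp2 : p ≠ 2) (ha : 1 ≤ a) (hq : q = (p : ℤ) ^ a)
    (h1 : k ∣ q * (q ^ 2 - 1)) (h2 : q - 1 + k ∣ q * (q - 1) ^ 2) (hc : IsCoprime k (q - 1)) :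
    k = 1 ∨ k = -q ∨ (q = 3 ∧ k = -1) ∨ (q = 5 ∧ k = -3) ∨ (q = 9 ∧ k = -5) := by
  have hp3 : 3 ≤ p := by
    have := hp.two_le
    omega
  have hpZ : Prime (p : ℤ) := Nat.prime_iff_prime_int.1 hp
  -- `m` is prime to `q - 1`
  have hm : IsCoprime (q - 1 + k) (q - 1) := by
    have := hc.add_mul_left_left 1
    simpa [add_comm] using this
  have hm' : q - 1 + k ∣ (p : ℤ) ^ a := by
    rw [← hq]
    exact (hm.pow_right (n := 2)).dvd_of_dvd_mul_right h2
  have hk' : k ∣ q * (q + 1) := by
    have : k ∣ (q * (q + 1)) * (q - 1) := by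
      have e : q * (q ^ 2 - 1) = (q * (q + 1)) * (q - 1) := by ring
      rwa [e] at h1
    exact hc.dvd_of_dvd_mul_right this
  obtain ⟨i, hia, hi⟩ := (dvd_prime_pow hpZ a).1 hm'
  have hpa : (3 : ℤ) ≤ q := by
    rw [hq]
    calc (3 : ℤ) ≤ (p : ℤ) ^ 1 := by simpa using (by exact_mod_cast hp3 : (3 : ℤ) ≤ (p : ℤ))
      _ ≤ (p : ℤ) ^ a := pow_le_pow_right₀ (by exact_mod_cast hp.one_le) ha
  -- `k` prime to `p` if `0 < i < a` or `i = 0` etc.
  have key : ¬ (p : ℤ) ∣ k → k ∣ q + 1 := by
    intro hpk
    have : IsCoprime k q := by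
      rw [hq]
      exact ((hpZ.coprime_iff_not_dvd).2 hpk).symm.pow_right
    exact this.dvd_of_dvd_mul_left hk'
  have hdvdq : (p : ℤ) ∣ q := by
    rw [hq]
    exact dvd_pow_self _ (by omega)
  have hnot1 : ¬ (p : ℤ) ∣ 1 := fun h => hpZ.not_isUnit (isUnit_of_dvd_one h)
  have hqodd : Odd q := by
    rw [hq]
    have : Odd p := hp.odd_of_ne_two hp2
    exact (by exact_mod_cast this.pow : Odd ((p : ℤ) ^ a))
  have hpow3 : i < a → 3 * (p : ℤ) ^ i ≤ q := by
    intro hlt
    rw [hq]
    calc 3 * (p : ℤ) ^ i ≤ (p : ℤ) * (p : ℤ) ^ i := by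
            have : (3 : ℤ) ≤ (p : ℤ) := by exact_mod_cast hp3
            have h0 : (0 : ℤ) ≤ (p : ℤ) ^ i := by positivity
            exact mul_le_mul_of_nonneg_right this h0
      _ = (p : ℤ) ^ (i + 1) := by ring
      _ ≤ (p : ℤ) ^ a := pow_le_pow_right₀ (by exact_mod_cast hp.one_le) hlt
  have hpi : 1 ≤ i → (3 : ℤ) ≤ (p : ℤ) ^ i := by
    intro h
    calc (3 : ℤ) ≤ (p : ℤ) ^ 1 := by simpa using (by exact_mod_cast hp3 : (3 : ℤ) ≤ (p : ℤ))
      _ ≤ (p : ℤ) ^ i := pow_le_pow_right₀ (by exact_mod_cast hp.one_le) h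
  have hpdi : 1 ≤ i → (p : ℤ) ∣ (p : ℤ) ^ i := fun h => dvd_pow_self _ (by omega)
  rw [Int.associated_iff] at hi
  rcases hi with hi | hi
  · -- `m = p ^ i`
    have hk : k = 1 - q + (p : ℤ) ^ i := by linarith
    rcases Nat.lt_or_ge i a with hlt | hge
    · rcases Nat.eq_zero_or_pos i with h0 | hpos
      · -- `k = 2 - q`
        subst h0
        have hk2 : k = 2 - q := by rw [hk]; ring
        have hpk : ¬ (p : ℤ) ∣ k := by
          intro h
          have : (p : ℤ) ∣ 2 := by
            have := dvd_add h hdvdq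
            rw [hk2] at this
            simpa using this
          have h2 := Int.le_of_dvd (by norm_num) this
          have : (3 : ℤ) ≤ (p : ℤ) := by exact_mod_cast hp3
          omega
        have h3 : q - 2 ∣ q + 1 := by
          have := key hpk
          rw [hk2] at this
          rw [show (2 - q : ℤ) = -(q - 2) by ring, neg_dvd] at this
          exact this
        have h4 : q - 2 ∣ 3 := by
          have := dvd_sub h3 (dvd_refl (q - 2))
          have e : q + 1 - (q - 2) = 3 := by ring
          rwa [e] at this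
        have h5 := Int.le_of_dvd (by norm_num) h4
        have : q = 3 ∨ q = 4 ∨ q = 5 := by omega
        rcases this with h | h | h
        · right; right; left; exact ⟨h, by omega⟩
        · exfalso
          rw [h] at hqodd
          exact absurd hqodd (by decide)
        · right; right; right; left; exact ⟨h, by omega⟩
      · have hpk : ¬ (p : ℤ) ∣ k := by
          intro h
          have : (p : ℤ) ∣ 1 := by
            have h' := dvd_sub (dvd_add h hdvdq) (hpdi hpos)
            rw [hk] at h'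
            have e : 1 - q + (p : ℤ) ^ i + q - (p : ℤ) ^ i = 1 := by ring
            rwa [e] at h'
          exact hnot1 this
        have h3 : q - 1 - (p : ℤ) ^ i ∣ q + 1 := by
          have := key hpk
          rw [hk, show (1 - q + (p : ℤ) ^ i : ℤ) = -(q - 1 - (p : ℤ) ^ i) by ring, neg_dvd] at this
          exact this
        have h6 := hpow3 hlt
        have h7 := hpi hpos
        obtain ⟨c, hc'⟩ := h3
        have hmpos : 0 < q - 1 - (p : ℤ) ^ i := by linarith
        have hc2 : 2 ≤ c := by
          by_contra hcon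
          have hc1 : c ≤ 1 := by omega
          nlinarith
        have h8 : 2 * (q - 1 - (p : ℤ) ^ i) ≤ q + 1 := by
          rw [hc']
          nlinarith
        have h9 : (p : ℤ) ^ i = 3 ∧ q = 9 := by constructor <;> linarith
        right; right; right; right
        exact ⟨h9.2, by rw [hk, h9.1, h9.2]; norm_num⟩
    · have : i = a := le_antisymm hia hge
      left
      rw [hk, this, ← hq]; ring
  · have hk : k = 1 - q - (p : ℤ) ^ i := by linarith
    rcases Nat.eq_zero_or_pos i with h0 | hpos
    · right; left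
      rw [hk, h0]; ring
    · exfalso
      have hpk : ¬ (p : ℤ) ∣ k := by
        intro h
        have : (p : ℤ) ∣ 1 := by
          have h' := dvd_add (dvd_add h hdvdq) (hpdi hpos)
          rw [hk] at h'
          have e : 1 - q - (p : ℤ) ^ i + q + (p : ℤ) ^ i = 1 := by ring
          rwa [e] at h'
        exact hnot1 this
      have h3 : q - 1 + (p : ℤ) ^ i ∣ q + 1 := by
        have := key hpk
        rw [hk, show (1 - q - (p : ℤ) ^ i : ℤ) = -(q - 1 + (p : ℤ) ^ i) by ring, neg_dvd] at this
        exact this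
      have h7 := hpi hpos
      have := Int.le_of_dvd (by linarith) h3
      linarith

end Cfsg.Agent.Classification.InvCentU.Num
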